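import Cfsg.Agent.H919.AschDefs2

/-!
# The minimal normal subgroup split (helper919)

`C_split`: if every normal subgroup of the irreducible group `H` is scalar or absolutely irreducible,
then `H` has a non-scalar normal subgroup with scalar commutators, or it permutes the factors of a
tensor power decomposition coming from commuting perfect subgroups, or it has a normal perfect
absolutely irreducible subgroup which is simple modulo scalars.
-/

set_option autoImplicit false
set_option linter.unusedSectionVars false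

namespace Cfsg.Agent.H919

open Cfsg Cfsg.Geo
open scoped MatrixGroups Matrix Kronecker commutatorElement

section GroupTheory

variable {G : Type*} [Group G]

/-- An element which commutes with a perfect subgroup modulo a central subgroup commutes with it. -/
lemma commute_of_perfect {P Z : Subgroup G} (hP : ⁅P, P⁆ = P) (hZ : ∀ z ∈ Z, ∀ x : G, z * x = x * z)
    {g : G} (h : ∀ x ∈ P, g * x * g⁻¹ * x⁻¹ ∈ Z) : ∀ x ∈ P, g * x = x * g := by
  have key : ⁅P, P⁆ ≤ Subgroup.centralizer {g} := by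
    rw [Subgroup.commutator_le]
    intro x hx y hy
    rw [Subgroup.mem_centralizer_iff]
    intro g' hg'
    rw [Set.mem_singleton_iff] at hg'
    subst hg'
    -- g x = z x g, g y = w y g
    obtain ⟨z, hz, hxz⟩ : ∃ z ∈ Z, g' * x * g'⁻¹ = z * x := ⟨_, h x hx, by group⟩
    obtain ⟨w, hw, hyw⟩ : ∃ z ∈ Z, g' * y * g'⁻¹ = z * y := ⟨_, h y hy, by group⟩
    have h1 : g' * ⁅x, y⁆ * g'⁻¹ = ⁅g' * x * g'⁻¹, g' * y * g'⁻¹⁆ := by
      simp only [commutatorElement_def]; group
    have h2 : ⁅z * x, w * y⁆ = ⁅x, y⁆ := by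
      simp only [commutatorElement_def, mul_inv_rev]
      have hz1 := hZ z hz
      have hw1 := hZ w hw
      have hz2 := hZ z⁻¹ (Z.inv_mem hz)
      have hw2 := hZ w⁻¹ (Z.inv_mem hw)
      calc z * x * (w * y) * (x⁻¹ * z⁻¹) * (y⁻¹ * w⁻¹)
          = z * x * (w * y) * (x⁻¹ * z⁻¹) * (w⁻¹ * y⁻¹) := by rw [hw2 y⁻¹]
        _ = z * (x * w) * y * x⁻¹ * (z⁻¹ * w⁻¹ * y⁻¹) := by group
        _ = z * (w * x) * y * x⁻¹ * (z⁻¹ * w⁻¹ * y⁻¹) := by rw [hw1 x]
        _ = (z * w) * (x * y * x⁻¹) * (z⁻¹ * w⁻¹) * y⁻¹ := by group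
        _ = (z * w) * ((x * y * x⁻¹) * z⁻¹) * w⁻¹ * y⁻¹ := by group
        _ = (z * w) * (z⁻¹ * (x * y * x⁻¹)) * w⁻¹ * y⁻¹ := by rw [hz2 (x * y * x⁻¹)]
        _ = (z * w * z⁻¹) * ((x * y * x⁻¹) * w⁻¹) * y⁻¹ := by group
        _ = (z * w * z⁻¹) * (w⁻¹ * (x * y * x⁻¹)) * y⁻¹ := by rw [hw2 (x * y * x⁻¹)]
        _ = (z * w * z⁻¹ * w⁻¹) * (x * y * x⁻¹ * y⁻¹) := by group
        _ = x * y * x⁻¹ * y⁻¹ := by rw [hz1 w]; group
    rw [hxz, hyw, h2] at h1
    calc g' * ⁅x, y⁆ = (g' * ⁅x, y⁆ * g'⁻¹) * g' := by group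
      _ = ⁅x, y⁆ * g' := by rw [h1]
  intro x hx
  rw [← hP] at hx
  have := key hx
  rw [Subgroup.mem_centralizer_iff] at this
  exact this g rfl

/-- The elements commuting with `x` modulo the normal subgroup `Z`. -/
def modCent (Z : Subgroup G) [Z.Normal] (x : G) : Subgroup G :=
  (Subgroup.centralizer {(QuotientGroup.mk' Z) x}).comap (QuotientGroup.mk' Z)

lemma mem_modCent {Z : Subgroup G} [hZ : Z.Normal] {x y : G} :
    y ∈ modCent Z x ↔ x * y * x⁻¹ * y⁻¹ ∈ Z := by
  unfold modCent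
  rw [Subgroup.mem_comap, Subgroup.mem_centralizer_singleton_iff]
  rw [← map_mul, ← map_mul]
  rw [QuotientGroup.mk'_apply, QuotientGroup.mk'_apply, QuotientGroup.eq]
  have h1 : (y * x)⁻¹ * (x * y) = (y * x)⁻¹ * (x * y * x⁻¹ * y⁻¹) * (y * x) := by group
  rw [h1]
  constructor
  · intro h
    have := hZ.conj_mem _ h (y * x)
    have h2 : y * x * ((y * x)⁻¹ * (x * y * x⁻¹ * y⁻¹) * (y * x)) * (y * x)⁻¹ = x * y * x⁻¹ * y⁻¹ := by group
    rwa [h2] at this
  · intro h
    have := hZ.conj_mem _ h (y * x)⁻¹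
    rwa [inv_inv] at this

lemma mem_modCent_symm {Z : Subgroup G} [hZ : Z.Normal] {x y : G} (h : y ∈ modCent Z x) :
    x ∈ modCent Z y := by
  rw [mem_modCent] at h ⊢
  have := Z.inv_mem h
  have h2 : (x * y * x⁻¹ * y⁻¹)⁻¹ = y * x * y⁻¹ * x⁻¹ := by group
  rwa [h2] at this

/-- Conjugate of a subgroup. -/
abbrev cj (h : G) (K : Subgroup G) : Subgroup G := K.map (MulAut.conj h).toMonoidHom

lemma mem_cj {h : G} {K : Subgroup G} {x : G} : x ∈ cj h K ↔ h⁻¹ * x * h ∈ K := by
  constructor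
  · rintro ⟨y, hy, rfl⟩
    have : h⁻¹ * ((MulAut.conj h).toMonoidHom y) * h = y := by
      simp [mul_assoc]
    rw [this]; exact hy
  · intro hx
    exact ⟨_, hx, by simp [mul_assoc]⟩

lemma conj_mem_cj {h : G} {K : Subgroup G} {x : G} (hx : x ∈ K) : h * x * h⁻¹ ∈ cj h K :=
  ⟨x, hx, by simp⟩

lemma cj_cj (g h : G) (K : Subgroup G) : cj g (cj h K) = cj (g * h) K := by
  ext x
  simp only [mem_cj, mul_inv_rev, mul_assoc]

lemma cj_one (K : Subgroup G) : cj 1 K = K := by
  ext x
  simp [mem_cj]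

lemma cj_mono {h : G} {K L : Subgroup G} (hKL : K ≤ L) : cj h K ≤ cj h L := Subgroup.map_mono hKL

lemma cj_commutator (h : G) (K : Subgroup G) : ⁅cj h K, cj h K⁆ = cj h ⁅K, K⁆ :=
  (Subgroup.map_commutator K K _).symm

lemma card_cj (h : G) (K : Subgroup G) : Nat.card (cj h K) = Nat.card K :=
  Nat.card_congr (K.equivMapOfInjective _ (MulAut.conj h).injective).symm.toEquiv

end GroupTheory

section Split

variable {ι : Type} [Fintype ι] [DecidableEq ι] {F : Type*} [Field F]

lemma scalars_comm : ∀ z ∈ scalars ι F, ∀ x : GL ι F, z * x = x * z := by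
  intro z hz x
  rw [mem_scalars_iff] at hz
  obtain ⟨c, hc⟩ := hz
  apply Units.ext
  rw [Units.val_mul, Units.val_mul, hc]
  simp

lemma cj_scalars_le {h : GL ι F} {K : Subgroup (GL ι F)} : cj h K ≤ scalars ι F ↔ K ≤ scalars ι F := by
  constructor
  · intro hk x hx
    have h1 := hk (conj_mem_cj (h := h) hx)
    have h2 := (scalars_normal (ι := ι) (F := F)).conj_mem _ h1 h⁻¹
    have h3 : h⁻¹ * (h * x * h⁻¹) * h⁻¹⁻¹ = x := by group
    rwa [h3] at h2
  · rintro hk _ ⟨y, hy, rfl⟩
    exact (scalars_normal (ι := ι) (F := F)).conj_mem _ (hk hy) h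

/-- A matrix group contained in its own scalars is not irreducible in dimension at least two. -/
lemma not_le_scalars_of_irreducible {H : Subgroup (GL ι F)} (hirr : ActsIrreducibly (matrixSet H))
    (hcard : 2 ≤ Fintype.card ι) : ¬ H ≤ scalars ι F := by
  classical
  intro hH
  have hne : Nonempty ι := Fintype.card_pos_iff.1 (by omega)
  let i : ι := Classical.arbitrary ι
  let v : ι → F := Pi.single i 1
  have hv : v ≠ 0 := by
    intro h
    have := congrFun h i
    simp [v] at this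
  rcases hirr (Submodule.span F {v}) (by
    rintro s ⟨g, hg, rfl⟩
    obtain ⟨c, hc⟩ := (mem_scalars_iff g).1 (hH hg)
    rw [Submodule.map_le_iff_le_comap, Submodule.span_singleton_le_iff_mem, Submodule.mem_comap]
    change Matrix.toLin' (g : Matrix ι ι F) v ∈ _
    rw [hc, Matrix.toLin'_apply, Matrix.smul_mulVec, Matrix.one_mulVec]
    exact Submodule.smul_mem _ _ (Submodule.mem_span_singleton_self v)) with h | h
  · rw [Submodule.span_singleton_eq_bot] at h
    exact hv h
  · have h1 := finrank_span_singleton (K := F) hv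
    rw [h, finrank_top, Module.finrank_fintype_fun_eq_card] at h1
    omega

variable [Finite F]

/-- Existence of a minimal non-scalar `H`-normalised subgroup. -/
lemma exists_minimal_nonscalar (H K : Subgroup (GL ι F)) (hK : ¬ K ≤ scalars ι F)
    (hKn : ∀ h ∈ H, ∀ x ∈ K, h * x * h⁻¹ ∈ K) :
    ∃ E : Subgroup (GL ι F), E ≤ K ∧ (∀ h ∈ H, ∀ x ∈ E, h * x * h⁻¹ ∈ E) ∧ ¬ E ≤ scalars ι F ∧
      ∀ L : Subgroup (GL ι F), L ≤ E → (∀ h ∈ H, ∀ x ∈ L, h * x * h⁻¹ ∈ L) → ¬ L ≤ scalars ι F → L = E := by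
  classical
  let S : Set (Subgroup (GL ι F)) :=
    {E | E ≤ K ∧ (∀ h ∈ H, ∀ x ∈ E, h * x * h⁻¹ ∈ E) ∧ ¬ E ≤ scalars ι F}
  have hfin : S.Finite := Set.toFinite S
  obtain ⟨E, hE⟩ := hfin.exists_minimal ⟨K, le_refl _, hKn, hK⟩
  refine ⟨E, hE.prop.1, hE.prop.2.1, hE.prop.2.2, fun L hL1 hL2 hL3 => ?_⟩
  exact le_antisymm hL1 (hE.le_of_le ⟨hL1.trans hE.prop.1, hL2, hL3⟩ hL1)

/-- The commutator subgroup of a normalised subgroup is normalised. -/
lemma commutator_normalised {H K : Subgroup (GL ι F)} (hK : ∀ h ∈ H, ∀ x ∈ K, h * x * h⁻¹ ∈ K) :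
    ∀ h ∈ H, ∀ x ∈ ⁅K, K⁆, h * x * h⁻¹ ∈ ⁅K, K⁆ := by
  intro h hh x hx
  have h1 : cj h K ≤ K := by
    rintro _ ⟨y, hy, rfl⟩
    exact hK h hh y hy
  have h2 : h * x * h⁻¹ ∈ cj h ⁅K, K⁆ := conj_mem_cj hx
  rw [← cj_commutator] at h2
  exact Subgroup.commutator_mono h1 h1 h2

/-- Conjugation by `h` as an algebra automorphism of the matrix algebra. -/
noncomputable def conjAlg (h : GL ι F) : Matrix ι ι F ≃ₐ[F] Matrix ι ι F :=
  AlgEquiv.ofAlgHom
    (AlgHom.ofLinearMap
      { toFun := fun X => (h : Matrix ι ι F) * X * ((h⁻¹ : GL ι F) : Matrix ι ι F)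
        map_add' := fun X Y => by rw [mul_add, add_mul]
        map_smul' := fun c X => by simp }
      (by simp)
      (by intro X Y; simp [mul_assoc]))
    (AlgHom.ofLinearMap
      { toFun := fun X => ((h⁻¹ : GL ι F) : Matrix ι ι F) * X * (h : Matrix ι ι F)
        map_add' := fun X Y => by rw [mul_add, add_mul]
        map_smul' := fun c X => by simp }
      (by simp)
      (by intro X Y; simp [mul_assoc]))
    (by ext1 X; simp [mul_assoc])
    (by ext1 X; simp [mul_assoc])

omit [Finite F] in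
lemma conjAlg_apply (h : GL ι F) (X : Matrix ι ι F) :
    conjAlg h X = (h : Matrix ι ι F) * X * ((h⁻¹ : GL ι F) : Matrix ι ι F) := rfl

omit [Finite F] in
lemma map_adjoin_cj (h : GL ι F) (K : Subgroup (GL ι F)) :
    (Algebra.adjoin F (matrixSet K)).map (conjAlg h : Matrix ι ι F →ₐ[F] Matrix ι ι F)
      = Algebra.adjoin F (matrixSet (cj h K)) := by
  rw [AlgHom.map_adjoin]
  congr 1
  ext X
  simp only [Set.mem_image, matrixSet]
  constructor
  · rintro ⟨_, ⟨g, hg, rfl⟩, rfl⟩
    exact ⟨h * g * h⁻¹, conj_mem_cj hg, by simp [conjAlg_apply]⟩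
  · rintro ⟨g, hg, rfl⟩
    obtain ⟨y, hy, rfl⟩ := hg
    exact ⟨y, ⟨y, hy, rfl⟩, by simp [conjAlg_apply]⟩

omit [Finite F] in
lemma finrank_adjoin_cj (h : GL ι F) (K : Subgroup (GL ι F)) :
    Module.finrank F (Algebra.adjoin F (matrixSet (cj h K)))
      = Module.finrank F (Algebra.adjoin F (matrixSet K)) := by
  rw [← map_adjoin_cj]
  exact (LinearEquiv.finrank_eq (Subalgebra.equivMapOfInjective _ _ (conjAlg h).injective).toLinearEquiv).symm

/-- **Piece (C) of the Aschbacher core.** -/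
theorem C_split (H : Subgroup (GL ι F)) (hirr : ActsIrreducibly (matrixSet H))
    (hcard : 2 ≤ Fintype.card ι)
    (hspan : ∀ N : Subgroup (GL ι F), N ≤ H → (∀ h ∈ H, ∀ x ∈ N, h * x * h⁻¹ ∈ N) →
      N ≤ scalars ι F ∨ ActsAbsolutelyIrreducibly (matrixSet N)) :
    (∃ N : Subgroup (GL ι F), N ≤ H ∧ (∀ h ∈ H, ∀ x ∈ N, h * x * h⁻¹ ∈ N) ∧ ¬ N ≤ scalars ι F ∧
      ∀ x ∈ N, ∀ y ∈ N, x * y * x⁻¹ * y⁻¹ ∈ scalars ι F) ∨
    (∃ (m t : ℕ) (e : ι ≃ (Fin t → Fin m)) (P : GL ι F) (E : Fin t → Subgroup (GL ι F)),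
      WreathData H m t e P E) ∨
    (∃ P : Subgroup (GL ι F), CoreNS H P) := by
  classical
  have hne : Nonempty ι := Fintype.card_pos_iff.1 (by omega)
  obtain ⟨E, hEH, hEn, hEs, hEmin⟩ := exists_minimal_nonscalar H H
    (not_le_scalars_of_irreducible hirr hcard)
    (fun h hh x hx => H.mul_mem (H.mul_mem hh hx) (H.inv_mem hh))
  by_cases hcomm : ⁅E, E⁆ ≤ scalars ι F
  · left
    refine ⟨E, hEH, hEn, hEs, fun x hx y hy => ?_⟩
    exact hcomm (Subgroup.commutator_mem_commutator hx hy)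
  right
  have hEE : ⁅E, E⁆ ≤ E := Subgroup.commutator_le.2 (fun x hx y hy => by
    rw [commutatorElement_def]
    exact E.mul_mem (E.mul_mem (E.mul_mem hx hy) (E.inv_mem hx)) (E.inv_mem hy))
  have hEperf : ⁅E, E⁆ = E := hEmin _ hEE (commutator_normalised hEn) hcomm
  have hEabs : ActsAbsolutelyIrreducibly (matrixSet E) := (hspan E hEH hEn).resolve_left hEs
  have hEadj : Algebra.adjoin F (matrixSet E) = ⊤ := adjoin_eq_top_of_absIrr hEabs
  have hcjE : ∀ h ∈ H, cj h E = E := by
    intro h hh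
    apply le_antisymm
    · rintro _ ⟨y, hy, rfl⟩
      exact hEn h hh y hy
    · intro x hx
      rw [mem_cj]
      have := hEn h⁻¹ (H.inv_mem hh) x hx
      rwa [inv_inv] at this
  obtain ⟨K, hKE, hKn, hKs, hKmin⟩ := exists_minimal_nonscalar E E hEs
    (fun h hh x hx => E.mul_mem (E.mul_mem hh hx) (E.inv_mem hh))
  -- the properties of the conjugates of K
  have hcjn : ∀ h ∈ H, ∀ g ∈ E, ∀ x ∈ cj h K, g * x * g⁻¹ ∈ cj h K := by
    intro h hh g hg x hx
    rw [mem_cj] at hx ⊢
    have h1 : h⁻¹ * g * h ∈ E := by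
      have := hEn h⁻¹ (H.inv_mem hh) g hg
      rwa [inv_inv] at this
    have h2 := hKn _ h1 _ hx
    have h3 : h⁻¹ * g * h * (h⁻¹ * x * h) * (h⁻¹ * g * h)⁻¹ = h⁻¹ * (g * x * g⁻¹) * h := by group
    rwa [h3] at h2
  have hcjle : ∀ h ∈ H, cj h K ≤ E := fun h hh => (cj_mono hKE).trans (hcjE h hh).le
  have hcjs : ∀ h : GL ι F, ¬ cj h K ≤ scalars ι F := fun h hc => hKs (cj_scalars_le.1 hc)
  have hcjmin : ∀ h ∈ H, ∀ L : Subgroup (GL ι F), L ≤ cj h K → (∀ g ∈ E, ∀ x ∈ L, g * x * g⁻¹ ∈ L) →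
      ¬ L ≤ scalars ι F → L = cj h K := by
    intro h hh L hL1 hL2 hL3
    have h1 : cj h⁻¹ L = K := by
      apply hKmin
      · intro x hx
        rw [mem_cj, inv_inv] at hx
        have := hL1 hx
        rw [mem_cj] at this
        have h3 : h⁻¹ * (h * x * h⁻¹) * h = x := by group
        rwa [h3] at this
      · intro g hg x hx
        rw [mem_cj, inv_inv] at hx ⊢
        have h2 := hL2 _ (hEn h hh g hg) _ hx
        have h3 : h * g * h⁻¹ * (h * x * h⁻¹) * (h * g * h⁻¹)⁻¹ = h * (g * x * g⁻¹) * h⁻¹ := by group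
        rwa [h3] at h2
      · intro hc
        exact hL3 (cj_scalars_le.1 hc)
    rw [← h1, cj_cj, mul_inv_cancel, cj_one]
  -- distinct conjugates commute modulo scalars
  have hinf : ∀ h ∈ H, ∀ h' ∈ H, cj h K ≠ cj h' K → cj h K ⊓ cj h' K ≤ scalars ι F := by
    intro h hh h' hh' hne'
    by_contra hc
    have hn : ∀ g ∈ E, ∀ x ∈ cj h K ⊓ cj h' K, g * x * g⁻¹ ∈ cj h K ⊓ cj h' K :=
      fun g hg x hx => ⟨hcjn h hh g hg x hx.1, hcjn h' hh' g hg x hx.2⟩
    have h1 := hcjmin h hh _ inf_le_left hn hc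
    have h2 := hcjmin h' hh' _ inf_le_right hn hc
    exact hne' (h1.symm.trans h2)
  have hcommmod : ∀ h ∈ H, ∀ h' ∈ H, cj h K ≠ cj h' K → ∀ x ∈ cj h K, ∀ y ∈ cj h' K,
      x * y * x⁻¹ * y⁻¹ ∈ scalars ι F := by
    intro h hh h' hh' hne' x hx y hy
    apply hinf h hh h' hh' hne'
    constructor
    · have h1 := hcjn h hh y (hcjle h' hh' hy) _ ((cj h K).inv_mem hx)
      have h2 := (cj h K).mul_mem hx h1
      have h3 : x * (y * x⁻¹ * y⁻¹) = x * y * x⁻¹ * y⁻¹ := by group
      rwa [h3] at h2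
    · have h1 := hcjn h' hh' x (hcjle h hh hx) _ hy
      exact (cj h' K).mul_mem h1 ((cj h' K).inv_mem hy)
  -- the conjugates generate E
  have hgenE : ∀ C : Subgroup (GL ι F), (∀ h ∈ H, cj h K ≤ C) → E ≤ C := by
    intro C hC
    let S : Subgroup (GL ι F) := ⨆ h : H, cj (h : GL ι F) K
    have hS : S = E := by
      apply hEmin
      · exact iSup_le (fun h => hcjle h h.2)
      · intro h hh x hx
        have h1 : cj h S ≤ S := by
          change S.map _ ≤ S
          rw [Subgroup.map_iSup]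
          apply iSup_le
          intro g
          have h2 : cj h (cj (g : GL ι F) K) ≤ S := by
            rw [cj_cj]
            exact le_iSup (fun h : H => cj (h : GL ι F) K) ⟨h * g, H.mul_mem hh g.2⟩
          exact h2
        exact h1 (conj_mem_cj hx)
      · intro hc
        apply hcjs 1
        exact (le_iSup (fun h : H => cj (h : GL ι F) K) 1).trans hc
    rw [← hS]
    exact iSup_le (fun h => hC h h.2)
  have hKH : ∀ h ∈ H, ∀ h' ∈ H, cj h (cj h' K) = cj (h * h') K := fun h _ h' _ => cj_cj h h' K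
  -- K is perfect
  have hKperf : ⁅K, K⁆ = K := by
    by_contra hKp
    have hKK : ⁅K, K⁆ ≤ scalars ι F := by
      by_contra hc
      apply hKp
      apply hKmin _ _ (commutator_normalised hKn) hc
      exact Subgroup.commutator_le.2 (fun x hx y hy => by
        rw [commutatorElement_def]
        exact K.mul_mem (K.mul_mem (K.mul_mem hx hy) (K.inv_mem hx)) (K.inv_mem hy))
    have hall : ∀ h ∈ H, ∀ h' ∈ H, ∀ x ∈ cj h K, ∀ y ∈ cj h' K,
        x * y * x⁻¹ * y⁻¹ ∈ scalars ι F := by
      intro h hh h' hh' x hx y hy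
      by_cases heq : cj h K = cj h' K
      · rw [← heq] at hy
        have h1 : ⁅x, y⁆ ∈ ⁅cj h K, cj h K⁆ := Subgroup.commutator_mem_commutator hx hy
        rw [cj_commutator] at h1
        exact (cj_scalars_le.2 hKK) h1
      · exact hcommmod h hh h' hh' heq x hx y hy
    have h1 : ∀ h ∈ H, ∀ x ∈ cj h K, E ≤ modCent (scalars ι F) x := by
      intro h hh x hx
      apply hgenE
      intro h' hh' y hy
      rw [mem_modCent]
      exact hall h hh h' hh' x hx y hy
    have h2 : ∀ y ∈ E, E ≤ modCent (scalars ι F) y := by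
      intro y hy
      apply hgenE
      intro h hh x hx
      exact mem_modCent_symm (h1 h hh x hx hy)
    apply hcomm
    rw [Subgroup.commutator_le]
    intro x hx y hy
    have := h2 x hx hy
    rw [mem_modCent] at this
    exact this
  have hcjperf : ∀ h : GL ι F, ⁅cj h K, cj h K⁆ = cj h K := fun h => by rw [cj_commutator, hKperf]
  -- distinct conjugates commute
  have hcommK : ∀ h ∈ H, ∀ h' ∈ H, cj h K ≠ cj h' K → ∀ x ∈ cj h K, ∀ y ∈ cj h' K, x * y = y * x := by
    intro h hh h' hh' hne' x hx y hy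
    exact commute_of_perfect (hcjperf h') (scalars_comm (ι := ι) (F := F))
      (fun z hz => hcommmod h hh h' hh' hne' x hx z hz) y hy
  by_cases hone : ∀ h ∈ H, cj h K = K
  · -- simple modulo scalars
    right
    have hEK : E = K := by
      apply le_antisymm _ hKE
      apply hgenE
      intro h hh
      exact (hone h hh).le
    subst hEK
    refine ⟨E, hEH, hEn, hEperf, ?_, ?_, ?_, hEabs⟩
    · -- simple
      have hnt : Nontrivial (E ⧸ (scalars ι F).subgroupOf E) := by
        by_contra hnt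
        rw [not_nontrivial_iff_subsingleton] at hnt
        apply hEs
        intro x hx
        have h1 : ((⟨x, hx⟩ : E) : E ⧸ (scalars ι F).subgroupOf E) = ((1 : E) : E ⧸ (scalars ι F).subgroupOf E) :=
          Subsingleton.elim _ _
        rw [QuotientGroup.eq] at h1
        have h2 := (scalars ι F).inv_mem (Subgroup.mem_subgroupOf.1 h1)
        simpa using h2
      refine { toNontrivial := hnt, eq_bot_or_eq_top_of_normal := ?_ }
      intro N hN
      let N' : Subgroup E := N.comap (QuotientGroup.mk' _)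
      let N'' : Subgroup (GL ι F) := N'.map E.subtype
      have hN'n : N'.Normal := Subgroup.Normal.comap hN _
      by_cases hs : N'' ≤ scalars ι F
      · left
        rw [eq_bot_iff]
        intro q hq
        obtain ⟨x, rfl⟩ := QuotientGroup.mk'_surjective _ q
        have h1 : (x : GL ι F) ∈ N'' := ⟨x, hq, rfl⟩
        have h2 := hs h1
        rw [Subgroup.mem_bot]
        rw [QuotientGroup.mk'_apply, QuotientGroup.eq_one_iff]
        exact Subgroup.mem_subgroupOf.2 h2
      · right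
        have h1 : N'' = E := by
          apply hKmin _ _ _ hs
          · rintro _ ⟨y, _, rfl⟩
            exact y.2
          · rintro g hg _ ⟨y, hy, rfl⟩
            have h5 : (⟨g, hg⟩ : E) * y * (⟨g, hg⟩ : E)⁻¹ ∈ N' := hN'n.conj_mem y hy ⟨g, hg⟩
            exact Subgroup.mem_map.2 ⟨_, h5, by simp only [Subgroup.coe_subtype, Subgroup.coe_mul, Subgroup.coe_inv]⟩
        rw [eq_top_iff]
        intro q _
        obtain ⟨x, rfl⟩ := QuotientGroup.mk'_surjective _ q
        have h2 : (x : GL ι F) ∈ N'' := by rw [h1]; exact x.2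
        obtain ⟨y, hy, hyx⟩ := h2
        have : y = x := Subtype.ext hyx
        rw [← this]
        exact hy
    · -- nonabelian
      intro hab
      apply hcomm
      rw [Subgroup.commutator_le]
      intro x hx y hy
      have h1 := hab.is_comm.comm ((⟨y, hy⟩ : E) : E ⧸ (scalars ι F).subgroupOf E)
        ((⟨x, hx⟩ : E) : E ⧸ (scalars ι F).subgroupOf E)
      rw [← QuotientGroup.mk_mul, ← QuotientGroup.mk_mul, QuotientGroup.eq] at h1
      have h2 := Subgroup.mem_subgroupOf.1 h1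
      have h3 := (scalars_normal (ι := ι) (F := F)).conj_mem _ h2 (y * x)
      have h4 : (y * x) * (((⟨y, hy⟩ : E) * ⟨x, hx⟩)⁻¹ * (⟨x, hx⟩ * ⟨y, hy⟩ : E) : E) * (y * x)⁻¹
          = ⁅x, y⁆ := by
        rw [commutatorElement_def]
        simp only [Subgroup.coe_mul, Subgroup.coe_inv]
        group
      rwa [h4] at h3
    · -- centraliser
      intro h hh hx
      have h1 := commute_of_perfect hEperf (scalars_comm (ι := ι) (F := F)) hx
      have h2 : ∀ s ∈ matrixSet E, (h : Matrix ι ι F) * s = s * (h : Matrix ι ι F) := by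
        rintro _ ⟨x, hx', rfl⟩
        have := congrArg (fun g : GL ι F => (g : Matrix ι ι F)) (h1 x hx')
        simpa using this
      obtain ⟨c, hc⟩ := hEabs.2 _ h2
      rw [mem_scalars_iff]
      have hc0 : c ≠ 0 := by
        rintro rfl
        rw [zero_smul] at hc
        exact h.ne_zero hc
      exact ⟨Units.mk0 c hc0, hc⟩
  · -- at least two conjugates
    left
    push Not at hone
    obtain ⟨h₁, hh₁, hh₁K⟩ := hone
    let 𝒦 : Set (Subgroup (GL ι F)) := {L | ∃ h ∈ H, L = cj h K}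
    have hKmem : K ∈ 𝒦 := ⟨1, H.one_mem, (cj_one K).symm⟩
    have hfin : Finite 𝒦 := Set.toFinite 𝒦
    set t := Nat.card 𝒦 with ht
    let eqv : Fin t ≃ 𝒦 := (Finite.equivFin 𝒦).symm
    let Ei : Fin t → Subgroup (GL ι F) := fun i => (eqv i : Subgroup (GL ι F))
    have hEi : ∀ i, ∃ h ∈ H, Ei i = cj h K := fun i => (eqv i).2
    have hEi_inj : Function.Injective Ei := fun i j h => eqv.injective (Subtype.ext h)
    have hEi_surj : ∀ h ∈ H, ∃ i, Ei i = cj h K := by
      intro h hh
      exact ⟨eqv.symm ⟨cj h K, h, hh, rfl⟩, by simp [Ei]⟩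
    have ht2 : 2 ≤ t := by
      have h1 : Nontrivial 𝒦 := ⟨⟨⟨K, hKmem⟩, ⟨cj h₁ K, h₁, hh₁, rfl⟩, fun h => hh₁K (congrArg Subtype.val h).symm⟩⟩
      have := Finite.one_lt_card_iff_nontrivial.2 h1
      omega
    have hEin : ∀ i, ∀ g ∈ E, ∀ x ∈ Ei i, g * x * g⁻¹ ∈ Ei i := by
      intro i
      obtain ⟨h, hh, he⟩ := hEi i
      rw [he]
      exact hcjn h hh
    have hEile : ∀ i, Ei i ≤ E := by
      intro i
      obtain ⟨h, hh, he⟩ := hEi i
      rw [he]
      exact hcjle h hh
    have hEis : ∀ i, ¬ Ei i ≤ scalars ι F := by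
      intro i
      obtain ⟨h, hh, he⟩ := hEi i
      rw [he]
      exact hcjs h
    have hEiperf : ∀ i, ⁅Ei i, Ei i⁆ = Ei i := by
      intro i
      obtain ⟨h, hh, he⟩ := hEi i
      rw [he]
      exact hcjperf h
    have hEicomm : ∀ i j, i ≠ j → ∀ x ∈ Ei i, ∀ y ∈ Ei j, x * y = y * x := by
      intro i j hij
      obtain ⟨h, hh, he⟩ := hEi i
      obtain ⟨h', hh', he'⟩ := hEi j
      have : Ei i ≠ Ei j := fun h => hij (hEi_inj h)
      rw [he, he'] at this ⊢
      exact hcommK h hh h' hh' this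
    have hEgen : ∀ C : Subgroup (GL ι F), (∀ i, Ei i ≤ C) → E ≤ C := by
      intro C hC
      apply hgenE
      intro h hh
      obtain ⟨i, hi⟩ := hEi_surj h hh
      rw [← hi]
      exact hC i
    -- the enveloping algebras
    let A : Fin t → Subalgebra F (Matrix ι ι F) := fun i => Algebra.adjoin F (matrixSet (Ei i))
    have hAcomm : ∀ i j, i ≠ j → ∀ x ∈ A i, ∀ y ∈ A j, x * y = y * x := by
      intro i j hij x hx y hy
      have h1 : ∀ s ∈ matrixSet (Ei i), ∀ y ∈ A j, s * y = y * s := by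
        rintro _ ⟨g, hg, rfl⟩ y hy
        apply commute_adjoin _ y hy
        rintro _ ⟨k, hk, rfl⟩
        have := congrArg (fun g : GL ι F => (g : Matrix ι ι F)) (hEicomm i j hij g hg k hk)
        simpa using this
      have h2 := commute_adjoin (M := y) (S := matrixSet (Ei i)) (fun s hs => (h1 s hs y hy).symm) x hx
      exact h2.symm
    have hcen : ∀ i, ∀ x ∈ A i, (∀ y ∈ A i, x * y = y * x) → ∃ c : F, x = c • (1 : Matrix ι ι F) := by
      intro i x hx hxy
      -- x commutes with E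
      let C : Subgroup (GL ι F) :=
        { carrier := {g | x * (g : Matrix ι ι F) = (g : Matrix ι ι F) * x}
          mul_mem' := by
            intro a b ha hb
            simp only [Set.mem_setOf_eq, Units.val_mul] at *
            rw [← mul_assoc, ha, mul_assoc, hb, mul_assoc]
          one_mem' := by simp
          inv_mem' := by
            intro a ha
            simp only [Set.mem_setOf_eq] at *
            have h1 := congrArg (fun Z => ((a⁻¹ : GL ι F) : Matrix ι ι F) * Z * ((a⁻¹ : GL ι F) : Matrix ι ι F)) ha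
            simp only [mul_assoc, Units.mul_inv, mul_one, Units.inv_mul_cancel_left] at h1
            exact h1.symm }
      have hEC : E ≤ C := by
        apply hEgen
        intro j g hg
        by_cases hij : j = i
        · subst hij
          exact hxy _ (mem_adjoin hg)
        · exact hAcomm i j (fun h => hij h.symm) x hx _ (mem_adjoin hg)
      apply hEabs.2
      rintro _ ⟨g, hg, rfl⟩
      exact hEC hg
    have hAnt : ∀ i, Nontrivial (A i) := fun i => inferInstance
    have hAss : ∀ i, IsSemisimpleRing (A i) := fun i =>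
      isSemisimpleRing_of_normalised E hEabs.1 (A i) (le_normalizer_adjoin (hEin i))
    have hex : ∀ i, ∃ w : ℕ, 0 < w ∧ Nonempty (A i ≃ₐ[F] Matrix (Fin w) (Fin w) F) := by
      intro i
      have := hAnt i
      have := hAss i
      apply exists_algEquiv_matrix_of_center (A i)
      intro x hx
      obtain ⟨c, hc⟩ := hcen i x.1 x.2 (fun y hy => congrArg Subtype.val (hx ⟨y, hy⟩))
      refine ⟨c, Subtype.ext ?_⟩
      rw [hc, Algebra.algebraMap_eq_smul_one]
      rfl
    let i0 : Fin t := ⟨0, by omega⟩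
    obtain ⟨m, hm0, ⟨φ0⟩⟩ := hex i0
    have hrank0 : Module.finrank F (A i0) = m * m := by
      rw [LinearEquiv.finrank_eq φ0.toLinearEquiv, Module.finrank_matrix]
      simp
    have htrans : ∀ i j, ∃ h ∈ H, cj h (Ei i) = Ei j := by
      intro i j
      obtain ⟨h, hh, he⟩ := hEi i
      obtain ⟨h', hh', he'⟩ := hEi j
      refine ⟨h' * h⁻¹, H.mul_mem hh' (H.inv_mem hh), ?_⟩
      rw [he, he', cj_cj]
      congr 1
      group
    have hφ : ∀ i, Nonempty (A i ≃ₐ[F] Matrix (Fin m) (Fin m) F) := by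
      intro i
      obtain ⟨w, hw, ⟨φ⟩⟩ := hex i
      obtain ⟨h, hh, he⟩ := htrans i0 i
      have h1 : Module.finrank F (A i) = Module.finrank F (A i0) := by
        change Module.finrank F (Algebra.adjoin F (matrixSet (Ei i))) = _
        rw [← he]
        exact finrank_adjoin_cj h (Ei i0)
      have h2 : Module.finrank F (A i) = w * w := by
        rw [LinearEquiv.finrank_eq φ.toLinearEquiv, Module.finrank_matrix]
        simp
      have h3 : w = m := Nat.mul_self_inj.1 (by rw [← h2, h1, hrank0])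
      subst h3
      exact ⟨φ⟩
    let φ : ∀ i, A i ≃ₐ[F] Matrix (Fin m) (Fin m) F := fun i => (hφ i).some
    let ψ : Fin t → (Matrix (Fin m) (Fin m) F →ₐ[F] Matrix ι ι F) :=
      fun i => (A i).val.comp (φ i).symm.toAlgHom
    have hψmem : ∀ i X, X ∈ A i ↔ ∃ x, X = ψ i x := by
      intro i X
      constructor
      · intro hX
        exact ⟨φ i ⟨X, hX⟩, by simp [ψ]⟩
      · rintro ⟨x, rfl⟩
        exact ((φ i).symm x).2
    have hψ : ∀ i j, i ≠ j → ∀ x y, Commute (ψ i x) (ψ j y) := by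
      intro i j hij x y
      exact hAcomm i j hij _ ((hψmem i _).2 ⟨x, rfl⟩) _ ((hψmem j _).2 ⟨y, rfl⟩)
    have hgen : ⨆ i, (ψ i).range = ⊤ := by
      rw [eq_top_iff, ← hEadj]
      set T := ⨆ i, (ψ i).range with hT
      apply Algebra.adjoin_le
      let C : Subgroup (GL ι F) :=
        { carrier := {g | (g : Matrix ι ι F) ∈ T ∧ ((g⁻¹ : GL ι F) : Matrix ι ι F) ∈ T}
          mul_mem' := by
            intro a b ha hb
            refine ⟨?_, ?_⟩
            · rw [Units.val_mul]; exact T.mul_mem ha.1 hb.1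
            · rw [mul_inv_rev, Units.val_mul]; exact T.mul_mem hb.2 ha.2
          one_mem' := by
            refine ⟨?_, ?_⟩
            · rw [Units.val_one]; exact T.one_mem
            · rw [inv_one, Units.val_one]; exact T.one_mem
          inv_mem' := by
            intro a ha
            exact ⟨ha.2, by rw [inv_inv]; exact ha.1⟩ }
      have hAT : ∀ i, A i ≤ T := by
        intro i X hX
        obtain ⟨x, rfl⟩ := (hψmem i X).1 hX
        exact (le_iSup (fun i => (ψ i).range) i) ⟨x, rfl⟩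
      have hEC : E ≤ C := by
        apply hEgen
        intro i g hg
        exact ⟨hAT i (mem_adjoin hg), hAT i (mem_adjoin ((Ei i).inv_mem hg))⟩
      rintro _ ⟨g, hg, rfl⟩
      exact (hEC hg).1
    obtain ⟨_, e, P, heP⟩ := exists_frame hm0 ψ hψ hgen
    have hperm : ∀ h ∈ H, ∃ σ : Equiv.Perm (Fin t), ∀ i, cj h (Ei i) = Ei (σ i) := by
      intro h hh
      have h1 : ∀ i, ∃ j, cj h (Ei i) = Ei j := by
        intro i
        obtain ⟨g, hg, he⟩ := hEi i
        obtain ⟨j, hj⟩ := hEi_surj (h * g) (H.mul_mem hh hg)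
        exact ⟨j, by rw [he, cj_cj, hj]⟩
      choose s hs using h1
      have hsinj : Function.Injective s := by
        intro i j hij
        apply hEi_inj
        have h2 : cj h (Ei i) = cj h (Ei j) := by rw [hs, hs, hij]
        have h3 := congrArg (cj h⁻¹) h2
        rwa [cj_cj, cj_cj, inv_mul_cancel, cj_one, cj_one] at h3
      exact ⟨Equiv.ofBijective s (Finite.injective_iff_bijective.1 hsinj), hs⟩
    refine ⟨m, t, e, P, Ei, ?_⟩
    refine ⟨?_, ht2, fun i => (hEile i).trans hEH, hEiperf, hEis, hEicomm, ?_, hperm, htrans, ?_⟩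
    · -- 2 ≤ m
      by_contra hm
      have hm1 : m = 1 := by omega
      subst hm1
      apply hEis i0
      intro g hg
      have h1 : Module.finrank F (A i0) = 1 := by rw [hrank0]
      have h2 : (A i0) = ⊥ := Subalgebra.eq_bot_of_finrank_one h1
      have h3 : (g : Matrix ι ι F) ∈ A i0 := mem_adjoin hg
      rw [h2, Algebra.mem_bot] at h3
      obtain ⟨c, hc⟩ := h3
      rw [Algebra.algebraMap_eq_smul_one] at hc
      rw [mem_scalars_iff]
      have hc0 : c ≠ 0 := by
        rintro rfl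
        rw [zero_smul] at hc
        exact g.ne_zero hc.symm
      exact ⟨Units.mk0 c hc0, hc.symm⟩
    · -- env_iff
      intro i X
      have h1 : ∀ x, frameMat e P (slotMat i x) = ψ i x := by
        intro x
        rw [← heP, slotHom_slotMat]
      simp only [h1]
      exact hψmem i X
    · -- wreath
      intro h hh
      obtain ⟨σ, hσ⟩ := hperm h hh
      apply mem_tensorWreathSubgroup (by omega) hm0 ψ hψ e P heP h σ
      intro i x
      have h1 : (h : Matrix ι ι F) * ψ i x * ((h⁻¹ : GL ι F) : Matrix ι ι F) ∈ A (σ i) := by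
        change _ ∈ Algebra.adjoin F (matrixSet (Ei (σ i)))
        rw [← hσ i, ← map_adjoin_cj]
        exact ⟨ψ i x, (hψmem i _).2 ⟨x, rfl⟩, rfl⟩
      exact (hψmem (σ i) _).1 h1

end Split

end Cfsg.Agent.H919
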