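import Cfsg.Agent.H919.AschTensor

/-!
# The stabiliser of a tensor power decomposition (helper919)
-/

set_option autoImplicit false
set_option linter.unusedSectionVars false

namespace Cfsg.Agent.H919

open Cfsg Cfsg.Geo
open scoped MatrixGroups Matrix Kronecker

section Frame

variable {ι : Type} [Fintype ι] [DecidableEq ι] {F : Type*} [Field F] {t m : ℕ}

/-- Change of frame: the matrix algebra of the tensor power placed inside `M_ι(F)` by `e` and `P`. -/
def frameMat (e : ι ≃ (Fin t → Fin m)) (P : GL ι F) (X : Matrix (Fin t → Fin m) (Fin t → Fin m) F) :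
    Matrix ι ι F :=
  (P : Matrix ι ι F) * (Matrix.reindexAlgEquiv F F e.symm X) * ((P⁻¹ : GL ι F) : Matrix ι ι F)

/-- Change of frame for invertible matrices. -/
def frameGL (e : ι ≃ (Fin t → Fin m)) (P : GL ι F) : GL (Fin t → Fin m) F ≃* GL ι F :=
  (glReindex e.symm).trans (MulAut.conj P)

lemma frameGL_val (e : ι ≃ (Fin t → Fin m)) (P : GL ι F) (g : GL (Fin t → Fin m) F) :
    ((frameGL e P g : GL ι F) : Matrix ι ι F) = frameMat e P g := by
  simp [frameGL, frameMat, glReindex]

lemma mem_tensorWreathSubgroup_iff (e : ι ≃ (Fin t → Fin m)) (P : GL ι F) (h : GL ι F) :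
    h ∈ tensorWreathSubgroup m t e P ↔ ∃ g ∈ tensorWreathStandard m t F, frameGL e P g = h := by
  unfold tensorWreathSubgroup
  simp only [Subgroup.mem_map]
  constructor
  · rintro ⟨x, ⟨g, hg, rfl⟩, rfl⟩
    exact ⟨g, hg, rfl⟩
  · rintro ⟨g, hg, rfl⟩
    exact ⟨_, ⟨g, hg, rfl⟩, rfl⟩

lemma frameMat_mul (e : ι ≃ (Fin t → Fin m)) (P : GL ι F) (X Y : Matrix (Fin t → Fin m) (Fin t → Fin m) F) :
    frameMat e P (X * Y) = frameMat e P X * frameMat e P Y := by
  simp only [frameMat, map_mul]
  simp only [mul_assoc, Units.inv_mul_cancel_left]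

lemma frameMat_injective (e : ι ≃ (Fin t → Fin m)) (P : GL ι F) :
    Function.Injective (frameMat e P : Matrix (Fin t → Fin m) (Fin t → Fin m) F → Matrix ι ι F) := by
  intro X Y h
  simp only [frameMat] at h
  have h2 : (Matrix.reindexAlgEquiv F F e.symm X) = (Matrix.reindexAlgEquiv F F e.symm Y) := by
    have := congrArg (fun Z => ((P⁻¹ : GL ι F) : Matrix ι ι F) * Z * (P : Matrix ι ι F)) h
    simpa [mul_assoc] using this
  exact (Matrix.reindexAlgEquiv F F e.symm).injective h2

end Frame

section SkolemFrame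

variable {ι : Type} [Fintype ι] [DecidableEq ι] {F : Type*} [Field F] {t m : ℕ}

/-- Commuting copies of `M_m(F)` generating `M_ι(F)` come from a tensor decomposition of `F^ι`. -/
theorem exists_frame (hm : 0 < m) [Nonempty ι]
    (ψ : Fin t → (Matrix (Fin m) (Fin m) F →ₐ[F] Matrix ι ι F))
    (hψ : ∀ i j, i ≠ j → ∀ x y, Commute (ψ i x) (ψ j y))
    (hgen : ⨆ i, (ψ i).range = ⊤) :
    Fintype.card ι = m ^ t ∧ ∃ (e : ι ≃ (Fin t → Fin m)) (P : GL ι F),
      ∀ X, slotHom ψ hψ X = frameMat e P X := by
  classical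
  have hbij := slotHom_bijective hm ψ hψ hgen
  let Ψ : Matrix (Fin t → Fin m) (Fin t → Fin m) F ≃ₐ[F] Matrix ι ι F := AlgEquiv.ofBijective _ hbij
  have hcard : Fintype.card ι = m ^ t := by
    have h1 := LinearEquiv.finrank_eq Ψ.toLinearEquiv
    rw [Module.finrank_matrix, Module.finrank_matrix, Module.finrank_self, mul_one, mul_one] at h1
    have h2 : Fintype.card (Fin t → Fin m) = m ^ t := by simp
    rw [h2] at h1
    exact (Nat.mul_self_inj.1 h1).symm
  refine ⟨hcard, ?_⟩
  have hcard' : Fintype.card ι = Fintype.card (Fin t → Fin m) := by simp [hcard]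
  let e : ι ≃ (Fin t → Fin m) := Fintype.equivOfCardEq hcard'
  obtain ⟨P, hP⟩ := exists_conj_of_algEquiv ((Matrix.reindexAlgEquiv F F e).trans Ψ)
  refine ⟨e, P, fun X => ?_⟩
  have := hP (Matrix.reindexAlgEquiv F F e.symm X)
  rw [frameMat, ← this]
  rw [AlgEquiv.trans_apply]
  have h3 : (Matrix.reindexAlgEquiv F F e) ((Matrix.reindexAlgEquiv F F e.symm) X) = X := by
    ext a b
    simp
  rw [h3]
  rfl

end SkolemFrame

section Standard

variable {F : Type*} [Field F] {t m : ℕ}

/-- The permutation of the tensor factors as an invertible matrix. -/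
def facPerm (F : Type*) [Field F] (m : ℕ) {t : ℕ} (σ : Equiv.Perm (Fin t)) : GL (Fin t → Fin m) F where
  val := Matrix.of fun x y => if y = x ∘ σ then 1 else 0
  inv := Matrix.of fun x y => if y = x ∘ σ.symm then 1 else 0
  val_inv := by
    ext a b
    rw [Matrix.mul_apply, Finset.sum_eq_single (a ∘ σ)]
    · rw [Matrix.of_apply, Matrix.of_apply, if_pos rfl, one_mul, Matrix.one_apply]
      have : (a ∘ σ) ∘ σ.symm = a := by funext i; simp
      rw [this]
      by_cases h : b = a
      · rw [if_pos h, if_pos h.symm]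
      · rw [if_neg h, if_neg (fun h' => h h'.symm)]
    · intro c _ hc
      rw [Matrix.of_apply, if_neg hc, zero_mul]
    · intro h; exact absurd (Finset.mem_univ _) h
  inv_val := by
    ext a b
    rw [Matrix.mul_apply, Finset.sum_eq_single (a ∘ σ.symm)]
    · rw [Matrix.of_apply, Matrix.of_apply, if_pos rfl, one_mul, Matrix.one_apply]
      have : (a ∘ σ.symm) ∘ σ = a := by funext i; simp
      rw [this]
      by_cases h : b = a
      · rw [if_pos h, if_pos h.symm]
      · rw [if_neg h, if_neg (fun h' => h h'.symm)]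
    · intro c _ hc
      rw [Matrix.of_apply, if_neg hc, zero_mul]
    · intro h; exact absurd (Finset.mem_univ _) h

lemma facPerm_val (σ : Equiv.Perm (Fin t)) (x y : Fin t → Fin m) :
    (facPerm F m σ : Matrix (Fin t → Fin m) (Fin t → Fin m) F) x y = if y = x ∘ σ then 1 else 0 := rfl

lemma facPerm_mem (σ : Equiv.Perm (Fin t)) : facPerm F m σ ∈ tensorWreathStandard m t F :=
  Subgroup.subset_closure (Or.inr ⟨σ, fun _ _ => rfl⟩)

lemma facPerm_conj (σ : Equiv.Perm (Fin t)) (x : Fin t → Matrix (Fin m) (Fin m) F) :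
    (facPerm F m σ : Matrix (Fin t → Fin m) (Fin t → Fin m) F) * pureMat x *
      ((facPerm F m σ)⁻¹ : GL (Fin t → Fin m) F) = pureMat (fun i => x (σ.symm i)) := by
  have hinv : ∀ a b, (((facPerm F m σ)⁻¹ : GL (Fin t → Fin m) F) : Matrix (Fin t → Fin m) (Fin t → Fin m) F) a b
      = if b = a ∘ σ.symm then 1 else 0 := fun _ _ => rfl
  ext a b
  rw [Matrix.mul_apply, Finset.sum_eq_single (b ∘ σ)]
  · rw [hinv, if_pos (by funext i; simp), mul_one, Matrix.mul_apply, Finset.sum_eq_single (a ∘ σ)]
    · rw [facPerm_val, if_pos rfl, one_mul, pureMat_apply, pureMat_apply]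
      rw [← Equiv.prod_comp σ (fun i => x (σ.symm i) (a i) (b i))]
      simp
    · intro c _ hc
      rw [facPerm_val, if_neg hc, zero_mul]
    · intro h; exact absurd (Finset.mem_univ _) h
  · intro c _ hc
    rw [hinv, if_neg, mul_zero]
    rintro rfl
    apply hc
    funext i
    simp
  · intro h; exact absurd (Finset.mem_univ _) h

lemma slotMat_apply_facPerm (σ : Equiv.Perm (Fin t)) (i : Fin t) (x : Matrix (Fin m) (Fin m) F) :
    (facPerm F m σ : Matrix (Fin t → Fin m) (Fin t → Fin m) F) * slotMat i x *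
      ((facPerm F m σ)⁻¹ : GL (Fin t → Fin m) F) = slotMat (σ i) x := by
  rw [slotMat, facPerm_conj, slotMat]
  congr 1
  funext j
  by_cases h : j = σ i
  · subst h
    simp
  · rw [Function.update_of_ne h, Function.update_of_ne]
    intro h'
    apply h
    rw [← h']
    simp

/-- The tensor product of invertible matrices as an invertible matrix. -/
def pureGL (g : Fin t → GL (Fin m) F) : GL (Fin t → Fin m) F where
  val := pureMat (fun i => (g i : Matrix (Fin m) (Fin m) F))
  inv := pureMat (fun i => ((g i)⁻¹ : GL (Fin m) F))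
  val_inv := by
    rw [pureMat_mul]
    simp [pureMat_one]
  inv_val := by
    rw [pureMat_mul]
    simp [pureMat_one]

lemma pureGL_val (g : Fin t → GL (Fin m) F) :
    (pureGL g : Matrix (Fin t → Fin m) (Fin t → Fin m) F)
      = pureMat (fun i => (g i : Matrix (Fin m) (Fin m) F)) := rfl

lemma pureGL_inv_val (g : Fin t → GL (Fin m) F) :
    (((pureGL g)⁻¹ : GL (Fin t → Fin m) F) : Matrix (Fin t → Fin m) (Fin t → Fin m) F)
      = pureMat (fun i => ((g i)⁻¹ : GL (Fin m) F)) := rfl

lemma pureGL_mem (g : Fin t → GL (Fin m) F) : pureGL g ∈ tensorWreathStandard m t F :=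
  Subgroup.subset_closure (Or.inl ⟨g, fun _ _ => rfl⟩)

lemma slotMat_mul (i : Fin t) (x y : Matrix (Fin m) (Fin m) F) :
    slotMat i (x * y) = slotMat i x * slotMat i y := by
  rw [slotMat, slotMat, slotMat, pureMat_mul]
  congr 1
  funext j
  by_cases h : j = i
  · subst h; simp
  · simp [Function.update_of_ne h]

lemma slotMat_one (i : Fin t) : slotMat i (1 : Matrix (Fin m) (Fin m) F) = 1 := by
  rw [slotMat]
  have : Function.update (fun _ : Fin t => (1 : Matrix (Fin m) (Fin m) F)) i 1 = fun _ => 1 := by
    funext j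
    by_cases h : j = i
    · subst h; simp
    · simp [Function.update_of_ne h]
  rw [this, pureMat_one]

lemma slotMat_add (i : Fin t) (x y : Matrix (Fin m) (Fin m) F) :
    slotMat i (x + y) = slotMat i x + slotMat i y := by
  ext a b
  simp only [slotMat, pureMat_apply, Matrix.add_apply]
  rw [← Finset.mul_prod_erase _ _ (Finset.mem_univ i), ← Finset.mul_prod_erase _ _ (Finset.mem_univ i),
    ← Finset.mul_prod_erase _ _ (Finset.mem_univ i)]
  simp only [Function.update_self, Matrix.add_apply]
  have : ∀ z : Matrix (Fin m) (Fin m) F, ∏ j ∈ Finset.univ.erase i,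
      (Function.update (fun _ : Fin t => (1 : Matrix (Fin m) (Fin m) F)) i z j) (a j) (b j)
      = ∏ j ∈ Finset.univ.erase i, (1 : Matrix (Fin m) (Fin m) F) (a j) (b j) := by
    intro z
    apply Finset.prod_congr rfl
    intro j hj
    rw [Function.update_of_ne (Finset.ne_of_mem_erase hj)]
  rw [this, this, this]
  ring

lemma slotMat_smul (i : Fin t) (c : F) (x : Matrix (Fin m) (Fin m) F) :
    slotMat i (c • x) = c • slotMat i x := by
  ext a b
  simp only [slotMat, pureMat_apply, Matrix.smul_apply, smul_eq_mul]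
  rw [← Finset.mul_prod_erase _ _ (Finset.mem_univ i), ← Finset.mul_prod_erase _ _ (Finset.mem_univ i)]
  simp only [Function.update_self, Matrix.smul_apply, smul_eq_mul]
  have : ∀ z : Matrix (Fin m) (Fin m) F, ∏ j ∈ Finset.univ.erase i,
      (Function.update (fun _ : Fin t => (1 : Matrix (Fin m) (Fin m) F)) i z j) (a j) (b j)
      = ∏ j ∈ Finset.univ.erase i, (1 : Matrix (Fin m) (Fin m) F) (a j) (b j) := by
    intro z
    apply Finset.prod_congr rfl
    intro j hj
    rw [Function.update_of_ne (Finset.ne_of_mem_erase hj)]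
  rw [this, this]
  ring

/-- The `i`-th slot as an algebra homomorphism. -/
def slotEmb (i : Fin t) : Matrix (Fin m) (Fin m) F →ₐ[F] Matrix (Fin t → Fin m) (Fin t → Fin m) F :=
  AlgHom.ofLinearMap
    { toFun := slotMat i
      map_add' := slotMat_add i
      map_smul' := slotMat_smul i }
    (slotMat_one i) (slotMat_mul i)

lemma slotEmb_apply (i : Fin t) (x : Matrix (Fin m) (Fin m) F) : slotEmb i x = slotMat i x := rfl

lemma slotEmb_injective (hm : 0 < m) (i : Fin t) : Function.Injective (slotEmb (F := F) (m := m) i) := by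
  have : Nonempty (Fin m) := ⟨⟨0, hm⟩⟩
  exact (slotEmb (F := F) (m := m) i).toRingHom.injective

lemma slotMat_commute {i j : Fin t} (hij : i ≠ j) (x y : Matrix (Fin m) (Fin m) F) :
    Commute (slotMat i x) (slotMat j y) := by
  unfold Commute SemiconjBy
  rw [slotMat, slotMat, pureMat_mul, pureMat_mul]
  congr 1
  funext k
  by_cases h : k = i
  · subst h
    rw [Function.update_of_ne hij]
    simp
  · rw [Function.update_of_ne h]
    simp

/-- A pure tensor is the ordered product of its slots. -/
lemma pureMat_eq_prod (x : Fin t → Matrix (Fin m) (Fin m) F) :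
    pureMat x = (List.ofFn fun i => slotMat i (x i)).prod := by
  -- apply `slotHom` to the slot embeddings
  have hcomm : ∀ i j : Fin t, i ≠ j → ∀ x y : Matrix (Fin m) (Fin m) F,
      Commute (slotEmb i x) (slotEmb j y) := fun i j hij x y => slotMat_commute hij x y
  -- the set of X with slotHom X = X
  have hunit : ∀ a b : Fin t → Fin m, slotUnit (fun i => slotEmb (F := F) (m := m) i) a b
      = Matrix.single a b 1 := by
    intro a b
    -- both sides are computed through a telescoping product
    have key : ∀ (s : List (Fin t)), s.Nodup → ∀ z : Fin t → Matrix (Fin m) (Fin m) F,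
        (s.map fun i => slotMat i (z i)).prod = pureMat (fun i => if i ∈ s then z i else 1) := by
      intro s
      induction s with
      | nil =>
        intro _ z
        simp [pureMat_one]
      | cons j s ih =>
        intro hnd z
        rw [List.map_cons, List.prod_cons, ih (List.nodup_cons.1 hnd).2, slotMat, pureMat_mul]
        congr 1
        funext k
        by_cases hk : k = j
        · subst hk
          have : k ∉ s := (List.nodup_cons.1 hnd).1
          simp [this]
        · simp [Function.update_of_ne hk, hk]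
    have h1 : slotUnit (fun i => slotEmb (F := F) (m := m) i) a b
        = ((List.finRange t).map fun i => slotMat i (Matrix.single (a i) (b i) (1 : F))).prod := by
      rw [slotUnit, slotMul_apply, List.ofFn_eq_map]
      rfl
    rw [h1, key _ (List.nodup_finRange t)]
    ext c d
    rw [pureMat_apply]
    simp only [List.mem_finRange, if_true]
    rw [Matrix.single_apply]
    by_cases h : a = c ∧ b = d
    · obtain ⟨rfl, rfl⟩ := h
      simp
    · rw [if_neg h]
      have : ∃ i, ¬ (a i = c i ∧ b i = d i) := by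
        by_contra hcon
        push Not at hcon
        exact h ⟨funext fun i => (hcon i).1, funext fun i => (hcon i).2⟩
      obtain ⟨i, hi⟩ := this
      apply Finset.prod_eq_zero (Finset.mem_univ i)
      rw [Matrix.single_apply, if_neg hi]
  have hid : slotHom (fun i => slotEmb (F := F) (m := m) i) hcomm (pureMat x) = pureMat x := by
    rw [slotHom_apply]
    conv_rhs => rw [Matrix.matrix_eq_sum_single (pureMat x)]
    apply Finset.sum_congr rfl
    intro a _
    apply Finset.sum_congr rfl
    intro b _
    rw [hunit, Matrix.smul_single, smul_eq_mul, mul_one]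
  rw [← hid, slotHom_pureMat, slotMul_apply]
  rfl

/-- A matrix commuting with all slots is scalar. -/
lemma scalar_of_commute_slots {M : Matrix (Fin t → Fin m) (Fin t → Fin m) F}
    (h : ∀ i x, M * slotMat i x = slotMat i x * M) : ∃ c : F, M = c • 1 := by
  have hpure : ∀ x : Fin t → Matrix (Fin m) (Fin m) F, Commute M (pureMat x) := by
    intro x
    rw [pureMat_eq_prod]
    apply Commute.list_prod_right
    intro y hy
    rw [List.mem_ofFn] at hy
    obtain ⟨i, rfl⟩ := hy
    exact h i _
  have : M ∈ Set.range (Matrix.scalar (Fin t → Fin m) : F →+* Matrix _ _ F) := by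
    rw [Matrix.mem_range_scalar_iff_commute_single']
    intro a b
    have h1 := hpure (fun i => Matrix.single (a i) (b i) (1 : F))
    have h2 : pureMat (fun i => Matrix.single (a i) (b i) (1 : F)) = Matrix.single a b 1 := by
      ext c d
      rw [pureMat_apply, Matrix.single_apply]
      by_cases h : a = c ∧ b = d
      · obtain ⟨rfl, rfl⟩ := h
        simp
      · rw [if_neg h]
        have : ∃ i, ¬ (a i = c i ∧ b i = d i) := by
          by_contra hcon
          push Not at hcon
          exact h ⟨funext fun i => (hcon i).1, funext fun i => (hcon i).2⟩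
        obtain ⟨i, hi⟩ := this
        apply Finset.prod_eq_zero (Finset.mem_univ i)
        rw [Matrix.single_apply, if_neg hi]
    rw [h2] at h1
    exact h1.symm
  obtain ⟨c, hc⟩ := this
  exact ⟨c, by rw [← hc, Matrix.scalar_apply, Matrix.smul_one_eq_diagonal]⟩

/-- An invertible matrix permuting the slot algebras is in the standard tensor-wreath subgroup. -/
theorem mem_tensorWreathStandard (ht : 0 < t) (hm : 0 < m) (h : GL (Fin t → Fin m) F)
    (σ : Equiv.Perm (Fin t))
    (hσ : ∀ i x, ∃ y, (h : Matrix (Fin t → Fin m) (Fin t → Fin m) F) * slotMat i x *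
      ((h⁻¹ : GL (Fin t → Fin m) F) : Matrix _ _ F) = slotMat (σ i) y) :
    h ∈ tensorWreathStandard m t F := by
  classical
  set T := facPerm F m σ with hT
  set k : GL (Fin t → Fin m) F := T⁻¹ * h with hk
  have hk1 : ∀ i x, ∃ y, (k : Matrix (Fin t → Fin m) (Fin t → Fin m) F) * slotMat i x *
      ((k⁻¹ : GL (Fin t → Fin m) F) : Matrix _ _ F) = slotMat i y := by
    intro i x
    obtain ⟨y, hy⟩ := hσ i x
    refine ⟨y, ?_⟩
    have h1 : (k : Matrix (Fin t → Fin m) (Fin t → Fin m) F) * slotMat i x *
      ((k⁻¹ : GL (Fin t → Fin m) F) : Matrix _ _ F)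
      = ((T⁻¹ : GL (Fin t → Fin m) F) : Matrix _ _ F) * ((h : Matrix (Fin t → Fin m) (Fin t → Fin m) F) * slotMat i x *
      ((h⁻¹ : GL (Fin t → Fin m) F) : Matrix _ _ F)) * (T : Matrix _ _ F) := by
      rw [hk, mul_inv_rev, inv_inv, Units.val_mul, Units.val_mul]
      simp only [mul_assoc]
    rw [h1, hy, ← slotMat_apply_facPerm σ i y, ← hT]
    simp [mul_assoc]
  choose α hα using hk1
  have hαhom : ∀ i, ∃ g : GL (Fin m) F, ∀ x, α i x = (g : Matrix (Fin m) (Fin m) F) * x * ((g⁻¹ : GL (Fin m) F) : Matrix _ _ F) := by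
    intro i
    have hinj := slotEmb_injective (F := F) hm i
    have hinj' : ∀ x y : Matrix (Fin m) (Fin m) F, slotMat i x = slotMat i y → x = y := fun x y h => hinj h
    let A : Matrix (Fin m) (Fin m) F →ₐ[F] Matrix (Fin m) (Fin m) F :=
      AlgHom.ofLinearMap
        { toFun := α i
          map_add' := fun x y => by
            apply hinj'
            rw [← hα, slotMat_add, slotMat_add, mul_add, add_mul, hα, hα]
          map_smul' := fun c x => by
            apply hinj'
            rw [← hα, slotMat_smul, RingHom.id_apply, slotMat_smul, Matrix.mul_smul, Matrix.smul_mul, hα] }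
        (by
          apply hinj'
          change slotMat i (α i 1) = _
          rw [← hα, slotMat_one]
          simp)
        (by
          intro x y
          apply hinj'
          change slotMat i (α i (x * y)) = slotMat i (α i x * α i y)
          rw [← hα, slotMat_mul, slotMat_mul, ← hα i x, ← hα i y]
          simp [mul_assoc])
    have hAinj : Function.Injective A := by
      have : Nonempty (Fin m) := ⟨⟨0, hm⟩⟩
      exact A.toRingHom.injective
    have hAbij : Function.Bijective A := ⟨hAinj, LinearMap.surjective_of_injective (f := A.toLinearMap) hAinj⟩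
    obtain ⟨g, hg⟩ := exists_conj_of_algEquiv (AlgEquiv.ofBijective A hAbij)
    exact ⟨g, hg⟩
  choose g hg using hαhom
  -- G⁻¹ k commutes with all slots
  set G := pureGL g with hG
  have hGslot : ∀ i x, (G : Matrix (Fin t → Fin m) (Fin t → Fin m) F) * slotMat i x *
      ((G⁻¹ : GL (Fin t → Fin m) F) : Matrix _ _ F) = slotMat i (α i x) := by
    intro i x
    rw [hg i x, hG, pureGL_val, pureGL_inv_val, slotMat, pureMat_mul, pureMat_mul, slotMat]
    congr 1
    funext j
    by_cases hj : j = i
    · subst hj; simp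
    · simp [Function.update_of_ne hj]
  have hcomm : ∀ i x, ((G⁻¹ * k : GL (Fin t → Fin m) F) : Matrix (Fin t → Fin m) (Fin t → Fin m) F) * slotMat i x
      = slotMat i x * ((G⁻¹ * k : GL (Fin t → Fin m) F) : Matrix (Fin t → Fin m) (Fin t → Fin m) F) := by
    intro i x
    have h1 := hGslot i x
    rw [← hα i x] at h1
    -- G s G⁻¹ = k s k⁻¹
    have h2 := congrArg (fun Z => ((G⁻¹ : GL (Fin t → Fin m) F) : Matrix (Fin t → Fin m) (Fin t → Fin m) F) * Z *
      (k : Matrix (Fin t → Fin m) (Fin t → Fin m) F)) h1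
    simp only [mul_assoc, Units.inv_mul_cancel_left, Units.inv_mul, mul_one] at h2
    rw [Units.val_mul]
    simp only [mul_assoc]
    exact h2.symm
  obtain ⟨c, hc⟩ := scalar_of_commute_slots hcomm
  have hc0 : c ≠ 0 := by
    intro h0
    rw [h0, zero_smul] at hc
    have : Nonempty (Fin m) := ⟨⟨0, hm⟩⟩
    exact (G⁻¹ * k).ne_zero hc
  -- absorb the scalar in slot 0
  let i0 : Fin t := ⟨0, ht⟩
  let c' : GL (Fin m) F := Units.map (algebraMap F (Matrix (Fin m) (Fin m) F)).toMonoidHom (Units.mk0 c hc0)
  have hkG : k = pureGL (Function.update g i0 (c' * g i0)) := by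
    apply Units.ext
    have h1 : (k : Matrix (Fin t → Fin m) (Fin t → Fin m) F) = (G : Matrix _ _ F) * ((G⁻¹ * k : GL (Fin t → Fin m) F) : Matrix _ _ F) := by
      rw [← Units.val_mul]; simp
    rw [h1, hc, Matrix.mul_smul, mul_one, hG, pureGL_val, pureGL_val]
    ext a b
    rw [Matrix.smul_apply, pureMat_apply, pureMat_apply, ← Finset.mul_prod_erase _ _ (Finset.mem_univ i0),
      ← Finset.mul_prod_erase _ _ (Finset.mem_univ i0), Function.update_self]
    have h2 : ∏ j ∈ Finset.univ.erase i0, ((Function.update g i0 (c' * g i0) j : GL (Fin m) F) : Matrix (Fin m) (Fin m) F) (a j) (b j)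
        = ∏ j ∈ Finset.univ.erase i0, (g j : Matrix (Fin m) (Fin m) F) (a j) (b j) := by
      apply Finset.prod_congr rfl
      intro j hj
      rw [Function.update_of_ne (Finset.ne_of_mem_erase hj)]
    rw [h2, Units.val_mul]
    have h3 : (c' : Matrix (Fin m) (Fin m) F) = c • 1 := by
      change algebraMap F (Matrix (Fin m) (Fin m) F) c = _
      rw [Algebra.algebraMap_eq_smul_one]
    rw [h3, Matrix.smul_mul, one_mul, Matrix.smul_apply, smul_eq_mul, smul_eq_mul]
    ring
  have : h = T * k := by rw [hk]; group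
  rw [this]
  apply Subgroup.mul_mem
  · exact facPerm_mem σ
  · rw [hkG]; exact pureGL_mem _

end Standard

section Main

variable {ι : Type} [Fintype ι] [DecidableEq ι] {F : Type*} [Field F] {t m : ℕ}

/-- An element permuting commuting copies of `M_m(F)` which generate `M_ι(F)` is in the corresponding
tensor-wreath subgroup. -/
theorem mem_tensorWreathSubgroup (ht : 0 < t) (hm : 0 < m)
    (ψ : Fin t → (Matrix (Fin m) (Fin m) F →ₐ[F] Matrix ι ι F))
    (hψ : ∀ i j, i ≠ j → ∀ x y, Commute (ψ i x) (ψ j y))
    (e : ι ≃ (Fin t → Fin m)) (P : GL ι F) (heP : ∀ X, slotHom ψ hψ X = frameMat e P X)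
    (h : GL ι F) (σ : Equiv.Perm (Fin t))
    (hσ : ∀ i x, ∃ y, (h : Matrix ι ι F) * ψ i x * ((h⁻¹ : GL ι F) : Matrix _ _ F) = ψ (σ i) y) :
    h ∈ tensorWreathSubgroup m t e P := by
  rw [mem_tensorWreathSubgroup_iff]
  refine ⟨(frameGL e P).symm h, ?_, by simp⟩
  apply mem_tensorWreathStandard ht hm _ σ
  intro i x
  obtain ⟨y, hy⟩ := hσ i x
  refine ⟨y, ?_⟩
  apply frameMat_injective e P
  have h1 : ∀ j z, frameMat e P (slotMat j z) = ψ j z := by
    intro j z
    rw [← heP, slotHom_slotMat]
  rw [frameMat_mul, frameMat_mul, h1, h1, ← frameGL_val, ← frameGL_val, map_inv,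
    MulEquiv.apply_symm_apply, hy]

end Main

end Cfsg.Agent.H919
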