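import Cfsg.Agent.H919.AschWreathForm

/-!
# Forms on tensor power decompositions, continued (helper919)
-/

set_option autoImplicit false
set_option linter.unusedSectionVars false

namespace Cfsg.Agent.H919

open Cfsg Cfsg.Geo
open scoped MatrixGroups Matrix Kronecker commutatorElement

variable {ι : Type} [Fintype ι] [DecidableEq ι] {F : Type*} [Field F] {t m : ℕ}

/-- The frame as an algebra isomorphism. -/
noncomputable def frameAlg (e : ι ≃ (Fin t → Fin m)) (P : GL ι F) :
    Matrix (Fin t → Fin m) (Fin t → Fin m) F ≃ₐ[F] Matrix ι ι F :=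
  (Matrix.reindexAlgEquiv F F e.symm).trans (conjAlg P)

lemma frameAlg_apply (e : ι ≃ (Fin t → Fin m)) (P : GL ι F) (X : Matrix (Fin t → Fin m) (Fin t → Fin m) F) :
    frameAlg e P X = frameMat e P X := rfl

lemma frameMat_mulVec (e : ι ≃ (Fin t → Fin m)) (P : GL ι F)
    (X : Matrix (Fin t → Fin m) (Fin t → Fin m) F) (x : (Fin t → Fin m) → F) :
    frameMat e P X *ᵥ ((P : Matrix ι ι F) *ᵥ (x ∘ e)) = (P : Matrix ι ι F) *ᵥ ((X *ᵥ x) ∘ e) := by
  rw [frameMat, Matrix.mulVec_mulVec, mul_assoc, Units.inv_mul, mul_one, ← Matrix.mulVec_mulVec]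
  congr 1
  funext i
  simp only [Matrix.mulVec, dotProduct, Function.comp, Matrix.reindexAlgEquiv_apply,
    Matrix.reindex_apply, Matrix.submatrix_apply, Equiv.symm_symm]
  exact Equiv.sum_comp e (fun j => X (e i) j * x j)

/-- The Gram matrix of `f` in the frame. -/
def frameGram (f : (ι → F) → (ι → F) → F) (e : ι ≃ (Fin t → Fin m)) (P : GL ι F) :
    Matrix (Fin t → Fin m) (Fin t → Fin m) F :=
  Matrix.of fun a b => f ((P : Matrix ι ι F) *ᵥ ((Pi.single a (1 : F) : (Fin t → Fin m) → F) ∘ e))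
    ((P : Matrix ι ι F) *ᵥ ((Pi.single b (1 : F) : (Fin t → Fin m) → F) ∘ e))

lemma form_frame {σ : F ≃+* F} {ε : F} {f : (ι → F) → (ι → F) → F} (hf : HermForm σ ε f)
    (e : ι ≃ (Fin t → Fin m)) (P : GL ι F) (x y : (Fin t → Fin m) → F) :
    f ((P : Matrix ι ι F) *ᵥ (x ∘ e)) ((P : Matrix ι ι F) *ᵥ (y ∘ e)) = sesq σ (frameGram f e P) x y := by
  have hx : ∀ x : (Fin t → Fin m) → F, (P : Matrix ι ι F) *ᵥ (x ∘ e)
      = ∑ a, x a • ((P : Matrix ι ι F) *ᵥ ((Pi.single a (1 : F) : (Fin t → Fin m) → F) ∘ e)) := by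
    intro x
    have h1 : x ∘ e = ∑ a, x a • ((Pi.single a (1 : F) : (Fin t → Fin m) → F) ∘ e) := by
      funext i
      rw [Finset.sum_apply]
      simp only [Function.comp, Pi.smul_apply, smul_eq_mul]
      rw [Finset.sum_eq_single (e i)]
      · simp
      · intro b _ hb
        rw [Pi.single_eq_of_ne (fun h => hb h.symm), mul_zero]
      · intro h; exact absurd (Finset.mem_univ _) h
    rw [h1, Matrix.mulVec_sum]
    simp only [Matrix.mulVec_smul]
  rw [hx x, hx y, hf.sum_left, sesq_eq_sum]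
  apply Finset.sum_congr rfl
  intro a _
  rw [hf.smul_left, hf.sum_right, Finset.mul_sum]
  apply Finset.sum_congr rfl
  intro b _
  rw [hf.smul_right]
  simp only [frameGram, Matrix.of_apply]
  ring

lemma frameGram_ne_zero {σ : F ≃+* F} {ε : F} {f : (ι → F) → (ι → F) → F} (hf : HermForm σ ε f)
    (e : ι ≃ (Fin t → Fin m)) (P : GL ι F) [Nonempty ι] : frameGram f e P ≠ 0 := by
  intro h0
  let v : ι → F := Pi.single (Classical.arbitrary ι) 1
  have hv : v ≠ 0 := by
    intro h
    have := congrFun h (Classical.arbitrary ι)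
    simp [v] at this
  obtain ⟨⟨x, hx⟩, _⟩ := hf.nondegenerate v hv
  apply hx
  have h1 : ∀ w : ι → F, w = (P : Matrix ι ι F) *ᵥ ((((P⁻¹ : GL ι F) : Matrix ι ι F) *ᵥ w) ∘ e.symm ∘ e) := by
    intro w
    have : ((((P⁻¹ : GL ι F) : Matrix ι ι F) *ᵥ w) ∘ e.symm ∘ e) = ((P⁻¹ : GL ι F) : Matrix ι ι F) *ᵥ w := by
      funext i; simp
    rw [this, Matrix.mulVec_mulVec, Units.mul_inv, Matrix.one_mulVec]
  rw [h1 x, h1 v]
  have := form_frame hf e P ((((P⁻¹ : GL ι F) : Matrix ι ι F) *ᵥ x) ∘ e.symm)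
    ((((P⁻¹ : GL ι F) : Matrix ι ι F) *ᵥ v) ∘ e.symm)
  rw [h0] at this
  have h2 : ∀ (z w : (Fin t → Fin m) → F), sesq σ (0 : Matrix (Fin t → Fin m) (Fin t → Fin m) F) z w = 0 := by
    intro z w
    simp [sesq]
  rw [h2] at this
  exact this

lemma frameGram_inv {σ : F ≃+* F} {ε : F} {f : (ι → F) → (ι → F) → F} (hf : HermForm σ ε f)
    (e : ι ≃ (Fin t → Fin m)) (P : GL ι F) {X : Matrix (Fin t → Fin m) (Fin t → Fin m) F}
    (hX : ∀ u v, f (frameMat e P X *ᵥ u) (frameMat e P X *ᵥ v) = f u v) :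
    Xᵀ * frameGram f e P * X.map σ = frameGram f e P := by
  apply sesq_injective σ
  intro x y
  rw [← sesq_mulVec, ← form_frame hf, ← form_frame hf, ← frameMat_mulVec, ← frameMat_mulVec, hX]

lemma frameGram_herm {σ : F ≃+* F} {ε : F} {f : (ι → F) → (ι → F) → F} (hf : HermForm σ ε f)
    (e : ι ≃ (Fin t → Fin m)) (P : GL ι F) :
    frameGram f e P = ε • ((frameGram f e P).map σ)ᵀ := by
  ext a b
  simp only [frameGram, Matrix.of_apply, Matrix.smul_apply, Matrix.transpose_apply, Matrix.map_apply,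
    smul_eq_mul]
  exact hf.herm _ _

section Data

variable {H : Subgroup (GL ι F)} {e : ι ≃ (Fin t → Fin m)} {P : GL ι F} {E : Fin t → Subgroup (GL ι F)}

/-- The matrices of the elements of `E i` on the factor. -/
def facSet (e : ι ≃ (Fin t → Fin m)) (P : GL ι F) (E : Fin t → Subgroup (GL ι F)) (i : Fin t) :
    Set (Matrix (Fin m) (Fin m) F) :=
  {a | ∃ g ∈ E i, (g : Matrix ι ι F) = frameMat e P (slotMat i a)}

/-- The `i`-th slot embedded by the frame. -/
noncomputable def slotFrame (e : ι ≃ (Fin t → Fin m)) (P : GL ι F) (i : Fin t) :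
    Matrix (Fin m) (Fin m) F →ₐ[F] Matrix ι ι F :=
  (frameAlg e P : _ →ₐ[F] Matrix ι ι F).comp (slotEmb i)

lemma slotFrame_apply (i : Fin t) (x : Matrix (Fin m) (Fin m) F) :
    slotFrame e P i x = frameMat e P (slotMat i x) := rfl

lemma slotFrame_injective (hm : 0 < m) (i : Fin t) : Function.Injective (slotFrame e P i) := by
  have : Nonempty (Fin m) := ⟨⟨0, hm⟩⟩
  exact (frameAlg e P).injective.comp (slotEmb_injective hm i)

lemma WreathData.adjoin_facSet (W : WreathData H m t e P E) (i : Fin t) :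
    Algebra.adjoin F (facSet e P E i) = ⊤ := by
  have hm : 0 < m := by have := W.two_le_m; omega
  rw [eq_top_iff]
  intro x _
  have h1 : slotFrame e P i x ∈ Algebra.adjoin F (matrixSet (E i)) := (W.env_iff i _).2 ⟨x, rfl⟩
  have h2 : Algebra.adjoin F (matrixSet (E i)) ≤ (Algebra.adjoin F (facSet e P E i)).map (slotFrame e P i) := by
    rw [AlgHom.map_adjoin]
    apply Algebra.adjoin_mono
    rintro _ ⟨g, hg, rfl⟩
    obtain ⟨a, ha⟩ := (W.env_iff i _).1 (mem_adjoin hg)
    exact ⟨a, ⟨g, hg, ha⟩, ha.symm⟩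
  obtain ⟨y, hy, hyx⟩ := h2 h1
  rwa [← slotFrame_injective hm i hyx]

lemma WreathData.isUnit_facSet (W : WreathData H m t e P E) (i : Fin t) :
    ∀ s ∈ facSet e P E i, IsUnit s := by
  have hm : 0 < m := by have := W.two_le_m; omega
  rintro s ⟨g, hg, hgs⟩
  obtain ⟨b, hb⟩ := (W.env_iff i _).1 (mem_adjoin ((E i).inv_mem hg))
  have h1 : s * b = 1 := by
    apply slotFrame_injective (e := e) (P := P) hm i
    rw [map_mul, slotFrame_apply, slotFrame_apply, ← hgs, ← hb, Units.mul_inv, map_one]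
  have h2 : b * s = 1 := by
    apply slotFrame_injective (e := e) (P := P) hm i
    rw [map_mul, slotFrame_apply, slotFrame_apply, ← hgs, ← hb, Units.inv_mul, map_one]
  exact ⟨⟨s, b, h1, h2⟩, rfl⟩

/-- Transitivity gives conjugating matrices between the factors. -/
lemma WreathData.exists_conj (W : WreathData H m t e P E) (i j : Fin t) :
    ∃ b : GL (Fin m) F, ∀ a ∈ facSet e P E i,
      (b : Matrix (Fin m) (Fin m) F) * a * ((b⁻¹ : GL (Fin m) F) : Matrix (Fin m) (Fin m) F) ∈ facSet e P E j := by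
  have hm : 0 < m := by have := W.two_le_m; omega
  obtain ⟨h, hh, he⟩ := W.transitive i j
  have h1 : ∀ x, ∃ y, conjAlg h (slotFrame e P i x) = slotFrame e P j y := by
    intro x
    have h2 : slotFrame e P i x ∈ Algebra.adjoin F (matrixSet (E i)) := (W.env_iff i _).2 ⟨x, rfl⟩
    have h3 : conjAlg h (slotFrame e P i x) ∈ Algebra.adjoin F (matrixSet (E j)) := by
      rw [← he, ← map_adjoin_cj]
      exact ⟨_, h2, rfl⟩
    exact (W.env_iff j _).1 h3
  choose β hβ using h1
  have hinj := slotFrame_injective (F := F) (e := e) (P := P) hm j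
  let B : Matrix (Fin m) (Fin m) F →ₐ[F] Matrix (Fin m) (Fin m) F :=
    AlgHom.ofLinearMap
      { toFun := β
        map_add' := fun x y => by
          apply hinj
          rw [← hβ, map_add, map_add, map_add, hβ, hβ]
        map_smul' := fun c x => by
          apply hinj
          rw [← hβ, map_smul, map_smul, RingHom.id_apply, map_smul, hβ] }
      (by
        apply hinj
        change slotFrame e P j (β 1) = _
        rw [← hβ, map_one, map_one, map_one])
      (by
        intro x y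
        apply hinj
        change slotFrame e P j (β (x * y)) = slotFrame e P j (β x * β y)
        rw [← hβ, map_mul, map_mul, map_mul, ← hβ x, ← hβ y])
  have hBinj : Function.Injective B := by
    have : Nonempty (Fin m) := ⟨⟨0, hm⟩⟩
    exact B.toRingHom.injective
  have hBbij : Function.Bijective B := ⟨hBinj, LinearMap.surjective_of_injective (f := B.toLinearMap) hBinj⟩
  obtain ⟨b, hb⟩ := exists_conj_of_algEquiv (AlgEquiv.ofBijective B hBbij)
  refine ⟨b, ?_⟩
  rintro a ⟨g, hg, hga⟩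
  rw [← hb a]
  refine ⟨h * g * h⁻¹, ?_, ?_⟩
  · rw [← he]; exact conj_mem_cj hg
  · have h3 := hβ a
    rw [slotFrame_apply, ← hga, conjAlg_apply] at h3
    rw [Units.val_mul, Units.val_mul, h3]
    rfl

lemma frameMat_change (P : GL ι F) (b : Fin t → GL (Fin m) F) (X : Matrix (Fin t → Fin m) (Fin t → Fin m) F) :
    frameMat e (P * glReindex e.symm (pureGL b)) X
      = frameMat e P ((pureGL b : Matrix (Fin t → Fin m) (Fin t → Fin m) F) * X *
        (((pureGL b)⁻¹ : GL (Fin t → Fin m) F) : Matrix (Fin t → Fin m) (Fin t → Fin m) F)) := by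
  rw [← frameAlg_apply, ← frameAlg_apply]
  simp only [frameAlg, AlgEquiv.trans_apply, conjAlg_apply, map_mul, mul_inv_rev, Units.val_mul]
  have h1 : ((glReindex e.symm (pureGL b) : GL ι F) : Matrix ι ι F)
      = Matrix.reindexAlgEquiv F F e.symm (pureGL b : Matrix (Fin t → Fin m) (Fin t → Fin m) F) := rfl
  have h2 : (((glReindex e.symm (pureGL b))⁻¹ : GL ι F) : Matrix ι ι F)
      = Matrix.reindexAlgEquiv F F e.symm (((pureGL b)⁻¹ : GL (Fin t → Fin m) F) : Matrix (Fin t → Fin m) (Fin t → Fin m) F) := by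
    rw [← map_inv]; rfl
  rw [h1, h2]
  simp only [mul_assoc, Units.inv_mul_cancel_left]

lemma pureGL_conj_slotMat (b : Fin t → GL (Fin m) F) (i : Fin t) (x : Matrix (Fin m) (Fin m) F) :
    (pureGL b : Matrix (Fin t → Fin m) (Fin t → Fin m) F) * slotMat i x *
        (((pureGL b)⁻¹ : GL (Fin t → Fin m) F) : Matrix (Fin t → Fin m) (Fin t → Fin m) F)
      = slotMat i ((b i : Matrix (Fin m) (Fin m) F) * x * (((b i)⁻¹ : GL (Fin m) F) : Matrix (Fin m) (Fin m) F)) := by
  rw [pureGL_val, pureGL_inv_val, slotMat, pureMat_mul, pureMat_mul, slotMat]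
  congr 1
  funext j
  by_cases hj : j = i
  · subst hj; simp
  · simp [Function.update_of_ne hj]

lemma frameGL_change (P : GL ι F) (k g : GL (Fin t → Fin m) F) :
    frameGL e (P * glReindex e.symm k) g = frameGL e P (k * g * k⁻¹) := by
  simp only [frameGL, MulEquiv.trans_apply, map_mul, map_inv, MulAut.mul_apply, MulAut.conj_apply]

/-- Change of frame by invertible matrices in the slots. -/
lemma WreathData.change (W : WreathData H m t e P E) (b : Fin t → GL (Fin m) F) :
    WreathData H m t e (P * glReindex e.symm (pureGL b)) E where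
  two_le_m := W.two_le_m
  two_le_t := W.two_le_t
  le := W.le
  perfect := W.perfect
  not_scalar := W.not_scalar
  comm := W.comm
  env_iff := by
    intro i X
    rw [W.env_iff i X]
    constructor
    · rintro ⟨x, rfl⟩
      refine ⟨(((b i)⁻¹ : GL (Fin m) F) : Matrix (Fin m) (Fin m) F) * x * (b i : Matrix (Fin m) (Fin m) F), ?_⟩
      rw [frameMat_change, pureGL_conj_slotMat]
      congr 2
      simp [mul_assoc]
    · rintro ⟨x, rfl⟩
      exact ⟨_, by rw [frameMat_change, pureGL_conj_slotMat]⟩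
  permuted := W.permuted
  transitive := W.transitive
  wreath := by
    intro h hh
    have h1 := W.wreath hh
    rw [mem_tensorWreathSubgroup_iff] at h1 ⊢
    obtain ⟨g, hg, hgh⟩ := h1
    refine ⟨(pureGL b)⁻¹ * g * pureGL b, ?_, ?_⟩
    · exact Subgroup.mul_mem _ (Subgroup.mul_mem _ (Subgroup.inv_mem _ (pureGL_mem b)) hg) (pureGL_mem b)
    · rw [← hgh, frameGL_change]
      congr 1
      group

/-- The matrices on the factor after a change of frame. -/
lemma facSet_change (b : Fin t → GL (Fin m) F) (i : Fin t) (a : Matrix (Fin m) (Fin m) F) :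
    a ∈ facSet e (P * glReindex e.symm (pureGL b)) E i ↔
      (b i : Matrix (Fin m) (Fin m) F) * a * (((b i)⁻¹ : GL (Fin m) F) : Matrix (Fin m) (Fin m) F)
        ∈ facSet e P E i := by
  unfold facSet
  simp only [Set.mem_setOf_eq, frameMat_change, pureGL_conj_slotMat]

lemma conj_isometry {f : (ι → F) → (ι → F) → F} (hH : ∀ g ∈ H, ∀ u v,
      f ((g : Matrix ι ι F) *ᵥ u) ((g : Matrix ι ι F) *ᵥ v) = f u v)
    (W : WreathData H m t e P E) {σ : F ≃+* F} {ε : F} (hf : HermForm σ ε f) (i : Fin t) :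
    ∀ s ∈ facSet e P E i, (slotMat i s)ᵀ * frameGram f e P * (slotMat i s).map σ = frameGram f e P := by
  rintro s ⟨g, hg, hgs⟩
  apply frameGram_inv hf
  intro u v
  rw [← hgs]
  exact hH g (W.le i hg) u v

/-- **Form version of the tensor power data.** The form is, in a suitable frame, a multiple of the tensor
power of a hermitian form with Gram matrix `G` on the factor. -/
theorem C_wreath_form {σ : F ≃+* F} {ε : F} {f : (ι → F) → (ι → F) → F} (hf : HermForm σ ε f)
    (hH : ∀ g ∈ H, ∀ u v, f ((g : Matrix ι ι F) *ᵥ u) ((g : Matrix ι ι F) *ᵥ v) = f u v)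
    (W : WreathData H m t e P E) :
    ∃ (P' : GL ι F) (ε₁ c : F) (G : Matrix (Fin m) (Fin m) F),
      WreathData H m t e P' E ∧ HermForm σ ε₁ (sesq σ G) ∧ c ≠ 0 ∧
      (∀ x y : (Fin t → Fin m) → F, f ((P' : Matrix ι ι F) *ᵥ (x ∘ e)) ((P' : Matrix ι ι F) *ᵥ (y ∘ e))
        = c * sesq σ (pureMat (fun _ => G)) x y) ∧
      ε₁ ^ t * c = ε * σ c ∧
      (∀ i, Inv σ (facSet e P' E i) G) := by
  classical
  have hm : 0 < m := by have := W.two_le_m; omega
  have ht : 0 < t := by have := W.two_le_t; omega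
  have hκ : Nonempty (Fin t → Fin m) := ⟨fun _ => ⟨0, hm⟩⟩
  have hι : Nonempty ι := ⟨e.symm (Classical.arbitrary _)⟩
  obtain ⟨c, B, hc0, hBinv, hBu, hGB⟩ := inv_slots σ (fun i => facSet e P E i)
    (fun i => W.adjoin_facSet i) (fun i => W.isUnit_facSet i) (frameGram f e P)
    (frameGram_ne_zero hf e P) (fun i => conj_isometry hH W hf i)
  let i0 : Fin t := ⟨0, ht⟩
  set G := B i0 with hG
  -- similarity of all the factor forms
  have hsim : ∀ i, ∃ (b : GL (Fin m) F) (μ : F), μ ≠ 0 ∧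
      (b : Matrix (Fin m) (Fin m) F)ᵀ * G * (b : Matrix (Fin m) (Fin m) F).map σ = μ • B i := by
    intro i
    obtain ⟨b, hb⟩ := W.exists_conj i i0
    have hinv : Inv σ (facSet e P E i) ((b : Matrix (Fin m) (Fin m) F)ᵀ * G * (b : Matrix (Fin m) (Fin m) F).map σ) := by
      intro a ha
      have h1 := hBinv i0 _ (hb a ha)
      set a' := (b : Matrix (Fin m) (Fin m) F) * a * ((b⁻¹ : GL (Fin m) F) : Matrix (Fin m) (Fin m) F) with ha'
      have h2 : (b : Matrix (Fin m) (Fin m) F) * a = a' * (b : Matrix (Fin m) (Fin m) F) := by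
        rw [ha', mul_assoc, Units.inv_mul, mul_one]
      calc aᵀ * ((b : Matrix (Fin m) (Fin m) F)ᵀ * G * (b : Matrix (Fin m) (Fin m) F).map σ) * a.map σ
          = ((b : Matrix (Fin m) (Fin m) F) * a)ᵀ * G * ((b : Matrix (Fin m) (Fin m) F) * a).map σ := by
            rw [Matrix.transpose_mul, Matrix.map_mul]; simp only [mul_assoc]
        _ = (a' * (b : Matrix (Fin m) (Fin m) F))ᵀ * G * (a' * (b : Matrix (Fin m) (Fin m) F)).map σ := by rw [h2]
        _ = (b : Matrix (Fin m) (Fin m) F)ᵀ * (a'ᵀ * G * a'.map σ) * (b : Matrix (Fin m) (Fin m) F).map σ := by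
            rw [Matrix.transpose_mul, Matrix.map_mul]; simp only [mul_assoc]
        _ = _ := by rw [h1]
    obtain ⟨μ, hμ⟩ := inv_unique (W.adjoin_facSet i) (W.isUnit_facSet i) hinv (hBinv i) (hBu i)
    refine ⟨b, μ, ?_, hμ⟩
    rintro rfl
    rw [zero_smul] at hμ
    have hu : IsUnit ((b : Matrix (Fin m) (Fin m) F)ᵀ * G * (b : Matrix (Fin m) (Fin m) F).map σ) := by
      apply IsUnit.mul
      · apply IsUnit.mul _ (hBu i0)
        rw [Matrix.isUnit_transpose]
        exact b.isUnit
      · exact (b.isUnit).map (σ.toRingHom.mapMatrix : Matrix (Fin m) (Fin m) F →+* _)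
    rw [hμ] at hu
    have : Nonempty (Fin m) := ⟨⟨0, hm⟩⟩
    exact not_isUnit_zero hu
  choose b μ hμ0 hb using hsim
  -- hermitian symmetry of G
  have hGstar : Inv σ (facSet e P E i0) ((G.map σ)ᵀ) := by
    intro a ha
    have h1 := congrArg (fun Z : Matrix (Fin m) (Fin m) F => (Z.map σ)ᵀ) (hBinv i0 a ha)
    simp only [Matrix.map_mul, Matrix.transpose_mul] at h1
    have h2 : ((a.map σ).map σ)ᵀ = aᵀ := by
      ext p q; simp [hf.sigma_sq]
    have h3 : ((aᵀ).map σ)ᵀ = a.map σ := by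
      ext p q; simp
    rw [h2, h3, ← mul_assoc] at h1
    exact h1
  obtain ⟨lam, hlam⟩ := inv_unique (W.adjoin_facSet i0) (W.isUnit_facSet i0) hGstar (hBinv i0) (hBu i0)
  rw [← hG] at hlam
  have hG0 : G ≠ 0 := by
    have : Nonempty (Fin m) := ⟨⟨0, hm⟩⟩
    exact (hBu i0).ne_zero
  obtain ⟨p0, q0, hpq⟩ : ∃ p q, G p q ≠ 0 := by
    by_contra hcon
    push Not at hcon
    exact hG0 (by ext a b; exact hcon a b)
  have hlam_entry : ∀ p q, σ (G q p) = lam * G p q := by
    intro p q
    have := congrFun (congrFun hlam p) q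
    simpa using this
  have hlam2 : lam * σ lam = 1 := by
    have h1 := hlam_entry p0 q0
    have h2 := hlam_entry q0 p0
    have h3 := congrArg σ h1
    rw [hf.sigma_sq, map_mul, h2] at h3
    -- G q0 p0 = σ lam * (lam * G q0 p0)
    have h4 : G q0 p0 ≠ 0 := by
      intro h0
      rw [h0, map_zero] at h1
      rcases mul_eq_zero.1 h1.symm with h | h
      · rw [h, zero_mul] at h2
        rw [map_eq_zero_iff σ σ.injective] at h2
        exact hpq h2
      · exact hpq h
    have h5 : (lam * σ lam - 1) * G q0 p0 = 0 := by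
      rw [sub_mul, one_mul, sub_eq_zero]
      calc lam * σ lam * G q0 p0 = σ lam * (lam * G q0 p0) := by ring
        _ = G q0 p0 := h3.symm
    rcases mul_eq_zero.1 h5 with h | h
    · exact sub_eq_zero.1 h
    · exact absurd h h4
  -- the new frame
  let k : Fin t → GL (Fin m) F := fun i => (b i)⁻¹
  have hGk : ∀ i, ((k i : GL (Fin m) F) : Matrix (Fin m) (Fin m) F)ᵀ * B i * ((k i : GL (Fin m) F) : Matrix (Fin m) (Fin m) F).map σ
      = (μ i)⁻¹ • G := by
    intro i
    have h1 : B i = (μ i)⁻¹ • ((b i : Matrix (Fin m) (Fin m) F)ᵀ * G * (b i : Matrix (Fin m) (Fin m) F).map σ) := by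
      rw [hb i, smul_smul, inv_mul_cancel₀ (hμ0 i), one_smul]
    have h2 : ((k i : GL (Fin m) F) : Matrix (Fin m) (Fin m) F)ᵀ * (b i : Matrix (Fin m) (Fin m) F)ᵀ = 1 := by
      rw [← Matrix.transpose_mul]
      simp [k]
    have h3 : (b i : Matrix (Fin m) (Fin m) F).map σ * ((k i : GL (Fin m) F) : Matrix (Fin m) (Fin m) F).map σ = 1 := by
      rw [← Matrix.map_mul]
      simp [k]
    rw [h1, Matrix.mul_smul, Matrix.smul_mul]
    congr 1
    calc ((k i : GL (Fin m) F) : Matrix (Fin m) (Fin m) F)ᵀ * ((b i : Matrix (Fin m) (Fin m) F)ᵀ * G *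
          (b i : Matrix (Fin m) (Fin m) F).map σ) * ((k i : GL (Fin m) F) : Matrix (Fin m) (Fin m) F).map σ
        = (((k i : GL (Fin m) F) : Matrix (Fin m) (Fin m) F)ᵀ * (b i : Matrix (Fin m) (Fin m) F)ᵀ) * G *
          ((b i : Matrix (Fin m) (Fin m) F).map σ * ((k i : GL (Fin m) F) : Matrix (Fin m) (Fin m) F).map σ) := by
          simp only [mul_assoc]
      _ = G := by rw [h2, h3, one_mul, mul_one]
  set P' : GL ι F := P * glReindex e.symm (pureGL k) with hP'
  set c' : F := c * ∏ i, (μ i)⁻¹ with hc'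
  have hc'0 : c' ≠ 0 := mul_ne_zero hc0 (Finset.prod_ne_zero_iff.2 (fun i _ => inv_ne_zero (hμ0 i)))
  have hgram : (pureGL k : Matrix _ _ F)ᵀ * frameGram f e P * (pureGL k : Matrix (Fin t → Fin m) (Fin t → Fin m) F).map σ
      = c' • pureMat (fun _ => G) := by
    rw [hGB, pureGL_val, pureMat_transpose, pureMat_map, Matrix.mul_smul, Matrix.smul_mul, pureMat_mul, pureMat_mul]
    simp only [hGk]
    rw [hc', mul_smul]
    congr 1
    ext p q
    simp only [pureMat_apply, Matrix.smul_apply, smul_eq_mul, Finset.prod_mul_distrib]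
  have hPvec : ∀ x : (Fin t → Fin m) → F, (P' : Matrix ι ι F) *ᵥ (x ∘ e)
      = (P : Matrix ι ι F) *ᵥ (((pureGL k : Matrix (Fin t → Fin m) (Fin t → Fin m) F) *ᵥ x) ∘ e) := by
    intro x
    rw [hP', Units.val_mul, ← Matrix.mulVec_mulVec]
    congr 1
    funext i
    change (Matrix.reindexAlgEquiv F F e.symm (pureGL k : Matrix (Fin t → Fin m) (Fin t → Fin m) F) *ᵥ (x ∘ e)) i = _
    simp only [Matrix.mulVec, dotProduct, Function.comp, Matrix.reindexAlgEquiv_apply,
      Matrix.reindex_apply, Matrix.submatrix_apply, Equiv.symm_symm]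
    exact Equiv.sum_comp e (fun j => (pureGL k : Matrix (Fin t → Fin m) (Fin t → Fin m) F) (e i) j * x j)
  have hform : ∀ x y : (Fin t → Fin m) → F, f ((P' : Matrix ι ι F) *ᵥ (x ∘ e)) ((P' : Matrix ι ι F) *ᵥ (y ∘ e))
        = c' * sesq σ (pureMat (fun _ => G)) x y := by
    intro x y
    rw [hPvec, hPvec, form_frame hf, sesq_mulVec, hgram, sesq_smul]
  have hgram' : frameGram f e P' = c' • pureMat (fun _ => G) := by
    apply sesq_injective σ
    intro x y
    rw [← form_frame hf, hform, sesq_smul]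
  have hGstar' : (G.map σ)ᵀ = lam • G := hlam
  have hpure0 : pureMat (fun _ : Fin t => G) ≠ 0 := by
    obtain ⟨g, hg⟩ := hBu i0
    have : pureMat (fun _ : Fin t => G) = (pureGL (fun _ : Fin t => g) : Matrix _ _ F) := by
      rw [pureGL_val]
      congr 1
      funext i
      exact hg.symm
    rw [this]
    exact Units.ne_zero _
  have heps : c' = ε * σ c' * lam ^ t := by
    have h1 := frameGram_herm hf e P'
    rw [hgram'] at h1
    have h2 : ((c' • pureMat (fun _ : Fin t => G)).map σ)ᵀ = (σ c' * lam ^ t) • pureMat (fun _ : Fin t => G) := by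
      have h3 : (c' • pureMat (fun _ : Fin t => G)).map σ = σ c' • (pureMat (fun _ : Fin t => G)).map σ := by
        ext p q; simp
      rw [h3, Matrix.transpose_smul, pureMat_map, pureMat_transpose, hGstar', mul_smul]
      congr 1
      ext p q
      simp [pureMat_apply, Finset.prod_mul_distrib]
    rw [h2, smul_smul] at h1
    have h4 : (c' - ε * (σ c' * lam ^ t)) • pureMat (fun _ : Fin t => G) = 0 := by
      rw [sub_smul, ← h1, sub_self]
    rcases smul_eq_zero.1 h4 with h | h
    · rw [mul_assoc]; exact sub_eq_zero.1 h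
    · exact absurd h hpure0
  have hlam' : σ lam * lam = 1 := by rw [mul_comm]; exact hlam2
  have hherm : ∀ v w, sesq σ G v w = σ lam * σ (sesq σ G w v) := by
    intro v w
    rw [sesq_eq_sum, sesq_eq_sum, map_sum, Finset.sum_comm, Finset.mul_sum]
    apply Finset.sum_congr rfl
    intro b _
    rw [map_sum, Finset.mul_sum]
    apply Finset.sum_congr rfl
    intro a _
    rw [map_mul, map_mul, hf.sigma_sq, hlam_entry]
    calc v a * G a b * σ (w b) = (σ lam * lam) * (v a * G a b * σ (w b)) := by rw [hlam', one_mul]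
      _ = σ lam * (σ (w b) * (lam * G a b) * v a) := by ring
  have hnd1 : ∀ v : Fin m → F, v ≠ 0 → ∃ x, sesq σ G x v ≠ 0 := by
    intro v hv
    by_contra hcon
    push Not at hcon
    apply hv
    obtain ⟨g, hg⟩ := hBu i0
    have h1 : G *ᵥ (fun b => σ (v b)) = 0 := by
      funext a
      have := hcon (Pi.single a 1)
      rw [sesq] at this
      simpa using this
    have h2 : (fun b => σ (v b)) = 0 := by
      have := congrArg (fun z => ((g⁻¹ : GL (Fin m) F) : Matrix (Fin m) (Fin m) F) *ᵥ z) h1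
      simp only [hG, ← hg, Matrix.mulVec_mulVec, Units.inv_mul, Matrix.one_mulVec, Matrix.mulVec_zero] at this
      exact this
    funext a
    have := congrFun h2 a
    simpa using this
  refine ⟨P', σ lam, c', G, W.change k, ?_, hc'0, hform, ?_, ?_⟩
  · refine ⟨?_, ?_, hf.sigma_sq, ?_, hherm, ?_⟩
    · intro x y v
      simp only [sesq, add_dotProduct]
    · intro c x v
      simp only [sesq, smul_dotProduct, smul_eq_mul]
    · rw [hf.sigma_sq]; exact hlam'
    · intro v hv
      obtain ⟨x, hx⟩ := hnd1 v hv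
      refine ⟨⟨x, hx⟩, ⟨x, ?_⟩⟩
      intro h0
      apply hx
      rw [hherm x v, h0, map_zero, mul_zero]
  · calc σ lam ^ t * c' = σ lam ^ t * (ε * σ c' * lam ^ t) := by rw [← heps]
      _ = ε * σ c' * (σ lam * lam) ^ t := by rw [mul_pow]; ring
      _ = ε * σ c' := by rw [hlam', one_pow, mul_one]
  · intro i a ha
    rw [hP', facSet_change] at ha
    have h1 := hBinv i _ ha
    set a' := (k i : Matrix (Fin m) (Fin m) F) * a * (((k i)⁻¹ : GL (Fin m) F) : Matrix (Fin m) (Fin m) F) with ha'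
    have h2 : (k i : Matrix (Fin m) (Fin m) F) * a = a' * (k i : Matrix (Fin m) (Fin m) F) := by
      rw [ha', mul_assoc, Units.inv_mul, mul_one]
    have h3 : G = μ i • ((k i : Matrix (Fin m) (Fin m) F)ᵀ * B i * (k i : Matrix (Fin m) (Fin m) F).map σ) := by
      rw [hGk i, smul_smul, mul_inv_cancel₀ (hμ0 i), one_smul]
    have h4 : aᵀ * ((k i : Matrix (Fin m) (Fin m) F)ᵀ * B i * (k i : Matrix (Fin m) (Fin m) F).map σ) * a.map σ
        = (k i : Matrix (Fin m) (Fin m) F)ᵀ * B i * (k i : Matrix (Fin m) (Fin m) F).map σ := by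
      calc aᵀ * ((k i : Matrix (Fin m) (Fin m) F)ᵀ * B i * (k i : Matrix (Fin m) (Fin m) F).map σ) * a.map σ
          = ((k i : Matrix (Fin m) (Fin m) F) * a)ᵀ * B i * ((k i : Matrix (Fin m) (Fin m) F) * a).map σ := by
            rw [Matrix.transpose_mul, Matrix.map_mul]; simp only [mul_assoc]
        _ = (a' * (k i : Matrix (Fin m) (Fin m) F))ᵀ * B i * (a' * (k i : Matrix (Fin m) (Fin m) F)).map σ := by rw [h2]
        _ = (k i : Matrix (Fin m) (Fin m) F)ᵀ * (a'ᵀ * B i * a'.map σ) * (k i : Matrix (Fin m) (Fin m) F).map σ := by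
            rw [Matrix.transpose_mul, Matrix.map_mul]; simp only [mul_assoc]
        _ = _ := by rw [h1]
    rw [h3, Matrix.mul_smul, Matrix.smul_mul, h4]

end Data

end Cfsg.Agent.H919
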