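import Cfsg.Agent.H915.LD

/-!
# Invariant quadratic forms in characteristic two (helper919)

`P ≤ GL(ι, F)` fixes the alternating form `f`, `char F = 2`.  Criteria for the existence of a `P`-invariant quadratic
form with polar form `f`:

* `QP f Q` : `Q` is a quadratic form with polar form `f`; `Inv K Q` : `Q` is `K`-invariant;
* `exists_qp_basis`, `qp_ext_basis` : `Q` is determined by its values on a basis, and exists;
* `avg` : a subgroup `K ≤ P` of odd index fixes one ⟹ `P` fixes one;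
* `of_monomial` : `K` permutes a basis up to scalars;
* `of_split` : `K` preserves two complementary totally isotropic subspaces;
* `Fpf D`, `fpf_unique`, `fpf_normalizer` : `D` of odd order without nonzero fixed vectors;
* `exists_of_linked` : linked families of such subgroups, `exists_of_commuting` : elements.
-/

set_option autoImplicit false
set_option linter.unusedSectionVars false

open Cfsg Cfsg.Geo Matrix

namespace Cfsg.Agent.H919.Q2

universe u

variable {ι : Type} [Fintype ι] [DecidableEq ι] {F : Type u} [Field F]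

/-- `Q` is a quadratic form with polar form `f` -/
structure QP (f : (ι → F) → (ι → F) → F) (Q : (ι → F) → F) : Prop where
  smul : ∀ (c : F) (v : ι → F), Q (c • v) = c ^ 2 * Q v
  add : ∀ v w : ι → F, Q (v + w) = Q v + Q w + f v w

/-- `Q` is `K`-invariant -/
def Inv (K : Subgroup (GL ι F)) (Q : (ι → F) → F) : Prop :=
  ∀ g ∈ K, ∀ v, Q ((g : Matrix ι ι F) *ᵥ v) = Q v

/-- `f` is `K`-invariant -/
def InvB (K : Subgroup (GL ι F)) (f : (ι → F) → (ι → F) → F) : Prop :=
  ∀ g ∈ K, ∀ v w, f ((g : Matrix ι ι F) *ᵥ v) ((g : Matrix ι ι F) *ᵥ w) = f v w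

variable {f : (ι → F) → (ι → F) → F} {P K : Subgroup (GL ι F)}

lemma invB_of_fixes (h : FixesForm (matrixSet P) f) : InvB P f := fun g hg v w => h _ ⟨g, hg, rfl⟩ v w

lemma InvB.mono (h : InvB P f) (hK : K ≤ P) : InvB K f := fun g hg => h g (hK hg)

lemma Inv.mono {Q : (ι → F) → F} (h : Inv P Q) (hK : K ≤ P) : Inv K Q := fun g hg => h g (hK hg)

lemma QP.zero {Q : (ι → F) → F} (h : QP f Q) : Q 0 = 0 := by
  have := h.smul 0 0
  simpa using this

lemma QP.polar {Q : (ι → F) → F} (h : QP f Q) : QuadraticMap.polar Q = f := by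
  funext v w
  rw [QuadraticMap.polar, h.add]
  ring

lemma QP.nondeg {Q : (ι → F) → F} (h : QP f Q) (hf : IsSymplecticForm f) : IsNondegenerateQuadraticForm Q :=
  ⟨h.smul, by rw [h.polar]; exact hf.bilinear, by rw [h.polar]; exact hf.nondegenerate⟩

/-- the conclusion -/
lemma fixQ_of {Q : (ι → F) → F} (hf : IsSymplecticForm f) (h : QP f Q) (hP : Inv P Q) :
    Cfsg.Agent.H915.LD.FixQ P := by
  refine ⟨Q, h.nondeg hf, ?_⟩
  rintro _ ⟨g, hg, rfl⟩ v
  exact hP g hg v

lemma fixes_of {Q : (ι → F) → F} (hf : IsSymplecticForm f) (h : QP f Q) (hP : Inv P Q) :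
    ∃ Q : (ι → F) → F, IsNondegenerateQuadraticForm Q ∧ FixesQuadForm (matrixSet P) Q :=
  fixQ_of hf h hP

lemma QP.comp {Q : (ι → F) → F} (h : QP f Q) {g : GL ι F}
    (hg : ∀ v w, f ((g : Matrix ι ι F) *ᵥ v) ((g : Matrix ι ι F) *ᵥ w) = f v w) :
    QP f (fun v => Q ((g : Matrix ι ι F) *ᵥ v)) :=
  ⟨fun c v => by rw [Matrix.mulVec_smul, h.smul], fun v w => by rw [Matrix.mulVec_add, h.add, hg]⟩

/-! ### bases -/

lemma QP.sum {Q : (ι → F) → F} (h : QP f Q) {Q' : (ι → F) → F} (h' : QP f Q') {κ : Type*} (s : Finset κ) (b : κ → (ι → F))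
    (c : κ → F) (hb : ∀ k ∈ s, Q (b k) = Q' (b k)) : Q (∑ k ∈ s, c k • b k) = Q' (∑ k ∈ s, c k • b k) := by
  classical
  induction s using Finset.induction_on with
  | empty => simp [h.zero, h'.zero]
  | insert a s ha ih =>
    rw [Finset.sum_insert ha, h.add, h'.add, h.smul, h'.smul, hb a (Finset.mem_insert_self a s),
      ih (fun k hk => hb k (Finset.mem_insert_of_mem hk))]

/-- two quadratic forms with the same polar form which agree on a spanning set are equal -/
theorem qp_ext_span {Q Q' : (ι → F) → F} (h : QP f Q) (h' : QP f Q') {S : Set (ι → F)}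
    (hS : Submodule.span F S = ⊤) (hb : ∀ v ∈ S, Q v = Q' v) : Q = Q' := by
  funext v
  have hv : v ∈ Submodule.span F S := by rw [hS]; trivial
  induction hv using Submodule.span_induction with
  | mem x hx => exact hb x hx
  | zero => rw [h.zero, h'.zero]
  | add x y _ _ hx hy => rw [h.add, h'.add, hx, hy]
  | smul c x _ hx => rw [h.smul, h'.smul, hx]

/-- existence: prescribed values on a basis -/
theorem exists_qp_basis (h2 : (2 : F) = 0) (hf : IsSymplecticForm f) {n : ℕ} (b : Module.Basis (Fin n) F (ι → F))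
    (d : Fin n → F) : ∃ Q, QP f Q ∧ ∀ i, Q (b i) = d i := by
  classical
  -- the bilinear map with `A (b i) (b j) = f (b i) (b j)` for `i < j`, `d i` for `i = j`
  set A : (ι → F) → (ι → F) → F := fun v w => ∑ i, ∑ j, b.repr v i * b.repr w j *
    (if i < j then f (b i) (b j) else if i = j then d i else 0) with hA
  have hAl : ∀ x y v, A (x + y) v = A x v + A y v := by
    intro x y v
    simp only [hA]
    rw [← Finset.sum_add_distrib]
    refine Finset.sum_congr rfl fun i _ => ?_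
    rw [← Finset.sum_add_distrib]
    refine Finset.sum_congr rfl fun j _ => ?_
    rw [map_add, Finsupp.add_apply]
    ring
  have hAr : ∀ v x y, A v (x + y) = A v x + A v y := by
    intro v x y
    simp only [hA]
    rw [← Finset.sum_add_distrib]
    refine Finset.sum_congr rfl fun i _ => ?_
    rw [← Finset.sum_add_distrib]
    refine Finset.sum_congr rfl fun j _ => ?_
    rw [map_add, Finsupp.add_apply]
    ring
  have hAsl : ∀ (c : F) x v, A (c • x) v = c * A x v := by
    intro c x v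
    simp only [hA]
    rw [Finset.mul_sum]
    refine Finset.sum_congr rfl fun i _ => ?_
    rw [Finset.mul_sum]
    refine Finset.sum_congr rfl fun j _ => ?_
    rw [map_smul, Finsupp.smul_apply, smul_eq_mul]
    ring
  have hAsr : ∀ (c : F) v x, A v (c • x) = c * A v x := by
    intro c v x
    simp only [hA]
    rw [Finset.mul_sum]
    refine Finset.sum_congr rfl fun i _ => ?_
    rw [Finset.mul_sum]
    refine Finset.sum_congr rfl fun j _ => ?_
    rw [map_smul, Finsupp.smul_apply, smul_eq_mul]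
    ring
  have hAb : ∀ i j, A (b i) (b j) = if i < j then f (b i) (b j) else if i = j then d i else 0 := by
    intro i j
    simp only [hA, Module.Basis.repr_self]
    rw [Finset.sum_eq_single i, Finset.sum_eq_single j]
    · simp
    · intro k _ hk
      simp [Finsupp.single_apply, hk.symm]
    · intro h; exact absurd (Finset.mem_univ _) h
    · intro k _ hk
      apply Finset.sum_eq_zero
      intro l _
      simp [Finsupp.single_apply, hk.symm]
    · intro h; exact absurd (Finset.mem_univ _) h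
  -- polarity
  have hpol : ∀ v w, A v w + A w v = f v w := by
    have hsymm : ∀ v w, f v w = f w v := by
      intro v w
      rw [hf.skew]
      have : (-1 : F) = 1 := by linear_combination (-1 : F) * h2
      rw [← neg_one_mul, this, one_mul]
    have hbb : ∀ i j, A (b i) (b j) + A (b j) (b i) = f (b i) (b j) := by
      intro i j
      rw [hAb, hAb]
      rcases lt_trichotomy i j with h | h | h
      · rw [if_pos h, if_neg (not_lt.mpr h.le), if_neg h.ne', add_zero]
      · subst h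
        rw [if_neg (lt_irrefl _), if_pos rfl, hf.alternating]
        linear_combination d i * h2
      · rw [if_neg (not_lt.mpr h.le), if_neg h.ne', if_pos h, zero_add, hsymm]
    let L1 : (ι → F) →ₗ[F] (ι → F) →ₗ[F] F := LinearMap.mk₂ F (fun v w => A v w + A w v)
      (fun x y v => by rw [hAl, hAr]; ring) (fun c x v => by rw [hAsl, hAsr, smul_eq_mul]; ring)
      (fun v x y => by rw [hAl, hAr]; ring) (fun c v x => by rw [hAsl, hAsr, smul_eq_mul]; ring)
    let L2 : (ι → F) →ₗ[F] (ι → F) →ₗ[F] F := LinearMap.mk₂ F f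
      (fun x y v => hf.bilinear.add_left x y v) (fun c x v => hf.bilinear.smul_left c x v)
      (fun v x y => hf.bilinear.add_right v x y) (fun c v x => hf.bilinear.smul_right c v x)
    have h12 : L1 = L2 := by
      apply b.ext
      intro i
      apply b.ext
      intro j
      show A (b i) (b j) + A (b j) (b i) = f (b i) (b j)
      exact hbb i j
    intro v w
    have := congrArg (fun L : (ι → F) →ₗ[F] (ι → F) →ₗ[F] F => L v w) h12
    exact this
  refine ⟨fun v => A v v, ⟨?_, ?_⟩, ?_⟩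
  · intro c v
    show A (c • v) (c • v) = c ^ 2 * A v v
    rw [hAsl, hAsr]
    ring
  · intro v w
    show A (v + w) (v + w) = A v v + A w w + f v w
    rw [hAl, hAr, hAr, ← hpol v w]
    ring
  · intro i
    show A (b i) (b i) = d i
    rw [hAb, if_neg (lt_irrefl _), if_pos rfl]

/-- some quadratic form with polar form `f` -/
theorem exists_qp (h2 : (2 : F) = 0) (hf : IsSymplecticForm f) : ∃ Q, QP f Q := by
  classical
  obtain ⟨Q, hQ, -⟩ := exists_qp_basis h2 hf ((Pi.basisFun F ι).reindex (Fintype.equivFin ι)) 0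
  exact ⟨Q, hQ⟩

/-- (b) `K` permutes a basis up to scalars -/
theorem of_monomial (h2 : (2 : F) = 0) (hf : IsSymplecticForm f) (hK : InvB K f) {κ : Type*} [Finite κ]
    (b : Module.Basis κ F (ι → F)) (h : ∀ g ∈ K, ∀ i, ∃ (c : F) (j : κ), (g : Matrix ι ι F) *ᵥ (b i) = c • b j) :
    ∃ Q, QP f Q ∧ Inv K Q := by
  classical
  have := Fintype.ofFinite κ
  set b' := b.reindex (Fintype.equivFin κ) with hb'
  obtain ⟨Q, hQ, hQb⟩ := exists_qp_basis h2 hf b' 0
  have hQb' : ∀ i, Q (b i) = 0 := by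
    intro i
    have := hQb (Fintype.equivFin κ i)
    rw [hb', Module.Basis.reindex_apply, Equiv.symm_apply_apply] at this
    exact this
  refine ⟨Q, hQ, ?_⟩
  intro g hg v
  have h3 : (fun v => Q ((g : Matrix ι ι F) *ᵥ v)) = Q := by
    apply qp_ext_span (hQ.comp (hK g hg)) hQ (S := Set.range b) b.span_eq
    rintro _ ⟨i, rfl⟩
    obtain ⟨c, j, hcj⟩ := h g hg i
    show Q ((g : Matrix ι ι F) *ᵥ b i) = Q (b i)
    rw [hcj, hQ.smul, hQb', hQb', mul_zero]
  exact congrFun h3 v

/-! ### averaging -/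

/-- (a) averaging over a subgroup of odd index -/
theorem avg (h2 : (2 : F) = 0) (hP : InvB P f) (_hKP : K ≤ P) (hodd : Odd (K.relIndex P))
    {Q : (ι → F) → F} (hQ : QP f Q) (hK : Inv K Q) : ∃ Q', QP f Q' ∧ Inv P Q' := by
  classical
  have hfin : Finite (P ⧸ K.subgroupOf P) := by
    have h1 : (K.subgroupOf P).index ≠ 0 := by
      intro h
      have : K.relIndex P = 0 := h
      rw [this] at hodd
      exact absurd hodd (by decide)
    have : (K.subgroupOf P).FiniteIndex := ⟨h1⟩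
    exact Subgroup.finite_quotient_of_finiteIndex
  have := Fintype.ofFinite (P ⧸ K.subgroupOf P)
  have hcard : Odd (Fintype.card (P ⧸ K.subgroupOf P)) := by
    rw [← Nat.card_eq_fintype_card]
    exact hodd
  -- the summand
  let q : (P ⧸ K.subgroupOf P) → (ι → F) → F := Quotient.lift
    (fun (x : P) (v : ι → F) => Q ((((x : GL ι F)⁻¹ : GL ι F) : Matrix ι ι F) *ᵥ v)) (by
      intro x y hxy
      have h3 : (x⁻¹ * y : P) ∈ K.subgroupOf P := QuotientGroup.leftRel_apply.mp hxy
      have h4 : ((x : GL ι F)⁻¹ * (y : GL ι F)) ∈ K := by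
        have := Subgroup.mem_subgroupOf.mp h3
        simpa using this
      funext v
      show Q ((((x : GL ι F)⁻¹ : GL ι F) : Matrix ι ι F) *ᵥ v) = Q ((((y : GL ι F)⁻¹ : GL ι F) : Matrix ι ι F) *ᵥ v)
      have h5 := hK _ h4 ((((y : GL ι F)⁻¹ : GL ι F) : Matrix ι ι F) *ᵥ v)
      rw [← h5, Matrix.mulVec_mulVec, ← Units.val_mul]
      congr 3
      group)
  have hq : ∀ (x : P) v, q (QuotientGroup.mk x) v = Q ((((x : GL ι F)⁻¹ : GL ι F) : Matrix ι ι F) *ᵥ v) := fun x v => rfl
  have hone : ∀ c : F, (Fintype.card (P ⧸ K.subgroupOf P) : F) * c = c := by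
    intro c
    obtain ⟨k, hk⟩ := hcard
    rw [hk]
    push_cast
    rw [h2]
    ring
  refine ⟨fun v => ∑ x, q x v, ⟨?_, ?_⟩, ?_⟩
  · intro c v
    show ∑ x, q x (c • v) = c ^ 2 * ∑ x, q x v
    rw [Finset.mul_sum]
    refine Finset.sum_congr rfl fun x _ => ?_
    induction x using QuotientGroup.induction_on with
    | H x => rw [hq, hq, Matrix.mulVec_smul, hQ.smul]
  · intro v w
    show ∑ x, q x (v + w) = ∑ x, q x v + ∑ x, q x w + f v w
    have h3 : ∀ x : P ⧸ K.subgroupOf P, q x (v + w) = q x v + q x w + f v w := by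
      intro x
      induction x using QuotientGroup.induction_on with
      | H x =>
        rw [hq, hq, hq, Matrix.mulVec_add, hQ.add, hP _ (P.inv_mem x.2)]
    simp only [h3]
    rw [Finset.sum_add_distrib, Finset.sum_add_distrib, Finset.sum_const, Finset.card_univ, nsmul_eq_mul, hone]
  · intro g hg v
    show ∑ x, q x ((g : Matrix ι ι F) *ᵥ v) = ∑ x, q x v
    let e : (P ⧸ K.subgroupOf P) ≃ (P ⧸ K.subgroupOf P) := MulAction.toPerm (⟨g, hg⟩ : P)
    rw [← Equiv.sum_comp e]
    refine Finset.sum_congr rfl fun x _ => ?_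
    induction x using QuotientGroup.induction_on with
    | H x =>
      have h3 : e (QuotientGroup.mk x) = QuotientGroup.mk (⟨g, hg⟩ * x) := rfl
      rw [h3, hq, hq, Matrix.mulVec_mulVec, ← Units.val_mul]
      congr 3
      simp

/-! ### two complementary totally isotropic subspaces -/

/-- (c) `K` preserves two complementary totally isotropic subspaces -/
theorem of_split (h2 : (2 : F) = 0) (hf : IsSymplecticForm f) (hK : InvB K f) {W₁ W₂ : Submodule F (ι → F)}
    (h12 : W₁ ⊔ W₂ = ⊤) (hW₁ : ∀ v ∈ W₁, ∀ w ∈ W₁, f v w = 0) (hW₂ : ∀ v ∈ W₂, ∀ w ∈ W₂, f v w = 0)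
    (hK₁ : ∀ g ∈ K, ∀ v ∈ W₁, (g : Matrix ι ι F) *ᵥ v ∈ W₁) (hK₂ : ∀ g ∈ K, ∀ v ∈ W₂, (g : Matrix ι ι F) *ᵥ v ∈ W₂) :
    ∃ Q, QP f Q ∧ Inv K Q := by
  classical
  have hsymm : ∀ v w, f v w = f w v := by
    intro v w
    rw [hf.skew]
    have : (-1 : F) = 1 := by linear_combination (-1 : F) * h2
    rw [← neg_one_mul, this, one_mul]
  have hdisj : ∀ v, v ∈ W₁ → v ∈ W₂ → v = 0 := by
    intro v hv₁ hv₂
    by_contra hv
    obtain ⟨w, hw⟩ := (hf.nondegenerate v hv).2
    apply hw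
    have hwt : w ∈ W₁ ⊔ W₂ := by rw [h12]; trivial
    obtain ⟨a, ha, b, hb, rfl⟩ := Submodule.mem_sup.mp hwt
    rw [hf.bilinear.add_right, hW₁ v hv₁ a ha, hW₂ v hv₂ b hb, add_zero]
  have hex : ∀ v : ι → F, ∃ p : (ι → F) × (ι → F), p.1 ∈ W₁ ∧ p.2 ∈ W₂ ∧ v = p.1 + p.2 := by
    intro v
    have hwt : v ∈ W₁ ⊔ W₂ := by rw [h12]; trivial
    obtain ⟨a, ha, b, hb, hab⟩ := Submodule.mem_sup.mp hwt
    exact ⟨(a, b), ha, hb, hab.symm⟩
  choose p hp1 hp2 hp using hex
  have huniq : ∀ a b, a ∈ W₁ → b ∈ W₂ → p (a + b) = (a, b) := by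
    intro a b ha hb
    have h3 := hp (a + b)
    have h4 : a - (p (a + b)).1 = (p (a + b)).2 - b := by
      rw [sub_eq_sub_iff_add_eq_add]
      rw [h3.symm.symm]
      conv_lhs => rw [h3]
      rw [add_comm]
    have h5 : a - (p (a + b)).1 = 0 := hdisj _ (W₁.sub_mem ha (hp1 _)) (by rw [h4]; exact W₂.sub_mem (hp2 _) hb)
    have h6 : (p (a + b)).2 - b = 0 := by rw [← h4, h5]
    exact Prod.ext (sub_eq_zero.mp h5).symm (sub_eq_zero.mp h6)
  have hval : ∀ a b, a ∈ W₁ → b ∈ W₂ → f (p (a + b)).1 (p (a + b)).2 = f a b := by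
    intro a b ha hb
    rw [huniq a b ha hb]
  refine ⟨fun v => f (p v).1 (p v).2, ⟨?_, ?_⟩, ?_⟩
  · intro c v
    show f (p (c • v)).1 (p (c • v)).2 = c ^ 2 * f (p v).1 (p v).2
    conv_lhs => rw [hp v]
    rw [smul_add, hval _ _ (W₁.smul_mem c (hp1 v)) (W₂.smul_mem c (hp2 v)), hf.bilinear.smul_left,
      hf.bilinear.smul_right]
    ring
  · intro v w
    show f (p (v + w)).1 (p (v + w)).2 = f (p v).1 (p v).2 + f (p w).1 (p w).2 + f v w
    have h3 : v + w = ((p v).1 + (p w).1) + ((p v).2 + (p w).2) := by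
      conv_lhs => rw [hp v, hp w]
      abel
    conv_lhs => rw [h3]
    rw [hval _ _ (W₁.add_mem (hp1 v) (hp1 w)) (W₂.add_mem (hp2 v) (hp2 w))]
    have h4 : f v w = f (p v).1 (p w).2 + f (p v).2 (p w).1 := by
      conv_lhs => rw [hp v, hp w]
      rw [hf.bilinear.add_left, hf.bilinear.add_right, hf.bilinear.add_right, hW₁ _ (hp1 v) _ (hp1 w),
        hW₂ _ (hp2 v) _ (hp2 w)]
      ring
    rw [h4, hf.bilinear.add_left, hf.bilinear.add_right, hf.bilinear.add_right, hsymm (p v).2 (p w).1]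
    ring
  · intro g hg v
    show f (p ((g : Matrix ι ι F) *ᵥ v)).1 (p ((g : Matrix ι ι F) *ᵥ v)).2 = f (p v).1 (p v).2
    conv_lhs => rw [hp v]
    rw [Matrix.mulVec_add, hval _ _ (hK₁ g hg _ (hp1 v)) (hK₂ g hg _ (hp2 v)), hK g hg]

/-! ### subgroups of odd order without fixed vectors -/

/-- `D` has odd order and fixes no nonzero vector -/
structure Fpf (D : Subgroup (GL ι F)) : Prop where
  odd : Odd (Nat.card D)
  fpf : ∀ v : ι → F, (∀ g ∈ D, (g : Matrix ι ι F) *ᵥ v = v) → v = 0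

lemma natCast_odd (h2 : (2 : F) = 0) {n : ℕ} (h : Odd n) : (n : F) = 1 := by
  obtain ⟨k, rfl⟩ := h
  push_cast
  rw [h2]
  ring

/-- existence: a subgroup of odd order fixes some quadratic form with polar form `f` -/
theorem exists_of_odd (h2 : (2 : F) = 0) (hf : IsSymplecticForm f) {D : Subgroup (GL ι F)} (hD : InvB D f)
    (hodd : Odd (Nat.card D)) : ∃ Q, QP f Q ∧ Inv D Q := by
  obtain ⟨Q, hQ⟩ := exists_qp h2 hf
  refine avg h2 hD (K := ⊥) bot_le ?_ hQ ?_
  · rw [Subgroup.relIndex_bot_left]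
    exact hodd
  · intro g hg v
    rw [Subgroup.mem_bot] at hg
    subst hg
    rw [Units.val_one, Matrix.one_mulVec]

/-- uniqueness -/
theorem fpf_unique (h2 : (2 : F) = 0) {D : Subgroup (GL ι F)} (hD : Fpf D) {Q Q' : (ι → F) → F}
    (hQ : QP f Q) (hQ' : QP f Q') (hI : Inv D Q) (hI' : Inv D Q') : Q = Q' := by
  classical
  have hfin : Finite D := by
    by_contra h
    have := hD.odd
    have hinf : Infinite D := not_finite_iff_infinite.mp h
    rw [Nat.card_eq_zero_of_infinite] at this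
    exact absurd this (by decide)
  have := Fintype.ofFinite D
  funext v
  -- the difference is additive
  set h : (ι → F) → F := fun v => Q v - Q' v with hh
  have hadd : ∀ v w, h (v + w) = h v + h w := by
    intro v w
    simp only [hh]
    rw [hQ.add, hQ'.add]
    ring
  have h0 : h 0 = 0 := by simp only [hh]; rw [hQ.zero, hQ'.zero, sub_zero]
  have hsum : ∀ (s : Finset D) (w : D → (ι → F)), h (∑ x ∈ s, w x) = ∑ x ∈ s, h (w x) := by
    intro s w
    induction s using Finset.induction_on with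
    | empty => simp [h0]
    | insert a s ha ih => rw [Finset.sum_insert ha, Finset.sum_insert ha, hadd, ih]
  set u : ι → F := ∑ x : D, ((x : GL ι F) : Matrix ι ι F) *ᵥ v with hu
  have hu0 : u = 0 := by
    apply hD.fpf
    intro g hg
    rw [hu, Matrix.mulVec_sum]
    rw [← Equiv.sum_comp (Equiv.mulLeft (⟨g, hg⟩ : D)) (fun x : D => ((x : GL ι F) : Matrix ι ι F) *ᵥ v)]
    refine Finset.sum_congr rfl fun x _ => ?_
    rw [Matrix.mulVec_mulVec, ← Units.val_mul]
    rfl
  have h3 : h u = h v := by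
    rw [hu, hsum]
    have h4 : ∀ x : D, h (((x : GL ι F) : Matrix ι ι F) *ᵥ v) = h v := by
      intro x
      simp only [hh]
      rw [hI _ x.2, hI' _ x.2]
    simp only [h4]
    rw [Finset.sum_const, Finset.card_univ, nsmul_eq_mul, ← Nat.card_eq_fintype_card, natCast_odd h2 hD.odd, one_mul]
  rw [hu0, h0] at h3
  exact sub_eq_zero.mp h3.symm

/-- an isometry normalising `D` fixes the `D`-invariant quadratic form -/
theorem fpf_normalizer (h2 : (2 : F) = 0) {D : Subgroup (GL ι F)} (hD : Fpf D) {Q : (ι → F) → F}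
    (hQ : QP f Q) (hI : Inv D Q) {g : GL ι F}
    (hg : ∀ v w, f ((g : Matrix ι ι F) *ᵥ v) ((g : Matrix ι ι F) *ᵥ w) = f v w)
    (hn : ∀ x ∈ D, g * x * g⁻¹ ∈ D) (v : ι → F) : Q ((g : Matrix ι ι F) *ᵥ v) = Q v := by
  have h3 : (fun v => Q ((g : Matrix ι ι F) *ᵥ v)) = Q := by
    apply fpf_unique h2 hD (hQ.comp hg) hQ _ hI
    intro x hx v
    show Q ((g : Matrix ι ι F) *ᵥ ((x : Matrix ι ι F) *ᵥ v)) = Q ((g : Matrix ι ι F) *ᵥ v)
    have h4 : (g : Matrix ι ι F) *ᵥ ((x : Matrix ι ι F) *ᵥ v) =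
        ((g * x * g⁻¹ : GL ι F) : Matrix ι ι F) *ᵥ ((g : Matrix ι ι F) *ᵥ v) := by
      rw [Matrix.mulVec_mulVec, Matrix.mulVec_mulVec, ← Units.val_mul, ← Units.val_mul]
      congr 2
      group
    rw [h4, hI _ (hn x hx)]
  exact congrFun h3 v

/-- (d) a linked family of subgroups of odd order without fixed vectors -/
theorem exists_of_linked (h2 : (2 : F) = 0) (hf : IsSymplecticForm f) (hP : InvB P f)
    (S : Set (Subgroup (GL ι F))) (hS : S.Nonempty) (hle : ∀ D ∈ S, D ≤ P) (hfpf : ∀ D ∈ S, Fpf D)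
    (hlink : ∀ D ∈ S, ∀ D' ∈ S, Relation.ReflTransGen
      (fun A B => B ∈ S ∧ ((∀ g ∈ A, ∀ x ∈ B, g * x * g⁻¹ ∈ B) ∨ (∀ g ∈ B, ∀ x ∈ A, g * x * g⁻¹ ∈ A))) D D')
    (hgen : P ≤ Subgroup.closure {g | g ∈ P ∧ ∃ D ∈ S, ∀ x ∈ D, g * x * g⁻¹ ∈ D}) :
    ∃ Q, QP f Q ∧ Inv P Q := by
  classical
  obtain ⟨D₀, hD₀⟩ := hS
  obtain ⟨Q, hQ, hI⟩ := exists_of_odd h2 hf (hP.mono (hle D₀ hD₀)) (hfpf D₀ hD₀).odd
  -- `Q` is invariant under all members
  have hall : ∀ D ∈ S, Inv D Q := by
    intro D hD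
    have h3 := hlink D₀ hD₀ D hD
    clear hD
    have h4 : D ∈ S ∧ Inv D Q := by
      induction h3 with
      | refl => exact ⟨hD₀, hI⟩
      | tail _ hstep ih =>
        obtain ⟨hB, hor⟩ := hstep
        obtain ⟨hA, hIA⟩ := ih
        refine ⟨hB, ?_⟩
        rcases hor with h | h
        · -- `A` normalises `B`
          obtain ⟨Q', hQ', hI'⟩ := exists_of_odd h2 hf (hP.mono (hle _ hB)) (hfpf _ hB).odd
          have h5 : Q' = Q := by
            apply fpf_unique h2 (hfpf _ hA) hQ' hQ _ hIA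
            intro g hg v
            exact fpf_normalizer h2 (hfpf _ hB) hQ' hI' (hP g (hle _ hA hg)) (h g hg) v
          rw [← h5]
          exact hI'
        · intro g hg v
          exact fpf_normalizer h2 (hfpf _ hA) hQ hIA (hP g (hle _ hB hg)) (h g hg) v
    exact h4.2
  refine ⟨Q, hQ, ?_⟩
  -- the stabiliser of `Q` in the isometry group
  let St : Subgroup (GL ι F) :=
    { carrier := {g | ∀ v, Q ((g : Matrix ι ι F) *ᵥ v) = Q v}
      mul_mem' := by
        intro a b ha hb v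
        rw [Units.val_mul, ← Matrix.mulVec_mulVec]
        exact (ha _).trans (hb v)
      one_mem' := by intro v; rw [Units.val_one, Matrix.one_mulVec]
      inv_mem' := by
        intro a ha v
        have h3 := ha (((a⁻¹ : GL ι F) : Matrix ι ι F) *ᵥ v)
        rw [Matrix.mulVec_mulVec, ← Units.val_mul, mul_inv_cancel, Units.val_one, Matrix.one_mulVec] at h3
        exact h3.symm }
  have hle' : P ≤ St := by
    refine hgen.trans ((Subgroup.closure_le _).mpr ?_)
    rintro g ⟨hg, D, hD, hn⟩ v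
    exact fpf_normalizer h2 (hfpf D hD) hQ (hall D hD) (hP g hg) hn v
  exact fun g hg v => hle' hg v

lemma fpf_zpowers {t : GL ι F} (ho : Odd (orderOf t)) (ht : ∀ v, (t : Matrix ι ι F) *ᵥ v = v → v = 0) :
    Fpf (Subgroup.zpowers t) :=
  ⟨by rw [Nat.card_zpowers]; exact ho, fun v hv => ht v (hv t (Subgroup.mem_zpowers t))⟩

/-- (d') elements of odd order without fixed vectors, linked by commuting -/
theorem exists_of_commuting (h2 : (2 : F) = 0) (hf : IsSymplecticForm f) (hP : InvB P f)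
    (T : Set (GL ι F)) (hT : T.Nonempty) (hTP : T ⊆ P) (hodd : ∀ t ∈ T, Odd (orderOf t))
    (hfpf : ∀ t ∈ T, ∀ v, (t : Matrix ι ι F) *ᵥ v = v → v = 0)
    (hlink : ∀ s ∈ T, ∀ t ∈ T, Relation.ReflTransGen (fun a b => b ∈ T ∧ Commute a b) s t)
    (hgen : P ≤ Subgroup.closure {g | g ∈ P ∧ ∃ t ∈ T, g * t * g⁻¹ ∈ Subgroup.zpowers t}) :
    ∃ Q, QP f Q ∧ Inv P Q := by
  have hcomm : ∀ a b : GL ι F, Commute a b → ∀ g ∈ Subgroup.zpowers a, ∀ x ∈ Subgroup.zpowers b,
      g * x * g⁻¹ ∈ Subgroup.zpowers b := by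
    rintro a b hab _ ⟨i, rfl⟩ _ ⟨j, rfl⟩
    have h3 : Commute (a ^ i) (b ^ j) := hab.zpow_zpow i j
    show a ^ i * b ^ j * (a ^ i)⁻¹ ∈ _
    rw [h3.eq, mul_inv_cancel_right]
    exact ⟨j, rfl⟩
  refine exists_of_linked h2 hf hP ((fun t => Subgroup.zpowers t) '' T) (hT.image _) ?_ ?_ ?_ ?_
  · rintro _ ⟨t, ht, rfl⟩
    exact (Subgroup.zpowers_le).mpr (hTP ht)
  · rintro _ ⟨t, ht, rfl⟩
    exact fpf_zpowers (hodd t ht) (hfpf t ht)
  · rintro _ ⟨s, hs, rfl⟩ _ ⟨t, ht, rfl⟩
    have h3 := hlink s hs t ht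
    clear ht
    induction h3 with
    | refl => exact Relation.ReflTransGen.refl
    | tail _ hstep ih =>
      refine Relation.ReflTransGen.tail ih ⟨⟨_, hstep.1, rfl⟩, Or.inl ?_⟩
      exact hcomm _ _ hstep.2
  · refine hgen.trans (Subgroup.closure_mono ?_)
    rintro g ⟨hg, t, ht, hn⟩
    refine ⟨hg, _, ⟨t, ht, rfl⟩, ?_⟩
    rintro _ ⟨i, rfl⟩
    have h3 : g * t ^ i * g⁻¹ = (g * t * g⁻¹) ^ i := by rw [conj_zpow]
    show g * t ^ i * g⁻¹ ∈ _
    rw [h3]
    exact Subgroup.zpow_mem _ hn i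

/-- `K` fixes a quadratic form as soon as a subgroup of odd index does -/
theorem fixQ_of_sub (h2 : (2 : F) = 0) (hf : IsSymplecticForm f) (hP : InvB P f) (hKP : K ≤ P)
    (hodd : Odd (K.relIndex P)) (h : ∃ Q, QP f Q ∧ Inv K Q) : Cfsg.Agent.H915.LD.FixQ P := by
  obtain ⟨Q, hQ, hI⟩ := h
  obtain ⟨Q', hQ', hI'⟩ := avg h2 hP hKP hodd hQ hI
  exact fixQ_of hf hQ' hI'

end Cfsg.Agent.H919.Q2
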