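import Cfsg.Agent.H919.Gram
import Cfsg.Agent.H929.UThreeKer

/-!
# Self-dual modules of `SU_3(q)` in the defining characteristic (helper919)

`M : SU_3(E) → M_ι(K)` spanning, with coefficient `φ (M g⁻¹ v) = j (h(g e, e)) ^ a` (helper929).

* `fixQ_eight` : `a = 1 + q`, `|ι| = 8` ⟹ the group `P` over the subfield `F` fixes a quadratic form;
* `dvd_of_sd` : `SD P` ⟹ `q + 1 ∣ a`.
-/

set_option autoImplicit false
set_option linter.unusedSectionVars false

namespace Cfsg.Agent.H919.U3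

open Cfsg Cfsg.Geo Cfsg.Agent.LieClassical.HermSiegel Cfsg.Agent.LieClassical.HermBasic Matrix Cfsg.Agent.H906
  Cfsg.Agent.H929.U3 Cfsg.Agent.H915.LD Cfsg.Agent.H919.Gram

universe u

/-! ### trace-zero matrices -/

section model

variable (K : Type*) [Field K]

/-- the bilinear map whose diagonal is the second coefficient of the characteristic polynomial -/
def bil : Matrix (Fin 3) (Fin 3) K →ₗ[K] Matrix (Fin 3) (Fin 3) K →ₗ[K] K :=
  LinearMap.mk₂ K (fun A B => (A 0 0 * B 1 1 - A 0 1 * B 1 0) + (A 0 0 * B 2 2 - A 0 2 * B 2 0) +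
    (A 1 1 * B 2 2 - A 1 2 * B 2 1))
    (by intro A B C; simp only [Matrix.add_apply]; ring)
    (by intro c A B; simp only [Matrix.smul_apply, smul_eq_mul]; ring)
    (by intro A B C; simp only [Matrix.add_apply]; ring)
    (by intro c A B; simp only [Matrix.smul_apply, smul_eq_mul]; ring)

theorem bil_apply (A B : Matrix (Fin 3) (Fin 3) K) : bil K A B = (A 0 0 * B 1 1 - A 0 1 * B 1 0) +
    (A 0 0 * B 2 2 - A 0 2 * B 2 0) + (A 1 1 * B 2 2 - A 1 2 * B 2 1) := rfl

/-- trace-zero matrices -/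
abbrev Tz : Submodule K (Matrix (Fin 3) (Fin 3) K) := LinearMap.ker (Matrix.traceLinearMap (Fin 3) K K)

theorem finrank_Tz : Module.finrank K (Tz K) ≤ 8 := by
  have h1 := LinearMap.finrank_range_add_finrank_ker (Matrix.traceLinearMap (Fin 3) K K)
  have h2 : Module.finrank K (Matrix (Fin 3) (Fin 3) K) = 9 := by
    rw [Module.finrank_matrix]
    simp
  have h3 : 1 ≤ Module.finrank K (LinearMap.range (Matrix.traceLinearMap (Fin 3) K K)) := by
    rw [Nat.one_le_iff_ne_zero]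
    intro h
    rw [Submodule.finrank_eq_zero] at h
    have h4 : Matrix.traceLinearMap (Fin 3) K K (Matrix.single 0 0 1) ∈
      LinearMap.range (Matrix.traceLinearMap (Fin 3) K K) := ⟨_, rfl⟩
    rw [h, Submodule.mem_bot, Matrix.traceLinearMap_apply, Matrix.trace_single_eq_same] at h4
    exact one_ne_zero h4
  rw [h2] at h1
  show Module.finrank K (LinearMap.ker (Matrix.traceLinearMap (Fin 3) K K)) ≤ 8
  omega

/-- the quadratic form -/
noncomputable def qf : QuadraticForm K (Tz K) := (LinearMap.BilinMap.toQuadraticMap (bil K)).comp (Tz K).subtype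

theorem qf_apply (A : Tz K) : qf K A = bil K A.1 A.1 := rfl

theorem polar_qf (A B : Tz K) : QuadraticMap.polar (qf K) A B = bil K A.1 B.1 + bil K B.1 A.1 := by
  rw [QuadraticMap.polar, qf_apply, qf_apply, qf_apply]
  simp only [Submodule.coe_add, map_add, LinearMap.add_apply]
  ring

/-- `polar = - tr (A B)` -/
theorem polar_eq (A B : Tz K) : QuadraticMap.polar (qf K) A B = - ∑ i, ∑ k, A.1 i k * B.1 k i := by
  have hA : A.1 0 0 + A.1 1 1 + A.1 2 2 = 0 := by
    have := A.2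
    rw [LinearMap.mem_ker, Matrix.traceLinearMap_apply, Matrix.trace, Fin.sum_univ_three] at this
    exact this
  have hB : B.1 0 0 + B.1 1 1 + B.1 2 2 = 0 := by
    have := B.2
    rw [LinearMap.mem_ker, Matrix.traceLinearMap_apply, Matrix.trace, Fin.sum_univ_three] at this
    exact this
  rw [polar_qf, bil_apply, bil_apply, Fin.sum_univ_three, Fin.sum_univ_three, Fin.sum_univ_three, Fin.sum_univ_three]
  linear_combination (A.1 0 0 + A.1 1 1 + A.1 2 2) * hB

end model

section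

variable {E : Type*} [Field E] [Fintype E] {q : ℕ} {K : Type*} [Field K]

/-- the rank-one matrix of an isotropic vector -/
def am (j : E →+* K) (u : Iso q E) : Tz K :=
  ⟨Matrix.of fun i k => j (u.1 i) * j (u.1 k) ^ q, by
    rw [LinearMap.mem_ker, Matrix.traceLinearMap_apply, Matrix.trace]
    have h1 := u.2.1
    have h2 := congrArg j h1
    rw [map_zero] at h2
    rw [← h2, hermForm, map_sum]
    refine Finset.sum_congr rfl fun i _ => ?_
    rw [Matrix.diag_apply, Matrix.of_apply, map_mul, map_pow]⟩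

theorem am_apply (j : E →+* K) (u : Iso q E) (i k : Fin 3) :
    (am j u).1 i k = j (u.1 i) * j (u.1 k) ^ q := rfl

theorem qf_am (j : E →+* K) (u : Iso q E) : qf K (am j u) = 0 := by
  rw [qf_apply, bil_apply]
  simp only [am_apply]
  ring

theorem polar_am (hF : Fintype.card E = q ^ 2) (j : E →+* K) (u w : Iso q E) :
    QuadraticMap.polar (qf K) (am j u) (am j w) = - j (hermForm 3 E q u.1 w.1) ^ (1 + q) := by
  rw [polar_eq]
  congr 1
  have h1 : j (hermForm 3 E q u.1 w.1) ^ q = j (hermForm 3 E q w.1 u.1) := by rw [herm_swap hF u.1 w.1, map_pow]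
  rw [pow_add, pow_one, h1, hermForm, hermForm, map_sum, map_sum]
  simp only [am_apply, Fin.sum_univ_three, map_mul, map_pow]
  ring

end

section main

variable {E : Type*} [Field E] [Fintype E] {q : ℕ} {K : Type*} [Field K]
  {ι : Type} [Fintype ι] [DecidableEq ι] {F : Type u} [Field F] {P : Subgroup (GL ι F)} [Algebra F K]
  {j : E →+* K} {M : SU 3 E q →* Matrix ι ι K} {e : Fin 3 → E}

/-- the action on isotropic vectors -/
def ac (g : SU 3 E q) (u : Iso q E) : Iso q E :=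
  ⟨act g u.1, by rw [herm_act]; exact u.2.1, by rw [Ne, act_eq_zero]; exact u.2.2⟩

/-- `exists_ker` with equivariance -/
theorem exists_ker' (hF : Fintype.card E = q ^ 2) (he : hermForm 3 E q e e = 0) (he0 : e ≠ 0)
    (hM : Submodule.span K (Set.range M) = ⊤) {a : ℕ} {φ v : ι → K} (hφ0 : φ ≠ 0)
    (hφ : φ ∈ fixSub (contra M) (Stab q e)) (hv0 : v ≠ 0) (hv : v ∈ fixSub M (Stab q e))
    (hc : ∀ g : SU 3 E q, φ ⬝ᵥ (M g⁻¹ *ᵥ v) = j (hermForm 3 E q (act g e) e) ^ a) :
    ∃ Φ V : Iso q E → ι → K, Ker q j a Φ V ∧ (∀ g u, M g *ᵥ V u = V (ac g u)) ∧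
      (∀ g u, contra M g *ᵥ Φ u = Φ (ac g u)) ∧ V ⟨e, he, he0⟩ = v ∧ Φ ⟨e, he, he0⟩ = φ := by
  have hg : ∀ u : Iso q E, ∃ g : SU 3 E q, act g e = u.1 := fun u => exists_act hF he he0 u.2.1 u.2.2
  choose g hg using hg
  have hiso : ∀ k : SU 3 E q, hermForm 3 E q (act k e) (act k e) = 0 ∧ act k e ≠ 0 := fun k =>
    ⟨by rw [herm_act, he], by rw [Ne, act_eq_zero]; exact he0⟩
  -- independence of the choice
  have key : ∀ (ρ : SU 3 E q →* Matrix ι ι K) (x : ι → K), x ∈ fixSub ρ (Stab q e) → ∀ (k : SU 3 E q) (u : Iso q E),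
      act k e = u.1 → ρ k *ᵥ x = ρ (g u) *ᵥ x := by
    intro ρ x hx k u hk
    have h2 : (g u)⁻¹ * k ∈ Stab q e := by
      have h9 := act_inv_act (g u) e
      rw [hg, ← hk] at h9
      rw [mem_Stab, act_mul]
      exact h9
    have h3 : k = g u * ((g u)⁻¹ * k) := by group
    conv_lhs => rw [h3, rho_mul, hx _ h2]
  have hspan : ∀ (ρ : SU 3 E q →* Matrix ι ι K) (x : ι → K), x ∈ fixSub ρ (Stab q e) →
      Submodule.span K (Set.range ρ) = ⊤ → x ≠ 0 → Submodule.span K (Set.range fun u => ρ (g u) *ᵥ x) = ⊤ := by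
    intro ρ x hx hρ hx0
    rw [← span_orbit ρ hρ hx0]
    congr 1
    ext y
    constructor
    · rintro ⟨u, rfl⟩
      exact ⟨_, rfl⟩
    · rintro ⟨k, rfl⟩
      exact ⟨⟨act k e, hiso k⟩, (key ρ x hx k ⟨act k e, hiso k⟩ rfl).symm⟩
  refine ⟨fun u => contra M (g u) *ᵥ φ, fun w => M (g w) *ᵥ v, ⟨?_, hspan _ _ hφ (span_contra hM) hφ0,
    hspan _ _ hv hM hv0⟩, ?_, ?_, ?_, ?_⟩
  · intro u w
    have h1 : (contra M (g u) *ᵥ φ) ⬝ᵥ (M (g w) *ᵥ v) = φ ⬝ᵥ (M ((g w)⁻¹ * g u)⁻¹ *ᵥ v) := by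
      rw [dot_contra, _root_.mul_inv_rev, inv_inv, map_mul, Matrix.mulVec_mulVec]
    rw [h1, hc, act_mul, hg, ← herm_act (g w), act_act_inv, hg]
  · intro k u
    show M k *ᵥ (M (g u) *ᵥ v) = M (g (ac k u)) *ᵥ v
    rw [← rho_mul]
    exact key M v hv _ _ (by rw [act_mul, hg]; rfl)
  · intro k u
    show contra M k *ᵥ (contra M (g u) *ᵥ φ) = contra M (g (ac k u)) *ᵥ φ
    rw [← rho_mul]
    exact key (contra M) φ hφ _ _ (by rw [act_mul, hg]; rfl)
  · show M (g ⟨e, he, he0⟩) *ᵥ v = v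
    rw [← key M v hv 1 ⟨e, he, he0⟩ (act_one e), map_one, Matrix.one_mulVec]
  · show contra M (g ⟨e, he, he0⟩) *ᵥ φ = φ
    rw [← key (contra M) φ hφ 1 ⟨e, he, he0⟩ (act_one e), map_one, Matrix.one_mulVec]

/-- **`n = 8`, the adjoint module.** -/
theorem fixQ_eight (hC : Core P) (h8 : Fintype.card ι = 8) (hF : Fintype.card E = q ^ 2)
    (he : hermForm 3 E q e e = 0) (he0 : e ≠ 0) (hM : Submodule.span K (Set.range M) = ⊤)
    (hP : ∀ g ∈ P, ∃ h : SU 3 E q, M h = (g : Matrix ι ι F).map (algebraMap F K)) {φ v : ι → K} (hφ0 : φ ≠ 0)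
    (hφ : φ ∈ fixSub (contra M) (Stab q e)) (hv0 : v ≠ 0) (hv : v ∈ fixSub M (Stab q e))
    (hc : ∀ g : SU 3 E q, φ ⬝ᵥ (M g⁻¹ *ᵥ v) = j (hermForm 3 E q (act g e) e) ^ (1 + q)) : FixQ P := by
  classical
  obtain ⟨Φ, V, hk, hVa, -, -, -⟩ := exists_ker' hF he he0 hM hφ0 hφ hv0 hv hc
  have hfin : Finite (Iso q E) := inferInstance
  have := Fintype.ofFinite (Iso q E)
  obtain ⟨e₂, e₃, hfr⟩ := exists_fr hF he he0
  have h3 : e₃ ≠ 0 := by
    rintro rfl
    have h13 := hfr.h13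
    rw [hermForm] at h13
    have hq : q ≠ 0 := by
      rintro rfl
      have : 0 < Fintype.card E := Fintype.card_pos
      rw [hF] at this
      simp at this
    simp [zero_pow hq] at h13
  refine fixQ_of_family (W := Tz K) hC M hP ac V hk.spanR hVa (qf K) (am j) (qf_am j) ?_ ?_
    (by rw [h8]; exact finrank_Tz K) (x₀ := ⟨e, he, he0⟩) (y₀ := ⟨e₃, hfr.h33, h3⟩) ?_
  · intro g x y
    rw [polar_am hF, polar_am hF]
    show - j (hermForm 3 E q (act g x.1) (act g y.1)) ^ (1 + q) = _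
    rw [herm_act]
  · intro c hc0
    have h1 : ∀ u : Iso q E, Φ u ⬝ᵥ (∑ x, c x • V x) = 0 := by
      intro u
      have h2 : QuadraticMap.polar (qf K) (am j u) (∑ x, c x • am j x) = 0 := by
        rw [hc0, QuadraticMap.polar_zero_right]
      have h4 : ∀ s : Finset (Iso q E), QuadraticMap.polar (qf K) (am j u) (∑ x ∈ s, c x • am j x) =
          - (Φ u ⬝ᵥ ∑ x ∈ s, c x • V x) := by
        intro s
        induction s using Finset.induction_on with
        | empty => rw [Finset.sum_empty, Finset.sum_empty, QuadraticMap.polar_zero_right, dotProduct_zero, neg_zero]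
        | insert x s hx ih =>
          rw [Finset.sum_insert hx, Finset.sum_insert hx, QuadraticMap.polar_add_right, ih, dotProduct_add,
            QuadraticMap.polar_smul_right, polar_am hF, dotProduct_smul, hk.coef, smul_eq_mul, smul_eq_mul]
          ring
      rw [h4, neg_eq_zero] at h2
      exact h2
    have h5 : ∀ y : ι → K, y ⬝ᵥ (∑ x, c x • V x) = 0 := by
      intro y
      have hy : y ∈ Submodule.span K (Set.range Φ) := by rw [hk.spanL]; trivial
      induction hy using Submodule.span_induction with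
      | mem y hy =>
        obtain ⟨u, rfl⟩ := hy
        exact h1 u
      | zero => rw [zero_dotProduct]
      | add x y _ _ hx hy => rw [add_dotProduct, hx, hy, add_zero]
      | smul c x _ hx => rw [smul_dotProduct, hx, smul_zero]
    funext i
    have h6 := h5 (Pi.single i 1)
    rw [single_dotProduct, one_mul] at h6
    exact h6
  · rw [polar_am hF]
    show - j (hermForm 3 E q e e₃) ^ (1 + q) ≠ 0
    rw [hfr.h13, map_one, one_pow]
    exact neg_ne_zero.2 one_ne_zero

/-- **Self-dual** ⟹ `q + 1 ∣ a`. -/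
theorem dvd_of_real [IsAlgClosed K] (p : ℕ) [Fact p.Prime] [CharP E p] [CharP K p] (hn : Fintype.card ι < q ^ 3)
    (hF : Fintype.card E = q ^ 2) (he : hermForm 3 E q e e = 0) (he0 : e ≠ 0)
    (hM : Submodule.span K (Set.range M) = ⊤) (htr : ∀ g : SU 3 E q, (M g⁻¹).trace = (M g).trace) {a : ℕ}
    {φ v : ι → K} (hφ : IsWt j M e a φ) (hv0 : v ≠ 0) (hv : v ∈ fixSub M (Stab q e))
    (hc : ∀ g : SU 3 E q, φ ⬝ᵥ (M g⁻¹ *ᵥ v) = j (hermForm 3 E q (act g e) e) ^ a) : q + 1 ∣ a := by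
  classical
  obtain ⟨B, hB⟩ := exists_conj_of_trace M (contra M) hM (span_contra hM) (fun g => by
    rw [contra_apply, Matrix.trace_transpose, htr])
  have hB' : ∀ (g : SU 3 E q) (x : ι → K), contra M g *ᵥ ((B : Matrix ι ι K) *ᵥ x) = (B : Matrix ι ι K) *ᵥ (M g *ᵥ x) := by
    intro g x
    rw [hB, Matrix.mulVec_mulVec, Matrix.mulVec_mulVec, Matrix.mul_assoc, Matrix.mul_assoc,
      ← Units.val_mul, inv_mul_cancel, Units.val_one, Matrix.mul_one]
  have hBinj : ∀ x y : ι → K, (B : Matrix ι ι K) *ᵥ x = (B : Matrix ι ι K) *ᵥ y → x = y := by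
    intro x y h
    have h1 := congrArg (fun z => ((B⁻¹ : GL ι K) : Matrix ι ι K) *ᵥ z) h
    simp only [Matrix.mulVec_mulVec] at h1
    rwa [← Units.val_mul, inv_mul_cancel, Units.val_one, Matrix.one_mulVec, Matrix.one_mulVec] at h1
  have h1 : (B : Matrix ι ι K) *ᵥ v ∈ fixSub (contra M) (Stab q e) := by
    intro s hs
    rw [hB', hv s hs]
  obtain ⟨k, hk⟩ := fix_unique' (j := j) hF he he0 hM p hn hφ.fix h1 hφ.1
  have hw : ∀ (g : SU 3 E q) (t : E), t ≠ 0 → act g e = t • e → M g *ᵥ v = j t ^ a • v := by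
    intro g t ht hg
    apply hBinj
    rw [← hB', hk, Matrix.mulVec_smul, hφ.2 g t ht hg, Matrix.mulVec_smul, hk, smul_comm]
  obtain ⟨e₂, e₃, hfr⟩ := exists_fr hF he he0
  have h3 : e₃ ≠ 0 := by
    rintro rfl
    have h31 := hfr.h31 hF
    rw [hermForm] at h31
    simp at h31
  obtain ⟨n, hn'⟩ := exists_act hF he he0 hfr.h33 h3
  have hcn : φ ⬝ᵥ (M n⁻¹ *ᵥ v) = 1 := by
    rw [hc, hn', hfr.h31 hF, map_one, one_pow]
  have key : ∀ t : E, t ≠ 0 → t ^ (q * a) = t ^ a := by
    intro t ht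
    obtain ⟨g, hg⟩ := exists_act hF he he0 (v := t • e) (by
      rw [herm_smul_left, herm_smul_right, he, mul_zero, mul_zero]) (smul_ne_zero ht he0)
    have hg' : act g⁻¹ e = t⁻¹ • e := by
      rw [← smul_right_injective (Fin 3 → E) ht |>.eq_iff]
      rw [smul_smul, mul_inv_cancel₀ ht, one_smul, ← act_smul, ← hg, act_inv_act]
    have h2 := hc (g * n)
    rw [_root_.mul_inv_rev, map_mul, ← Matrix.mulVec_mulVec, hw g⁻¹ t⁻¹ (inv_ne_zero ht) hg', Matrix.mulVec_smul,
      dotProduct_smul, hcn, act_mul, hn', ← herm_act g⁻¹, act_inv_act, hg', herm_smul_right, hfr.h31 hF, mul_one,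
      smul_eq_mul, mul_one, ← map_pow, ← map_pow] at h2
    have h4 := j.injective h2
    rw [← pow_mul, inv_pow, inv_pow, _root_.inv_inj] at h4
    exact h4.symm
  -- a generator of the multiplicative group
  obtain ⟨t, ht⟩ := IsCyclic.exists_generator (α := Eˣ)
  have hord : orderOf t = q ^ 2 - 1 := by
    rw [orderOf_eq_card_of_forall_mem_zpowers ht, Nat.card_units, Nat.card_eq_fintype_card, hF]
  have h5 := key t t.ne_zero
  have hq := two_le hF
  have h6 : t ^ (q * a) = t ^ a := by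
    apply Units.ext
    rw [Units.val_pow_eq_pow_val, Units.val_pow_eq_pow_val, h5]
  have h7 : t ^ ((q - 1) * a) = 1 := by
    have h8 : q * a = (q - 1) * a + a := by
      obtain ⟨m, rfl⟩ : ∃ m, q = m + 1 := ⟨q - 1, by omega⟩
      rw [Nat.add_sub_cancel]
      ring
    rw [h8, pow_add] at h6
    exact mul_eq_right.1 h6
  have h9 := orderOf_dvd_of_pow_eq_one h7
  rw [hord] at h9
  have h10 : q ^ 2 - 1 = (q - 1) * (q + 1) := by
    obtain ⟨m, rfl⟩ : ∃ m, q = m + 1 := ⟨q - 1, by omega⟩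
    rw [Nat.add_sub_cancel]
    have : (m + 1) ^ 2 = m * (m + 1 + 1) + 1 := by ring
    omega
  rw [h10] at h9
  exact Nat.dvd_of_mul_dvd_mul_left (by omega) h9

end main

end Cfsg.Agent.H919.U3
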