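import Cfsg.Agent.H919.SpEightB
import Cfsg.Agent.H919.AschWreathForm3

/-!
# Tensor decompositions `F² ⊗ F⁴` with a plus type form on `F⁴`: not maximal in `Sp_8` (helper919)
-/

set_option autoImplicit false
set_option linter.unusedSectionVars false
set_option linter.unusedVariables false

namespace Cfsg.Agent.H919

open Cfsg Cfsg.Geo Cfsg.Agent.H922
open scoped MatrixGroups Matrix Kronecker commutatorElement

section Four

variable {F : Type*} [Field F]

/-- The Gram matrix `J ⊗ J` on `F⁴`. -/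
def gam (F : Type*) [Field F] (u : (Fin 2 → Fin 2) ≃ Fin 4) : Matrix (Fin 4) (Fin 4) F :=
  fun r s => JJ F (u.symm r 0) (u.symm s 0) * JJ F (u.symm r 1) (u.symm s 1)

/-- The vector of a 2 × 2 matrix. -/
def vec4 (u : (Fin 2 → Fin 2) ≃ Fin 4) (X : Matrix (Fin 2) (Fin 2) F) : Fin 4 → F :=
  fun r => X (u.symm r 0) (u.symm r 1)

/-- The matrix of a vector. -/
def unvec4 (u : (Fin 2 → Fin 2) ≃ Fin 4) (v : Fin 4 → F) : Matrix (Fin 2) (Fin 2) F :=
  fun i j => v (u ![i, j])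

lemma vec_unvec (u : (Fin 2 → Fin 2) ≃ Fin 4) (v : Fin 4 → F) : vec4 u (unvec4 u v) = v := by
  funext r
  have h : ![u.symm r 0, u.symm r 1] = u.symm r := by funext i; fin_cases i <;> rfl
  simp only [vec4, unvec4, h, Equiv.apply_symm_apply]

lemma sum_fun_two {M : Type*} [AddCommMonoid M] (g : (Fin 2 → Fin 2) → M) :
    ∑ x, g x = g ![0, 0] + g ![0, 1] + (g ![1, 0] + g ![1, 1]) := by
  rw [← Equiv.sum_comp (finTwoArrowEquiv (Fin 2)).symm, Fintype.sum_prod_type]
  simp only [Fin.sum_univ_two]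
  rfl

lemma gam_quad (u : (Fin 2 → Fin 2) ≃ Fin 4) (X : Matrix (Fin 2) (Fin 2) F) :
    vec4 u X ⬝ᵥ (gam F u *ᵥ vec4 u X) = 2 * X.det := by
  simp only [dotProduct, Matrix.mulVec]
  rw [← Equiv.sum_comp u]
  simp only [← Equiv.sum_comp u (fun s => gam F u _ s * vec4 u X s), sum_fun_two]
  simp only [gam, vec4, Equiv.symm_apply_apply, JJ, Matrix.det_fin_two]
  simp
  ring

lemma quad_mulVec {κ : Type} [Fintype κ] [DecidableEq κ] (G b : Matrix κ κ F) (v w : κ → F) :
    (b *ᵥ v) ⬝ᵥ (G *ᵥ (b *ᵥ w)) = v ⬝ᵥ ((bᵀ * G * b) *ᵥ w) := by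
  rw [← Matrix.mulVec_mulVec, ← Matrix.mulVec_mulVec, Matrix.dotProduct_mulVec v, Matrix.vecMul_transpose]

/-- A similitude of `J ⊗ J` is a tensor product, up to the interchange of the factors. -/
theorem gam_similitude (h2 : (2 : F) ≠ 0) (u : (Fin 2 → Fin 2) ≃ Fin 4) {b : Matrix (Fin 4) (Fin 4) F} {μ : F}
    (hμ : μ ≠ 0) (hb : bᵀ * gam F u * b = μ • gam F u) :
    ∃ A B : GL (Fin 2) F,
      (∀ x y : Fin 2 → Fin 2, b (u x) (u y) = (A : Matrix _ _ F) (x 0) (y 0) * (B : Matrix _ _ F) (x 1) (y 1)) ∨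
      (∀ x y : Fin 2 → Fin 2, b (u x) (u y) = (A : Matrix _ _ F) (x 0) (y 1) * (B : Matrix _ _ F) (x 1) (y 0)) := by
  let T : Matrix (Fin 2) (Fin 2) F →ₗ[F] Matrix (Fin 2) (Fin 2) F :=
    { toFun := fun X => unvec4 u (b *ᵥ vec4 u X)
      map_add' := by
        intro X Y
        have h1 : vec4 u (X + Y) = vec4 u X + vec4 u Y := rfl
        rw [h1, Matrix.mulVec_add]; rfl
      map_smul' := by
        intro c X
        have h1 : vec4 u (c • X) = c • vec4 u X := rfl
        rw [h1, Matrix.mulVec_smul]; rfl }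
  have hTa : ∀ X, T X = unvec4 u (b *ᵥ vec4 u X) := fun X => rfl
  have hdet : ∀ X, (T X).det = μ * X.det := by
    intro X
    have h3 : 2 * (T X).det = μ * (2 * X.det) := by
      rw [← gam_quad u, ← gam_quad u, hTa, vec_unvec, quad_mulVec, hb, Matrix.smul_mulVec, dotProduct_smul,
        smul_eq_mul]
    have h4 : 2 * ((T X).det - μ * X.det) = 0 := by linear_combination h3
    exact sub_eq_zero.1 ((mul_eq_zero.1 h4).resolve_left h2)
  obtain ⟨A, B, hAB⟩ := det_preserver hμ hdet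
  have hentry : ∀ x y : Fin 2 → Fin 2, b (u x) (u y) = T (Matrix.single (y 0) (y 1) 1) (x 0) (x 1) := by
    intro x y
    have h1 : vec4 u (Matrix.single (y 0) (y 1) (1 : F)) = Pi.single (u y) 1 := by
      funext r
      rw [vec4, Matrix.single_apply]
      by_cases h : r = u y
      · subst h; simp
      · rw [Pi.single_eq_of_ne h, if_neg]
        rintro ⟨h3, h4⟩
        apply h
        rw [← u.symm_apply_eq]
        funext i
        fin_cases i
        · exact h3.symm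
        · exact h4.symm
    have h3 : ![x 0, x 1] = x := by funext i; fin_cases i <;> rfl
    rw [hTa, h1, unvec4, h3, Matrix.mulVec_single_one]
    rfl
  have hBt : IsUnit (B : Matrix (Fin 2) (Fin 2) F)ᵀ := (Matrix.isUnit_transpose _).2 B.isUnit
  obtain ⟨B', hB'⟩ := hBt
  refine ⟨A, B', ?_⟩
  rcases hAB with hAB | hAB
  · left
    intro x y
    rw [hentry, hAB, hB', Matrix.transpose_apply, Matrix.mul_assoc, Matrix.mul_apply,
      Finset.sum_eq_single (y 0)]
    · rw [Matrix.single_mul_apply_same, one_mul]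
    · intro k _ hk
      rw [Matrix.single_mul_apply_of_ne _ _ _ _ _ hk, mul_zero]
    · intro h; exact absurd (Finset.mem_univ _) h
  · right
    intro x y
    rw [hentry, hAB, hB', Matrix.transpose_apply, Matrix.mul_assoc, Matrix.transpose_single, Matrix.mul_apply,
      Finset.sum_eq_single (y 1)]
    · rw [Matrix.single_mul_apply_same, one_mul]
    · intro k _ hk
      rw [Matrix.single_mul_apply_of_ne _ _ _ _ _ hk, mul_zero]
    · intro h; exact absurd (Finset.mem_univ _) h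

end Four

section Eight

variable {ι : Type} [Fintype ι] [DecidableEq ι] {F : Type*} [Field F]

/-- The bijection `Fin 2 × Fin 4 ≃ (Fin 3 → Fin 2)`. -/
def E3 (u : (Fin 2 → Fin 2) ≃ Fin 4) : Fin 2 × Fin 4 ≃ (Fin 3 → Fin 2) :=
  (Equiv.prodCongr (Equiv.refl _) u.symm).trans (Fin.consEquiv (fun _ => Fin 2))

lemma E3_zero (u : (Fin 2 → Fin 2) ≃ Fin 4) (p : Fin 2 × Fin 4) : E3 u p 0 = p.1 := rfl
lemma E3_one (u : (Fin 2 → Fin 2) ≃ Fin 4) (p : Fin 2 × Fin 4) : E3 u p 1 = u.symm p.2 0 := rfl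
lemma E3_two (u : (Fin 2 → Fin 2) ≃ Fin 4) (p : Fin 2 × Fin 4) : E3 u p 2 = u.symm p.2 1 := rfl
lemma E3_symm (u : (Fin 2 → Fin 2) ≃ Fin 4) (x : Fin 3 → Fin 2) : (E3 u).symm x = (x 0, u ![x 1, x 2]) := by
  rw [Equiv.symm_apply_eq]
  funext i
  fin_cases i
  · rfl
  · change x 1 = E3 u (x 0, u ![x 1, x 2]) 1
    rw [E3_one]; simp
  · change x 2 = E3 u (x 0, u ![x 1, x 2]) 2
    rw [E3_two]; simp

/-- An alternating form on `F²` is a multiple of `J`. -/
lemma gram_two {f : (Fin 2 → F) → (Fin 2 → F) → F} (hf : IsSymplecticForm f) :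
    ∃ c : F, c ≠ 0 ∧ gramMatrix f = c • JJ F := by
  refine ⟨f (Pi.single 0 1) (Pi.single 1 1), ?_, ?_⟩
  · intro h0
    have hne : (Pi.single 0 (1 : F) : Fin 2 → F) ≠ 0 := by
      intro h
      have := congrFun h 0
      simp at this
    obtain ⟨-, x, hx⟩ := hf.nondegenerate _ hne
    apply hx
    have h1 : x = x 0 • (Pi.single 0 (1 : F) : Fin 2 → F) + x 1 • (Pi.single 1 (1 : F) : Fin 2 → F) := by
      funext i; fin_cases i <;> simp
    rw [h1, hf.bilinear.add_right, hf.bilinear.smul_right, hf.bilinear.smul_right, h0, hf.alternating]; ring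
  · ext i j
    fin_cases i <;> fin_cases j
    · simp [gramMatrix, JJ, hf.alternating]
    · simp [gramMatrix, JJ]
    · simp only [gramMatrix, JJ]
      rw [hf.skew]; simp
    · simp [gramMatrix, JJ, hf.alternating]

lemma JJ_conj (a : Matrix (Fin 2) (Fin 2) F) : aᵀ * JJ F * a = a.det • JJ F := by
  ext i j
  fin_cases i <;> fin_cases j <;>
    simp [JJ, Matrix.mul_apply, Fin.sum_univ_two, Matrix.det_fin_two] <;> ring

/-- Elements of the tensor-wreath subgroup by entries. -/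
lemma mem_wreath_of_entries {m t : ℕ} {k : GL (Fin t → Fin m) F} (gs : Fin t → GL (Fin m) F) (σ : Equiv.Perm (Fin t))
    (h : ∀ x y : Fin t → Fin m, (k : Matrix (Fin t → Fin m) (Fin t → Fin m) F) x y
      = ∏ i, (gs i : Matrix (Fin m) (Fin m) F) (x i) (y (σ⁻¹ i))) : k ∈ tensorWreathStandard m t F := by
  have h1 : k = pureGL gs * facPerm F m σ := by
    apply Units.ext
    ext x y
    rw [Units.val_mul, Matrix.mul_apply, h, Finset.sum_eq_single (y ∘ (σ⁻¹ : Equiv.Perm (Fin t)))]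
    · rw [facPerm_val, if_pos, mul_one, pureGL_val, pureMat_apply]
      · rfl
      · funext i; simp
    · intro z _ hz
      rw [facPerm_val, if_neg, mul_zero]
      intro hy
      apply hz
      rw [hy]
      funext i; simp
    · intro h'; exact absurd (Finset.mem_univ _) h'
  rw [h1]
  exact Subgroup.mul_mem _ (pureGL_mem gs) (facPerm_mem σ)

lemma det_GL2_ne_zero (a : GL (Fin 2) F) : (a : Matrix (Fin 2) (Fin 2) F).det ≠ 0 := by
  intro h
  have h1 : IsUnit (a : Matrix (Fin 2) (Fin 2) F).det := (Matrix.isUnit_iff_isUnit_det _).1 a.isUnit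
  rw [h] at h1
  exact not_isUnit_zero h1

/-- **The plus type case.** If `f` is a tensor product of an alternating form on `F²` and a plus type symmetric
form on `F⁴`, then `f` is a tensor power of an alternating form on `F²` in some frame, the isometries in the
stabiliser of the first decomposition lie in the tensor-wreath subgroup, and the latter contains an isometry
outside the former. -/
theorem plus_type_frame (h2 : (2 : F) ≠ 0) {f : (ι → F) → (ι → F) → F} {e : ι ≃ Fin 2 × Fin 4} {P : GL ι F}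
    {f₁ : (Fin 2 → F) → (Fin 2 → F) → F} {f₂ : (Fin 4 → F) → (Fin 4 → F) → F}
    (hf₁ : IsSymplecticForm f₁) (hf₂ : IsSymmetricForm f₂)
    (hplus : IsPlusTypeOn (fun v : Fin 4 → F => f₂ v v) ⊤)
    (hst : IsTensorFormStructure id f f₁ f₂ e P) :
    ∃ (e' : ι ≃ (Fin 3 → Fin 2)) (P' : GL ι F),
      IsTensorPowerFormStructure id f f₁ e' P' ∧
      (∀ g ∈ tensorProductSubgroup 2 4 e P, (∀ u v, f ((g : Matrix ι ι F) *ᵥ u) ((g : Matrix ι ι F) *ᵥ v) = f u v) →
        g ∈ tensorWreathSubgroup 2 3 e' P') ∧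
      ∃ h ∈ tensorWreathSubgroup 2 3 e' P', (∀ u v, f ((h : Matrix ι ι F) *ᵥ u) ((h : Matrix ι ι F) *ᵥ v) = f u v) ∧
        h ∉ tensorProductSubgroup 2 4 e P := by
  classical
  obtain ⟨cc, hcc⟩ := exists_hyperbolic h2 hf₂ hplus
  let u : (Fin 2 → Fin 2) ≃ Fin 4 := finFunctionFinEquiv
  obtain ⟨c₁, hc₁, hG₁⟩ := gram_two hf₁
  set G₂ := gramMatrix f₂ with hG₂
  -- the change of basis of `F⁴`
  let B₀ : Matrix (Fin 4) (Fin 4) F := fun r s => cc (u.symm s) r
  have hf₂g : ∀ x y, f₂ x y = x ⬝ᵥ (G₂ *ᵥ y) := by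
    intro x y
    have h1 := eq_gram hf₂.bilinear x y
    rw [h1]
  have hB₀ : B₀ᵀ * G₂ * B₀ = gam F u := by
    ext r s
    have h1 := hcc (u.symm r) (u.symm s)
    rw [hf₂g] at h1
    rw [gam, ← h1]
    have h3 : B₀ *ᵥ Pi.single r 1 = cc (u.symm r) := by
      rw [Matrix.mulVec_single_one]; rfl
    have h4 : B₀ *ᵥ Pi.single s 1 = cc (u.symm s) := by
      rw [Matrix.mulVec_single_one]; rfl
    rw [← h3, ← h4, quad_mulVec, Matrix.mulVec_single_one]
    simp
  have hgg : gam F u * gam F u = 1 := by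
    have hJJ : JJ F * JJ F = -1 := by
      ext i j; fin_cases i <;> fin_cases j <;> simp [JJ, Matrix.mul_apply, Fin.sum_univ_two]
    ext r s
    obtain ⟨x, rfl⟩ := u.surjective r
    obtain ⟨y, rfl⟩ := u.surjective s
    have h1 : (gam F u * gam F u) (u x) (u y) = (JJ F * JJ F) (x 0) (y 0) * (JJ F * JJ F) (x 1) (y 1) := by
      rw [Matrix.mul_apply, ← Equiv.sum_comp u, sum_fun_two, Matrix.mul_apply, Matrix.mul_apply,
        Fin.sum_univ_two, Fin.sum_univ_two]
      simp only [gam, Equiv.symm_apply_apply, Matrix.cons_val_zero, Matrix.cons_val_one, Matrix.cons_val_fin_one]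
      ring
    rw [h1, hJJ, Matrix.neg_apply, Matrix.neg_apply, Matrix.one_apply, Matrix.one_apply, Matrix.one_apply]
    by_cases h3 : x = y
    · subst h3; simp
    · rw [if_neg (fun h => h3 (u.injective h))]
      by_cases h4 : x 0 = y 0
      · have h5 : x 1 ≠ y 1 := by
          intro h5
          apply h3
          funext i
          fin_cases i
          · exact h4
          · exact h5
        rw [if_neg h5]; simp
      · rw [if_neg h4]; simp
  have hB₀u : IsUnit B₀ := by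
    apply IsUnit.of_mul_eq_one_right (gam F u * (B₀ᵀ * G₂))
    rw [mul_assoc, hB₀, hgg]
  obtain ⟨B, hB⟩ := hB₀u
  rw [← hB] at hB₀
  obtain ⟨c, hc, hst⟩ := hst
  set K : GL (Fin 2 × Fin 4) F := kronGL 1 B with hK
  set W : Matrix (Fin 3 → Fin 2) (Fin 3 → Fin 2) F := pureMat (fun _ : Fin 3 => JJ F) with hW
  let e' : ι ≃ (Fin 3 → Fin 2) := e.trans (E3 u)
  set P' : GL ι F := P * glReindex e.symm K with hP'
  have hKG : (K : Matrix (Fin 2 × Fin 4) (Fin 2 × Fin 4) F)ᵀ * (gramMatrix f₁ ⊗ₖ G₂) * (K : Matrix _ _ F)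
      = gramMatrix f₁ ⊗ₖ gam F u := by
    rw [hK, kronGL_val, ← Matrix.kroneckerMap_transpose, ← Matrix.mul_kronecker_mul, ← Matrix.mul_kronecker_mul, hB₀]
    simp
  have hform8 : ∀ x y : (Fin 3 → Fin 2) → F,
      f ((P' : Matrix ι ι F) *ᵥ (x ∘ e')) ((P' : Matrix ι ι F) *ᵥ (y ∘ e')) = (c * c₁) * (x ⬝ᵥ (W *ᵥ y)) := by
    intro x y
    have h1 : ∀ x : (Fin 3 → Fin 2) → F, (P' : Matrix ι ι F) *ᵥ (x ∘ e')
        = (P : Matrix ι ι F) *ᵥ (((K : Matrix _ _ F) *ᵥ (x ∘ E3 u)) ∘ e) := by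
      intro x
      rw [hP', Units.val_mul, ← Matrix.mulVec_mulVec, ← glReindex_mulVec]
      rfl
    rw [h1, h1, hst, formOfGram_id, quad_mulVec, hKG, mul_assoc]
    congr 1
    simp only [dotProduct, Matrix.mulVec, Finset.mul_sum]
    rw [← Equiv.sum_comp (E3 u)]
    apply Finset.sum_congr rfl
    intro p _
    rw [← Equiv.sum_comp (E3 u)]
    apply Finset.sum_congr rfl
    intro q _
    rw [Matrix.kroneckerMap_apply, hG₁, gam, hW, pureMat_apply, Fin.prod_univ_three, Matrix.smul_apply, smul_eq_mul,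
      E3_zero, E3_one, E3_two, E3_zero, E3_one, E3_two]
    simp only [Function.comp]
    ring
  have hconjK : ∀ (a : GL (Fin 2) F) (b : GL (Fin 4) F),
      frameGL e' P' (glReindex (E3 u) (kronGL a (B⁻¹ * b * B))) = P * glReindex e.symm (kronGL a b) * P⁻¹ := by
    intro a b
    have h1 : frameGL e' P' (glReindex (E3 u) (kronGL a (B⁻¹ * b * B)))
        = P' * glReindex e'.symm (glReindex (E3 u) (kronGL a (B⁻¹ * b * B))) * P'⁻¹ := rfl
    have h3 : glReindex e'.symm (glReindex (E3 u) (kronGL a (B⁻¹ * b * B)))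
        = glReindex e.symm (kronGL a (B⁻¹ * b * B)) := by
      apply Units.ext
      ext i j
      change (kronGL a (B⁻¹ * b * B) : Matrix _ _ F) ((E3 u).symm (E3 u (e i))) ((E3 u).symm (E3 u (e j))) = _
      rw [Equiv.symm_apply_apply, Equiv.symm_apply_apply]
      rfl
    rw [h1, h3, hP', mul_inv_rev, ← map_inv]
    have h4 : glReindex e.symm K * glReindex e.symm (kronGL a (B⁻¹ * b * B)) * glReindex e.symm K⁻¹
        = glReindex e.symm (kronGL a b) := by
      rw [← map_mul, ← map_mul, hK, kronGL_inv, kronGL_mul, kronGL_mul]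
      congr 2
      · group
      · group
    rw [← h4]
    group
  have hframe : ∀ g : GL (Fin 3 → Fin 2) F, ∀ x : (Fin 3 → Fin 2) → F,
      ((frameGL e' P' g : GL ι F) : Matrix ι ι F) *ᵥ ((P' : Matrix ι ι F) *ᵥ (x ∘ e')) =
      (P' : Matrix ι ι F) *ᵥ (((g : Matrix _ _ F) *ᵥ x) ∘ e') := fun g x => frameGL_mulVec e' P' g x
  refine ⟨e', P', ?_, ?_, ?_⟩
  · refine ⟨c * c₁ * (c₁ ^ 3)⁻¹, mul_ne_zero (mul_ne_zero hc hc₁) (inv_ne_zero (pow_ne_zero _ hc₁)), ?_⟩
    intro x y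
    rw [hform8]
    have h1 : ∀ a b : Fin 3 → Fin 2, ∏ i, gramMatrix f₁ (a i) (b i) = c₁ ^ 3 * W a b := by
      intro a b
      rw [hG₁, hW, pureMat_apply, Fin.prod_univ_three, Fin.prod_univ_three]
      simp only [Matrix.smul_apply, smul_eq_mul]; ring
    simp only [h1, id]
    have h3 : ∑ a, ∑ b, x a * (c₁ ^ 3 * W a b) * y b = c₁ ^ 3 * (x ⬝ᵥ (W *ᵥ y)) := by
      simp only [dotProduct, Matrix.mulVec, Finset.mul_sum]
      apply Finset.sum_congr rfl
      intro a _
      apply Finset.sum_congr rfl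
      intro b _
      ring
    rw [h3]
    field_simp
  · intro g hg hiso
    rw [mem_tensorProductSubgroup_iff] at hg
    obtain ⟨a, b, rfl⟩ := hg
    rw [mem_tensorWreathSubgroup_iff]
    refine ⟨glReindex (E3 u) (kronGL a (B⁻¹ * b * B)), ?_, hconjK a b⟩
    -- the isometry condition
    have hmat : ((kronGL a b : GL (Fin 2 × Fin 4) F) : Matrix _ _ F)ᵀ * (gramMatrix f₁ ⊗ₖ G₂) *
        ((kronGL a b : GL (Fin 2 × Fin 4) F) : Matrix _ _ F) = gramMatrix f₁ ⊗ₖ G₂ := by
      have h1 : ∀ x y : Fin 2 × Fin 4 → F, x ⬝ᵥ ((((kronGL a b : GL (Fin 2 × Fin 4) F) : Matrix _ _ F)ᵀ *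
          (gramMatrix f₁ ⊗ₖ G₂) * ((kronGL a b : GL (Fin 2 × Fin 4) F) : Matrix _ _ F)) *ᵥ y)
          = x ⬝ᵥ ((gramMatrix f₁ ⊗ₖ G₂) *ᵥ y) := by
        intro x y
        have h3 := hiso ((P : Matrix ι ι F) *ᵥ (x ∘ e)) ((P : Matrix ι ι F) *ᵥ (y ∘ e))
        have h4 : ∀ x : Fin 2 × Fin 4 → F, ((P * glReindex e.symm (kronGL a b) * P⁻¹ : GL ι F) : Matrix ι ι F) *ᵥ
            ((P : Matrix ι ι F) *ᵥ (x ∘ e))
            = (P : Matrix ι ι F) *ᵥ ((((kronGL a b : GL (Fin 2 × Fin 4) F) : Matrix _ _ F) *ᵥ x) ∘ e) := by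
          intro x
          rw [Units.val_mul, Units.val_mul, Matrix.mulVec_mulVec, mul_assoc _ _ (P : Matrix ι ι F), Units.inv_mul,
            mul_one, ← Matrix.mulVec_mulVec, glReindex_mulVec]
        rw [h4, h4, hst, hst, formOfGram_id, formOfGram_id, quad_mulVec] at h3
        exact mul_left_cancel₀ hc h3
      ext r s
      have := h1 (Pi.single r 1) (Pi.single s 1)
      simpa using this
    rw [kronGL_val, ← Matrix.kroneckerMap_transpose, ← Matrix.mul_kronecker_mul, ← Matrix.mul_kronecker_mul, hG₁] at hmat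
    have hd : (a : Matrix (Fin 2) (Fin 2) F).det ≠ 0 := det_GL2_ne_zero a
    have hb2 : (b : Matrix (Fin 4) (Fin 4) F)ᵀ * G₂ * (b : Matrix (Fin 4) (Fin 4) F)
        = ((a : Matrix (Fin 2) (Fin 2) F).det)⁻¹ • G₂ := by
      ext r s
      have h1 := congrFun (congrFun hmat (0, r)) (1, s)
      rw [Matrix.kroneckerMap_apply, Matrix.kroneckerMap_apply, Matrix.mul_smul, Matrix.smul_mul, JJ_conj] at h1
      simp only [Matrix.smul_apply, smul_eq_mul, JJ, Matrix.of_apply, Matrix.cons_val', Matrix.cons_val_zero,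
        Matrix.cons_val_one, Matrix.cons_val_fin_one, mul_one] at h1
      rw [Matrix.smul_apply, smul_eq_mul]
      have h3 : c₁ * ((a : Matrix (Fin 2) (Fin 2) F).det *
          ((b : Matrix (Fin 4) (Fin 4) F)ᵀ * G₂ * (b : Matrix (Fin 4) (Fin 4) F)) r s) = c₁ * G₂ r s := by
        rw [← mul_assoc]; exact h1
      have h4 := mul_left_cancel₀ hc₁ h3
      rw [← h4, ← mul_assoc, inv_mul_cancel₀ hd, one_mul]
    have hb' : ((B⁻¹ * b * B : GL (Fin 4) F) : Matrix (Fin 4) (Fin 4) F)ᵀ * gam F u *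
        ((B⁻¹ * b * B : GL (Fin 4) F) : Matrix (Fin 4) (Fin 4) F)
        = ((a : Matrix (Fin 2) (Fin 2) F).det)⁻¹ • gam F u := by
      have hBB : (B : Matrix (Fin 4) (Fin 4) F) * ((B⁻¹ : GL (Fin 4) F) : Matrix (Fin 4) (Fin 4) F) = 1 := Units.mul_inv B
      have hBBt : ((B⁻¹ : GL (Fin 4) F) : Matrix (Fin 4) (Fin 4) F)ᵀ * (B : Matrix (Fin 4) (Fin 4) F)ᵀ = 1 := by
        rw [← Matrix.transpose_mul, hBB, Matrix.transpose_one]
      rw [← hB₀, Units.val_mul, Units.val_mul, Matrix.transpose_mul, Matrix.transpose_mul]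
      calc (B : Matrix (Fin 4) (Fin 4) F)ᵀ * ((b : Matrix (Fin 4) (Fin 4) F)ᵀ * ((B⁻¹ : GL (Fin 4) F) : Matrix (Fin 4) (Fin 4) F)ᵀ)
            * ((B : Matrix (Fin 4) (Fin 4) F)ᵀ * G₂ * (B : Matrix (Fin 4) (Fin 4) F))
            * (((B⁻¹ : GL (Fin 4) F) : Matrix (Fin 4) (Fin 4) F) * (b : Matrix (Fin 4) (Fin 4) F) * (B : Matrix (Fin 4) (Fin 4) F))
          = (B : Matrix (Fin 4) (Fin 4) F)ᵀ * (b : Matrix (Fin 4) (Fin 4) F)ᵀ *
            (((B⁻¹ : GL (Fin 4) F) : Matrix (Fin 4) (Fin 4) F)ᵀ * (B : Matrix (Fin 4) (Fin 4) F)ᵀ) * G₂ *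
            ((B : Matrix (Fin 4) (Fin 4) F) * ((B⁻¹ : GL (Fin 4) F) : Matrix (Fin 4) (Fin 4) F)) *
            (b : Matrix (Fin 4) (Fin 4) F) * (B : Matrix (Fin 4) (Fin 4) F) := by simp only [mul_assoc]
        _ = (B : Matrix (Fin 4) (Fin 4) F)ᵀ * ((b : Matrix (Fin 4) (Fin 4) F)ᵀ * G₂ * (b : Matrix (Fin 4) (Fin 4) F))
            * (B : Matrix (Fin 4) (Fin 4) F) := by rw [hBBt, hBB, mul_one, mul_one]; simp only [mul_assoc]
        _ = _ := by rw [hb2, Matrix.mul_smul, Matrix.smul_mul]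
    have hentry : ∀ x y : Fin 3 → Fin 2,
        ((glReindex (E3 u) (kronGL a (B⁻¹ * b * B)) : GL (Fin 3 → Fin 2) F) : Matrix _ _ F) x y
        = (a : Matrix (Fin 2) (Fin 2) F) (x 0) (y 0) *
          ((B⁻¹ * b * B : GL (Fin 4) F) : Matrix (Fin 4) (Fin 4) F) (u ![x 1, x 2]) (u ![y 1, y 2]) := by
      intro x y
      change (kronGL a (B⁻¹ * b * B) : Matrix _ _ F) ((E3 u).symm x) ((E3 u).symm y) = _
      rw [E3_symm, E3_symm]
      rfl
    obtain ⟨A, B₂, hAB⟩ := gam_similitude h2 u (inv_ne_zero hd) hb'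
    rcases hAB with hAB | hAB
    · apply mem_wreath_of_entries ![a, A, B₂] 1
      intro x y
      rw [hentry, hAB, Fin.prod_univ_three]
      simp [mul_assoc]
    · apply mem_wreath_of_entries ![a, A, B₂] (Equiv.swap 1 2)
      intro x y
      rw [hentry, hAB, Fin.prod_univ_three, Equiv.swap_inv, Equiv.swap_apply_left, Equiv.swap_apply_right,
        Equiv.swap_apply_of_ne_of_ne (by decide) (by decide)]
      simp [mul_assoc]
  · set σ : Equiv.Perm (Fin 3) := finRotate 3 with hσ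
    refine ⟨frameGL e' P' (facPerm F 2 σ), ?_, ?_, ?_⟩
    · rw [mem_tensorWreathSubgroup_iff]
      exact ⟨_, facPerm_mem σ, rfl⟩
    · intro v w
      obtain ⟨x, rfl⟩ := exists_frame_coords e' P' v
      obtain ⟨y, rfl⟩ := exists_frame_coords e' P' w
      rw [hframe, hframe, hform8, hform8, quad_mulVec]
      congr 3
      rw [facPerm_transpose, facPerm_inv]
      have h1 := facPerm_conj (F := F) (m := 2) σ⁻¹ (fun _ : Fin 3 => JJ F)
      rw [facPerm_inv, inv_inv] at h1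
      exact h1
    · intro hmem
      rw [mem_tensorProductSubgroup_iff] at hmem
      obtain ⟨a, b, hab⟩ := hmem
      rw [← hconjK] at hab
      have h1 := (frameGL e' P').injective hab
      set b' : GL (Fin 4) F := B⁻¹ * b * B with hb'
      have hentry : ∀ x y : Fin 3 → Fin 2, (if y = x ∘ σ then (1 : F) else 0)
          = (a : Matrix (Fin 2) (Fin 2) F) (x 0) (y 0) *
            (b' : Matrix (Fin 4) (Fin 4) F) (u ![x 1, x 2]) (u ![y 1, y 2]) := by
        intro x y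
        rw [← facPerm_val, h1]
        change (kronGL a b' : Matrix _ _ F) ((E3 u).symm x) ((E3 u).symm y) = _
        rw [E3_symm, E3_symm]
        rfl
      have k1 := hentry ![0, 0, 0] ![0, 0, 0]
      have k2 := hentry ![1, 1, 1] ![1, 1, 1]
      have k3 := hentry ![1, 0, 0] ![1, 0, 0]
      rw [if_pos (by rw [hσ]; decide)] at k1 k2
      rw [if_neg (by rw [hσ]; decide)] at k3
      simp only [Matrix.cons_val_zero, Matrix.cons_val_one, Matrix.cons_val] at k1 k2 k3
      rcases mul_eq_zero.1 k3.symm with h | h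
      · rw [h, zero_mul] at k2; exact one_ne_zero k2
      · rw [h, mul_zero] at k1; exact one_ne_zero k1

end Eight


end Cfsg.Agent.H919
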