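import Cfsg.Agent.H919.AltTwo
import Cfsg.Agent.H614.AMod.Natural

/-!
# Row `A₉`, `n = 8`, characteristic two (helper919)

`nine_row` : `Core P`, `FixA P`, `Soc P ≃* A₉`, `|ι| = 8`, and (helper614) `Indep ρ` or all `3`-cycles fixed point free
⟹ `FixQ P`.
-/

set_option autoImplicit false
set_option linter.unusedSectionVars false

open Cfsg Cfsg.Geo Matrix

namespace Cfsg.Agent.H919.Q2

open Cfsg.Agent.H915.LD

universe u v

variable {ι : Type} [Fintype ι] [DecidableEq ι] {F : Type u} [Field F] {P : Subgroup (GL ι F)}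

/-- in characteristic two and dimension a power of two a core has trivial centre -/
theorem scal_bot (h2 : (2 : F) = 0) (hC : Core P) {k : ℕ} (hn : Fintype.card ι = 2 ^ k) :
    (scalars ι F).subgroupOf P = ⊥ := by
  have hchar : CharP F 2 := CharTwo.of_one_ne_zero_of_two_eq_zero one_ne_zero h2
  have hp2 : Fact (Nat.Prime 2) := ⟨Nat.prime_two⟩
  rw [eq_bot_iff]
  intro z hz
  rw [Subgroup.mem_subgroupOf, mem_scalars_iff] at hz
  obtain ⟨c, hc⟩ := hz
  have h1 := hC.scalar_pow z.2 hc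
  rw [hn] at h1
  have h3 : ((c : F) - 1) ^ 2 ^ k = 0 := by
    rw [sub_pow_char_pow, h1, one_pow, sub_self]
  have h4 : (c : F) = 1 := by
    rw [← sub_eq_zero]
    exact eq_zero_of_pow_eq_zero h3
  rw [Subgroup.mem_bot]
  apply Subtype.ext
  apply Units.ext
  rw [hc, h4, one_smul]
  rfl

/-- `P` is isomorphic to its socle -/
noncomputable def eqSoc (h : (scalars ι F).subgroupOf P = ⊥) : P ≃* Soc P :=
  (QuotientGroup.quotientBot (G := P)).symm.trans (QuotientGroup.quotientMulEquivOfEq h.symm)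

variable {G : Type v} [Group G]

/-- the representation of a homomorphism to `GL` -/
noncomputable def repOf (ρ : G →* GL ι F) : Representation F G (ι → F) where
  toFun g := Matrix.toLin' (ρ g : Matrix ι ι F)
  map_one' := by rw [map_one, Units.val_one, Matrix.toLin'_one]; rfl
  map_mul' a b := by rw [map_mul, Units.val_mul, Matrix.toLin'_mul]; rfl

theorem repOf_apply (ρ : G →* GL ι F) (g : G) (v : ι → F) : repOf ρ g v = (ρ g : Matrix ι ι F) *ᵥ v := by
  show Matrix.toLin' (ρ g : Matrix ι ι F) v = _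
  rw [Matrix.toLin'_apply]

theorem repOf_irr (ρ : G →* GL ι F) (h : ActsIrreducibly (matrixSet ρ.range)) : Cfsg.Agent.H614.AMod.Irr (repOf ρ) := by
  intro W hW
  apply h W
  rintro _ ⟨_, ⟨g, rfl⟩, rfl⟩ _ ⟨w, hw, rfl⟩
  exact hW g w hw

open Equiv.Perm

/-- natural modules of `A_9` -/
theorem nine_nat (h2 : (2 : F) = 0) {f : (ι → F) → (ι → F) → F} (hf : IsSymplecticForm f)
    (ρ : alternatingGroup (Fin 9) →* GL ι F) (hρ : InvB ρ.range f) (h8 : Fintype.card ι = 8)
    (Fv : Fin 9 → Fin 9 → (ι → F)) (h1 : ∀ i j, Fv j i = - Fv i j) (h3 : ∀ i j k, Fv i j + Fv j k = Fv i k)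
    (h4 : ∀ (g : alternatingGroup (Fin 9)) i j,
      (ρ g : Matrix ι ι F) *ᵥ (Fv i j) = Fv ((g : Equiv.Perm (Fin 9)) i) ((g : Equiv.Perm (Fin 9)) j))
    (h5 : Submodule.span F (Set.range fun p : Fin 9 × Fin 9 => Fv p.1 p.2) = ⊤) :
    ∃ Q, QP f Q ∧ Inv ρ.range Q := by
  classical
  have hdif : ∀ i j, Fv i j = Fv i 0 - Fv j 0 := by
    intro i j
    rw [← h3 i j 0, add_sub_cancel_right]
  have h9 : ∀ x : ι → F, (9 : ℕ) • x = x := by
    intro x
    funext k
    rw [Pi.smul_apply, nsmul_eq_mul]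
    push_cast
    linear_combination (4 * x k) * h2
  let v : Fin 9 → (ι → F) := fun i => ∑ j, Fv i j
  have hv : ∀ i, v i = ∑ j, Fv i j := fun _ => rfl
  have hvd : ∀ i j, v i - v j = Fv i j := by
    intro i j
    rw [hv, hv, ← Finset.sum_sub_distrib]
    have h6 : ∀ k ∈ (Finset.univ : Finset (Fin 9)), Fv i k - Fv j k = Fv i j := by
      intro k _
      rw [← h3 i j k, add_sub_cancel_right]
    rw [Finset.sum_congr rfl h6, Finset.sum_const, Finset.card_univ, Fintype.card_fin, h9]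
  have hperm : ∀ (g : alternatingGroup (Fin 9)) i, (ρ g : Matrix ι ι F) *ᵥ (v i) = v ((g : Equiv.Perm (Fin 9)) i) := by
    intro g i
    rw [hv, hv, Matrix.mulVec_sum]
    rw [← Equiv.sum_comp (g : Equiv.Perm (Fin 9)) (fun j => Fv ((g : Equiv.Perm (Fin 9)) i) j)]
    exact Finset.sum_congr rfl fun j _ => h4 g i j
  have hsum : ∑ i, v i = 0 := by
    have h6 : ∀ i ∈ (Finset.univ : Finset (Fin 9)), v i = Fv i 0 - ∑ j, Fv j 0 := by
      intro i _
      rw [hv, Finset.sum_congr rfl fun j _ => hdif i j, Finset.sum_sub_distrib, Finset.sum_const, Finset.card_univ,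
        Fintype.card_fin, h9]
    rw [Finset.sum_congr rfl h6, Finset.sum_sub_distrib, Finset.sum_const, Finset.card_univ, Fintype.card_fin, h9,
      sub_self]
  refine alt_nat (m := 9) (v := v) (c := f (v 0) (v 1)) h2 hf hρ (by decide) (by rw [h8]) ?_ hsum ?_ ?_
  · rw [eq_top_iff, ← h5, Submodule.span_le]
    rintro _ ⟨⟨i, j⟩, rfl⟩
    show Fv i j ∈ Submodule.span F (Set.range v)
    rw [← hvd]
    exact Submodule.sub_mem _ (Submodule.subset_span ⟨i, rfl⟩) (Submodule.subset_span ⟨j, rfl⟩)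
  · intro i j hij
    obtain ⟨g, hg⟩ := Cfsg.Agent.H614.AMod.exists_move (α := Fin 9) (k := 2) (by rw [Fintype.card_fin]; omega)
      (Cfsg.Agent.H614.AMod.emb2 0 1 (by decide)) (Cfsg.Agent.H614.AMod.emb2 i j hij)
    have h6 := hρ (ρ g) ⟨g, rfl⟩ (v 0) (v 1)
    rw [hperm, hperm] at h6
    rw [← h6]
    have h7 : (g : Equiv.Perm (Fin 9)) 0 = i := hg 0
    have h8 : (g : Equiv.Perm (Fin 9)) 1 = j := hg 1
    rw [h7, h8]
  · rintro _ ⟨g, rfl⟩ i
    exact ⟨_, hperm g i⟩

/-- **Row `A₉`.** -/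
theorem nine_row (h2 : (2 : F) = 0) (hC : Core P) (hA : FixA P) (h8 : Fintype.card ι = 8)
    (e : Soc P ≃* alternatingGroup (Fin 9))
    (hdich : ∀ ρ : alternatingGroup (Fin 9) →* GL ι F, ρ.range = P →
      Cfsg.Agent.H614.AMod.Indep (repOf ρ) ∨ ∀ t : alternatingGroup (Fin 9), (t : Equiv.Perm (Fin 9)).IsThreeCycle →
        ∀ v, (ρ t : Matrix ι ι F) *ᵥ v = v → v = 0) : FixQ P := by
  classical
  obtain ⟨f, hf, hfix⟩ := hA
  let e' : P ≃* alternatingGroup (Fin 9) := (eqSoc (scal_bot (k := 3) h2 hC h8)).trans e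
  let ρ : alternatingGroup (Fin 9) →* GL ι F := P.subtype.comp e'.symm.toMonoidHom
  have hρ : ρ.range = P := by
    ext g
    constructor
    · rintro ⟨x, rfl⟩
      exact (e'.symm x).2
    · intro hg
      refine ⟨e' ⟨g, hg⟩, ?_⟩
      show ((e'.symm (e' ⟨g, hg⟩) : P) : GL ι F) = g
      rw [MulEquiv.symm_apply_apply]
  have hB : InvB ρ.range f := by rw [hρ]; exact invB_of_fixes hfix
  have key : ∃ Q, QP f Q ∧ Inv ρ.range Q := by
    rcases hdich ρ hρ with h | h
    · have hirr : ActsIrreducibly (matrixSet ρ.range) := by rw [hρ]; exact hC.absIrred.1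
      obtain ⟨g₀, v₀, hne⟩ : ∃ (g₀ : alternatingGroup (Fin 9)) (v₀ : ι → F), repOf ρ g₀ v₀ ≠ v₀ := by
        by_contra hcon
        push Not at hcon
        apply hC.nonabelian
        have h1 : ∀ g : P, g = 1 := by
          rintro ⟨g, hg⟩
          apply Subtype.ext
          rw [← hρ] at hg
          obtain ⟨x, rfl⟩ := hg
          apply Units.ext
          ext i j
          have h3 := congrFun (hcon x (Pi.single j 1)) i
          rw [repOf_apply, Matrix.mulVec_single_one] at h3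
          show (ρ x : Matrix ι ι F) i j = (1 : Matrix ι ι F) i j
          rw [show (ρ x : Matrix ι ι F) i j = (ρ x : Matrix ι ι F).col j i from rfl, h3, Matrix.one_apply, Pi.single_apply]
        exact ⟨⟨fun a b => by
          induction a using QuotientGroup.induction_on with
          | H a =>
            induction b using QuotientGroup.induction_on with
            | H b => rw [h1 a, h1 b]⟩⟩
      obtain ⟨Fv, h1, h3, h4, h5, -⟩ := Cfsg.Agent.H614.AMod.natural h (by rw [Fintype.card_fin]; omega)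
        (repOf_irr ρ hirr) hne
      exact nine_nat h2 hf ρ hB h8 Fv h1 h3 (fun g i j => by rw [← repOf_apply, h4]) h5
    · exact alt_fpf h2 hf le_rfl ρ hB h
  obtain ⟨Q, hQ, hQi⟩ := key
  rw [hρ] at hQi
  exact fixQ_of hf hQ hQi

end Cfsg.Agent.H919.Q2
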