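import Cfsg.Agent.H919.SevenTwo
import Cfsg.Agent.H919.NineRow

/-!
# Row `A₇`, `n = 8`, characteristic two (helper919)
-/

set_option autoImplicit false
set_option linter.unusedSectionVars false

open Cfsg Cfsg.Geo Matrix

namespace Cfsg.Agent.H919.Q2

open Cfsg.Agent.H915.LD

universe u v

variable {ι : Type} [Fintype ι] [DecidableEq ι] {F : Type u} [Field F] {P : Subgroup (GL ι F)}

/-- `A₇` in dimension eight, characteristic two: `P` fixes a quadratic form. -/
theorem seven_row (h2 : (2 : F) = 0) (hC : Core P) (hA : FixA P) (h8 : Fintype.card ι = 8)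
    (e : Soc P ≃* alternatingGroup (Fin 7)) : FixQ P := by
  classical
  obtain ⟨f, hf, hfix⟩ := hA
  let e' : P ≃* alternatingGroup (Fin 7) := (eqSoc (scal_bot (k := 3) h2 hC h8)).trans e
  let ρ : alternatingGroup (Fin 7) →* GL ι F := P.subtype.comp e'.symm.toMonoidHom
  have hρ : ρ.range = P := by
    ext g
    constructor
    · rintro ⟨x, rfl⟩
      exact (e'.symm x).2
    · intro hg
      refine ⟨e' ⟨g, hg⟩, ?_⟩
      show ((e'.symm (e' ⟨g, hg⟩) : P) : GL ι F) = g
      rw [MulEquiv.symm_apply_apply]
  set K := AlgebraicClosure F with hK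
  have h2K : (2 : K) = 0 := by
    have := congrArg (algebraMap F K) h2
    rwa [map_ofNat, map_zero] at this
  obtain ⟨c, hc⟩ : ∃ c : K, c * c + c + 1 = 0 := by
    obtain ⟨c, hc⟩ := IsAlgClosed.exists_root (Polynomial.X ^ 2 + Polynomial.X + Polynomial.C 1 : Polynomial K) (by
      have h1 : (Polynomial.X ^ 2 + Polynomial.X + Polynomial.C 1 : Polynomial K).degree = 2 := by
        compute_degree!
      rw [h1]; decide)
    refine ⟨c, ?_⟩
    rw [Polynomial.IsRoot.def] at hc
    simp only [Polynomial.eval_add, Polynomial.eval_pow, Polynomial.eval_X, Polynomial.eval_C] at hc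
    rw [← hc]
    ring
  let ρK : alternatingGroup (Fin 7) →* GL ι K := (mG F K).comp ρ
  have hρK : ρK.range = P.map (mG F K) := by
    rw [MonoidHom.range_comp, hρ]
  have hB : InvB ρK.range (extF K f) := by
    rw [hρK]
    exact extF_inv hf.bilinear (invB_of_fixes hfix)
  have hirr : ActsIrreducibly (matrixSet ρK.range) := by
    rw [hρK]
    exact irr_ext hC.absIrred
  have hirr' := repOf_irr ρK hirr
  have hd : Module.finrank K (ι → K) = 8 := by
    rw [Module.finrank_fintype_fun_eq_card, h8]
  obtain ⟨f1, f2⟩ := seven_fpf (r := repOf ρK) h2K hc hd hirr'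
  have key : ∃ Q, QP (extF K f) Q ∧ Inv ρK.range Q := by
    refine exists_of_rep h2K (extF_symplectic h2 hf) ρK hB {pt, ps} ⟨pt, Or.inl rfl⟩ ?_ ?_ ?_ ?_
    · rintro t (rfl | rfl)
      · refine Odd.of_dvd_nat (show Odd 3 by decide) (orderOf_dvd_of_pow_eq_one ?_)
        decide +kernel
      · refine Odd.of_dvd_nat (show Odd 3 by decide) (orderOf_dvd_of_pow_eq_one ?_)
        decide +kernel
    · rintro t (rfl | rfl) v hv
      · have h1 := prj_fix (r := repOf ρK) h2K (g := pt) (v := v) (by rw [repOf_apply]; exact hv)
        rw [f1] at h1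
        exact h1.symm
      · have h1 := prj_fix (r := repOf ρK) h2K (g := ps) (v := v) (by rw [repOf_apply]; exact hv)
        rw [f2] at h1
        exact h1.symm
    · have hcm : Commute pt ps := pt_ps
      rintro s (rfl | rfl) t (rfl | rfl)
      · exact Relation.ReflTransGen.refl
      · exact Relation.ReflTransGen.single ⟨Or.inr rfl, hcm⟩
      · exact Relation.ReflTransGen.single ⟨Or.inl rfl, hcm.symm⟩
      · exact Relation.ReflTransGen.refl
    · apply gen7
      · intro g g0 g1 g2
        apply Subgroup.subset_closure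
        refine ⟨pt, Or.inl rfl, ?_⟩
        have hcm : g * pt = pt * g := by
          apply commute_of_fix
          have : ∀ i : Fin 7, i = 0 ∨ i = 1 ∨ i = 2 ∨ (pt : Equiv.Perm (Fin 7)) i = i := by decide +kernel
          intro i
          rcases this i with rfl | rfl | rfl | hi
          · exact Or.inl g0
          · exact Or.inl g1
          · exact Or.inl g2
          · exact Or.inr hi
        rw [hcm, mul_inv_cancel_right]
        exact Subgroup.mem_zpowers pt
      · intro g g0 g1 g2
        apply Subgroup.subset_closure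
        refine ⟨ps, Or.inr rfl, ?_⟩
        have hcm : g * ps = ps * g := by
          apply commute_of_fix
          have : ∀ i : Fin 7, i = 3 ∨ i = 4 ∨ i = 5 ∨ (ps : Equiv.Perm (Fin 7)) i = i := by decide +kernel
          intro i
          rcases this i with rfl | rfl | rfl | hi
          · exact Or.inl g0
          · exact Or.inl g1
          · exact Or.inl g2
          · exact Or.inr hi
        rw [hcm, mul_inv_cancel_right]
        exact Subgroup.mem_zpowers ps
  rw [hρK] at key
  exact fixQ_of_closed K hC hf key

end Cfsg.Agent.H919.Q2
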