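import Cfsg.Agent.H919.SixRow
import Cfsg.Agent.H919.SevenRow
import Cfsg.Agent.H919.NineRow
import Cfsg.Agent.H614.AMod.Main
import Cfsg.Agent.H936.List12
import Cfsg.Agent.S0252
import Cfsg.Agent.S0256

/-!
# Alternating groups in dimension eight, characteristic two (helper919)

`two_alt` : `Core P`, `FixA P`, `|ι| = 8`, `char F = 2`, `Soc P` an alternating group, not of Lie type in characteristic two
⟹ `FixQ P`, or `Soc P ≅ A₁₀` and `|F| = 2`.
-/

set_option autoImplicit false
set_option linter.unusedSectionVars false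

open Cfsg Cfsg.Geo Matrix

namespace Cfsg.Agent.H919.Q2

open Cfsg.Agent.H915.LD

universe u v

open Equiv Equiv.Perm Cfsg.Agent.H614.AMod in
theorem exists_ex {m : ℕ} (t : alternatingGroup (Fin m)) (ht : (t : Perm (Fin m)).IsThreeCycle) :
    ∃ e : Fin 3 ↪ Fin m, ex e c3 = t := by
  obtain ⟨x, hx, hcyc⟩ := ht.isCycle
  have h3 : ∀ w, (t : Perm (Fin m)) ((t : Perm (Fin m)) ((t : Perm (Fin m)) w)) = w := by
    intro w
    have h1 : (t : Perm (Fin m)) ^ 3 = 1 := by rw [← ht.orderOf]; exact pow_orderOf_eq_one _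
    have h2 := Equiv.congr_fun h1 w
    rw [pow_succ, pow_two] at h2
    exact h2
  set y := (t : Perm (Fin m)) x with hy
  set z := (t : Perm (Fin m)) y with hz
  have hxy : x ≠ y := fun h => hx h.symm
  have hyz : y ≠ z := fun h => hxy ((t : Perm (Fin m)).injective h)
  have hzx : (t : Perm (Fin m)) z = x := h3 x
  have hxz : x ≠ z := by
    intro h
    rw [← h] at hzx
    exact hx hzx
  refine ⟨emb3 x y z hxy hyz hxz, ?_⟩
  apply Subtype.ext
  apply Equiv.ext
  intro w
  by_cases hw : ∃ i, emb3 x y z hxy hyz hxz i = w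
  · obtain ⟨i, rfl⟩ := hw
    rw [ex_apply]
    fin_cases i
    · show y = (t : Perm (Fin m)) x
      rfl
    · show z = (t : Perm (Fin m)) y
      rfl
    · show x = (t : Perm (Fin m)) z
      rw [hzx]
  · push Not at hw
    rw [ex_of_notMem _ _ hw]
    by_contra hcon
    obtain ⟨i, hi⟩ := hcyc (y := w) (fun h => hcon h.symm)
    have h4 : ∀ i : ℤ, ((t : Perm (Fin m)) ^ i) x = x ∨ ((t : Perm (Fin m)) ^ i) x = y ∨ ((t : Perm (Fin m)) ^ i) x = z := by
      intro i
      have h5 : (t : Perm (Fin m)) ^ i = (t : Perm (Fin m)) ^ (i % 3) := by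
        have := zpow_mod_orderOf (t : Perm (Fin m)) i
        rw [ht.orderOf] at this
        exact_mod_cast this.symm
      rw [h5]
      have h6 : i % 3 = 0 ∨ i % 3 = 1 ∨ i % 3 = 2 := by omega
      rcases h6 with h | h | h <;> rw [h]
      · left; rfl
      · right; left
        rw [zpow_one]
      · right; right
        rw [show (2 : ℤ) = ((2 : ℕ) : ℤ) from rfl, zpow_natCast, pow_two]
        rfl
    rcases h4 i with h | h | h
    · exact hw 0 (by rw [← hi, h]; rfl)
    · exact hw 1 (by rw [← hi, h]; rfl)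
    · exact hw 2 (by rw [← hi, h]; rfl)

variable {ι : Type} [Fintype ι] [DecidableEq ι] {F : Type u} [Field F] {P : Subgroup (GL ι F)}

open Cfsg.Agent.H614.AMod in
/-- **Alternating groups, `n = 8`, `p = 2`.** -/
theorem two_alt [Fintype F] [CharP F 2] (hC : Core P) (hA : FixA P) (h8 : Fintype.card ι = 8)
    (hL : ¬ IsLieTypeChar 2 (Soc P)) (h : H936.List12.AltC 2 8 (Soc P)) :
    FixQ P ∨ (Nonempty (Soc P ≃* alternatingGroup (Fin 10)) ∧ Fintype.card F = 2) := by
  have h2 : (2 : F) = 0 := CharTwo.two_eq_zero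
  have hp : Fact (Nat.Prime 2) := ⟨Nat.prime_two⟩
  obtain ⟨m, h5, h14, h12, -, -, ⟨e⟩⟩ := h
  have hm : m ≤ 11 := by
    by_contra hcon
    have := h12 (by norm_num) (by omega)
    omega
  rcases (show m = 5 ∨ m = 6 ∨ m = 7 ∨ m = 8 ∨ m = 9 ∨ m = 10 ∨ m = 11 by omega) with
    rfl | rfl | rfl | rfl | rfl | rfl | rfl
  · exfalso
    apply hL
    let K := GaloisField 2 2
    have : Fintype K := Fintype.ofFinite K
    have hK : Fintype.card K = 4 := by
      rw [← Nat.card_eq_fintype_card, GaloisField.card 2 2 (by norm_num)]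
      norm_num
    obtain ⟨φ⟩ := Cfsg.Agent.S0252.result hK
    exact Or.inl ⟨K, inferInstance, inferInstance, inferInstance, 2, le_rfl, fun _ => by rw [hK], ⟨e.trans φ.symm⟩⟩
  · exact Or.inl (six_row h2 hC hA h8 e)
  · exact Or.inl (seven_row h2 hC hA h8 e)
  · exfalso
    apply hL
    obtain ⟨φ⟩ := Cfsg.Agent.S0256.result (F := ZMod 2) (ZMod.card 2)
    exact Or.inl ⟨ZMod 2, inferInstance, inferInstance, inferInstance, 4, by norm_num, fun h => by norm_num at h,
      ⟨e.trans φ.symm⟩⟩
  · refine Or.inl (nine_row h2 hC hA h8 e fun ρ hρ => ?_)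
    have hirr : ActsIrreducibly (matrixSet ρ.range) := by rw [hρ]; exact hC.absIrred.1
    obtain ⟨g₀, v₀, hne⟩ : ∃ (g₀ : alternatingGroup (Fin 9)) (v₀ : ι → F), repOf ρ g₀ v₀ ≠ v₀ := by
      by_contra hcon
      push Not at hcon
      apply hC.nonabelian
      have h1 : ∀ g : P, g = 1 := by
        rintro ⟨g, hg⟩
        apply Subtype.ext
        rw [← hρ] at hg
        obtain ⟨x, rfl⟩ := hg
        apply Units.ext
        ext i j
        have h3 := congrFun (hcon x (Pi.single j 1)) i
        rw [repOf_apply, Matrix.mulVec_single_one] at h3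
        show (ρ x : Matrix ι ι F) i j = (1 : Matrix ι ι F) i j
        rw [show (ρ x : Matrix ι ι F) i j = (ρ x : Matrix ι ι F).col j i from rfl, h3, Matrix.one_apply, Pi.single_apply]
      exact ⟨⟨fun a b => by
        induction a using QuotientGroup.induction_on with
        | H a =>
          induction b using QuotientGroup.induction_on with
          | H b => rw [h1 a, h1 b]⟩⟩
    have h3 : ((3 : ℕ) : F) ≠ 0 := by
      have : ((3 : ℕ) : F) = 1 := by push_cast; linear_combination h2
      rw [this]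
      exact one_ne_zero
    rcases Cfsg.Agent.H614.AMod.nine (ρ := repOf ρ) (by rw [Fintype.card_fin]) h3 (by
      rw [Module.finrank_fintype_fun_eq_card, h8]; norm_num) (repOf_irr ρ hirr) hne with h | ⟨-, h⟩
    · exact Or.inl h
    · right
      intro t ht v hv
      obtain ⟨e', rfl⟩ := exists_ex t ht
      exact h e' v (by rw [repOf_apply]; exact hv)
  · right
    exact ⟨⟨e⟩, hC.card_eq 2 (Main.alt_sd_fr hC 2 e (by norm_num) (by omega) (by norm_num)).2⟩
  · exfalso
    rcases Main.alt_cases hC 2 e (by norm_num) (by omega) (by norm_num) with h | h | h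
    · have := h.dim hC (by norm_num) 2
      omega
    · have := h.m9
      omega
    · omega

end Cfsg.Agent.H919.Q2
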