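import Cfsg.Agent.H464.L2StageOne
import Cfsg.Agent.H919.QuadTwo

/-!
# The field of definition of the half-dimensional modules of `PSL₂(q)`, cross characteristic (helper919)

`half_fr` : `n = (q ± 1) / 2`, `p^k` a square in `K` ⟹ `Fr P (p^k)`; `l17_two` : `q = 17`, `n = 8`, `p = 2` ⟹ `|F| = 2`.
-/

set_option autoImplicit false
set_option linter.unusedSectionVars false

open Cfsg Cfsg.Geo Matrix

namespace Cfsg.Agent.H919.Q2

open Cfsg.Agent.H464.Sl2 Cfsg.Agent.H915.LD

universe u v

variable {ι : Type} [Fintype ι] [DecidableEq ι] {F : Type u} [Field F] {P : Subgroup (GL ι F)}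

theorem half_fr [Finite F] (p : ℕ) [hp : Fact p.Prime] [CharP F p] (hC : Core P) {K : Type v} [Field K] [Fintype K]
    (h5 : 5 ≤ Fintype.card K) (h9 : Fintype.card K ≠ 9) (hodd : Fintype.card K % 2 = 1) (hpK : ¬ p ∣ Fintype.card K)
    (e : Soc P ≃* ProjectiveSpecialLinearGroup (Fin 2) K)
    (hn : Fintype.card ι = (Fintype.card K - 1) / 2 ∨ Fintype.card ι = (Fintype.card K + 1) / 2) {k : ℕ}
    (hsq : IsSquare ((p : K) ^ k)) : Fr P (p ^ k) := by
  obtain ⟨ρ, ρ', hρ, htr, h1, h2⟩ := l2_rep_fin hC h5 h9 e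
  obtain ⟨hK, -⟩ := card_coprime (F := F) (K := K) p hpK
  have hchar : ringChar K ≠ 2 := by
    intro h6
    have h7 := FiniteField.even_card_iff_char_two.1 h6
    omega
  intro g hg
  rw [← hρ] at hg
  obtain ⟨x, rfl⟩ := hg
  rw [← htr]
  exact (weil_frob (p := p) ρ' hK h5 hchar (by omega) h1 h2 k).1 hsq x

/-- `PSL₂(17)` in dimension eight, characteristic two: the field has two elements. -/
theorem l17_two [Fintype F] [CharP F 2] (hC : Core P) (h8 : Fintype.card ι = 8) {K : Type v} [Field K] [Fintype K]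
    (hK : Fintype.card K = 17) (e : Soc P ≃* ProjectiveSpecialLinearGroup (Fin 2) K) : Fintype.card F = 2 := by
  have hp2 : Fact (Nat.Prime 2) := ⟨Nat.prime_two⟩
  apply hC.card_eq 2
  have h := half_fr (k := 1) 2 hC (by omega) (by omega) (by omega) (by omega) e (by left; omega) ?_
  · rwa [pow_one] at h
  · refine ⟨6, ?_⟩
    have h17 : ((17 : ℕ) : K) = 0 := by rw [← hK, Nat.cast_card_eq_zero]
    have h36 : (6 : K) * 6 = 17 + 17 + 2 := by norm_num
    have h17' : (17 : K) = 0 := by exact_mod_cast h17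
    rw [pow_one, h36, h17']
    norm_num

end Cfsg.Agent.H919.Q2
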