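import Cfsg.Agent.H919.TwoOwn
import Cfsg.Agent.H919.TwoAlt
import Cfsg.Agent.H919.TwoL17
import Cfsg.Agent.H936.List12c
import Cfsg.Agent.H936.U33Two
import Cfsg.Agent.H464.L2StageOne
import Cfsg.Agent.H175.LD.Core33
import Cfsg.Agent.H871.Par3
import Cfsg.Agent.H871.Par7
import Cfsg.Agent.H4.JT.Two
import Cfsg.Agent.H95.JT.Core
import Cfsg.Agent.H878.Sz.MainThree
import Cfsg.Agent.H659.J1Not11

/-!
# Dimension eight, characteristic two (helper919)

`two_row` : `Core P`, `FixA P`, `¬ FixQ P`, `|ι| = 8`, `char F = 2`, `Soc P` a known simple group ⟹ `Soc P ≅ PSL₂(17)` or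
`Soc P ≅ A₁₀`, and `|F| = 2`, or `P` is conjugate to `Sp₈(F)`.
-/

set_option autoImplicit false
set_option linter.unusedSectionVars false

open Cfsg Cfsg.Geo Matrix

namespace Cfsg.Agent.H919.TwoRow

open Cfsg.Agent.H915.LD Cfsg.Agent.H936.List12

universe u

variable {F : Type u} [Field F] [Fintype F] [hF2 : CharP F 2] {ι : Type} [Fintype ι] [DecidableEq ι]
  {P : Subgroup (GL ι F)}

/-- `11:5` -/
theorem no_frob {T : Type} [Group T] (hC : Core P) (hsd : SD P) (h8 : Fintype.card ι = 8) (e : Nonempty (Soc P ≃* T))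
    (h : H871.Par.Frob11 T) : False := by
  obtain ⟨e⟩ := e
  have h2 : (2 : F) = 0 := CharTwo.two_eq_zero
  have h11 : (11 : F) ≠ 0 := by
    rw [show (11 : F) = 1 + 2 * 5 by norm_num, h2, zero_mul, add_zero]
    exact one_ne_zero
  have := (H871.Par.pd_of_sd hC hsd e).of_frob11 h11 h
  omega

theorem no_spor (hC : Core P) (hsd : SD P) (h8 : Fintype.card ι = 8) (h : SporC (Soc P)) : False := by
  have h2 : (2 : F) = 0 := CharTwo.two_eq_zero
  have hp : Fact (Nat.Prime 2) := ⟨Nat.prime_two⟩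
  rcases h with h | h | h | h | h | h | h | h | h
  · exact no_frob hC hsd h8 h H871.Par.frob11_M11
  · exact no_frob hC hsd h8 h H871.Par.frob11_M12
  · exact no_frob hC hsd h8 h H871.Par.frob11_M22
  · exact no_frob hC hsd h8 h H871.Par.frob11_M23
  · exact no_frob hC hsd h8 h H871.Par.frob11_M24
  · exact H659.J1.not_core hC h 2 (by norm_num) (by omega)
  · obtain ⟨f⟩ : Nonempty (ι ≃ Fin 8) := ⟨Fintype.equivFinOfCardEq h8⟩
    have hC' := H912.Rx.core_re f hC
    have h' : Spor.IsoJ2 P := by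
      obtain ⟨e⟩ := h
      exact ⟨(Q2.eqSoc (Q2.scal_bot h2 hC (k := 3) h8)).trans e⟩
    have h3 := H4.JT.j2_two_eight_irr h' (Or.inr rfl) ((H464.Sl2.reGL f).toMonoidHom.comp P.subtype)
    apply h3
    rw [MonoidHom.range_comp, Subgroup.range_subtype]
    exact hC'.absIrred.1
  · have := (H95.JT.j3 2 hC h (by omega)).2.1
    omega
  · obtain ⟨e⟩ := h
    have := (H878.Sz.core_Suz hC e (by omega) 2 (by norm_num)).1
    omega

theorem lie_two (hC : Core P) (h8 : Fintype.card ι = 8) (hL : ¬ IsLieTypeChar 2 (Soc P)) (h : LieC 2 8 (Soc P)) :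
    Nonempty (Soc P ≃* ProjectiveSpecialLinearGroup (Fin 2) (ZMod 17)) ∧ Fintype.card F = 2 := by
  have hp : Fact (Nat.Prime 2) := ⟨Nat.prime_two⟩
  have h17p : Fact (Nat.Prime 17) := ⟨by norm_num⟩
  rcases h with ⟨q, hq, h1, h2, h3⟩ | ⟨-, -, h⟩ | ⟨-, -, h⟩ | ⟨h, -⟩ | ⟨h, -⟩ | ⟨h, -⟩ | ⟨-, h, -⟩ | ⟨h, -⟩ | ⟨h, -⟩
  · have h3' := h3
    obtain ⟨K, iK, iKf, hK, ⟨e⟩⟩ := h3
    have h9 : Fintype.card K ≠ 9 := by
      rw [hK]
      rintro rfl
      revert hq
      decide
    have h5 : 5 ≤ Fintype.card K := by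
      rw [hK]
      simp only [Finset.mem_insert, Finset.mem_singleton] at hq
      omega
    have hdeg := H464.Sl2.l2_degrees 2 hC h5 h9 (by rwa [hK]) e (by omega)
    rw [hK, h8] at hdeg
    rcases hdeg with h | h | h | h | h | h | h | h | h
    · rw [h.1] at hq
      exact absurd hq (by decide)
    · rw [h.1] at h3'
      exact absurd (lie_of_isL (m := 3) (q := 2) Nat.prime_two (dvd_refl 2) (by norm_num) (by norm_num)
        (l32_of_l27 h3')) hL
    · exact absurd h.1 (by rintro rfl; exact h1 (by norm_num))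
    · exact absurd h.2 (by decide)
    · exact absurd h.2 (by decide)
    · have hK17 : Fintype.card K = 17 := by rw [hK]; exact h.1
      refine ⟨⟨e.trans (LieClassical.FieldTransfer.pslCongr (ZMod.ringEquivOfPrime K (by norm_num) hK17)).symm⟩, ?_⟩
      exact Q2.l17_two hC h8 hK17 e
    · exact absurd h.2 (by decide)
    · exact absurd h.2 (by decide)
    · exact absurd h.2 (by decide)
  · obtain ⟨K, iK, iKf, hK, ⟨e⟩⟩ := h
    obtain ⟨-, -, -, h⟩ := H175.L33.l33 hC 2 (by norm_num) hK e (by omega)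
    omega
  · obtain ⟨K, iK, iKf, hK, e⟩ := h
    have := (H936.U33Two.u33_two hC (by rw [hK]; norm_num) e (by omega)).1
    omega
  · exact absurd rfl h
  · exact absurd rfl h
  · exact absurd rfl h
  · omega
  · exact absurd rfl h
  · exact absurd rfl h

/-- **`n = 8`, `p = 2`.** -/
theorem two_row (hC : Core P) (hA : FixA P) (h8 : Fintype.card ι = 8) (hk : IsKnownSimple' (Soc P)) :
    FixQ P ∨ (Nonempty (Soc P ≃* ProjectiveSpecialLinearGroup (Fin 2) (ZMod 17)) ∧ Fintype.card F = 2) ∨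
      (Nonempty (Soc P ≃* alternatingGroup (Fin 10)) ∧ Fintype.card F = 2) ∨ H925.Nat.CjOf (spGL 4 F) P := by
  have hp : Fact (Nat.Prime 2) := ⟨Nat.prime_two⟩
  have hsd := FixA.sd hA
  by_cases hL : IsLieTypeChar 2 (Soc P)
  · rcases own_two hC hA h8 hL with h | h
    · exact Or.inl h
    · exact Or.inr (Or.inr (Or.inr h))
  · have h := H936.List12.list (p := 2) (by omega) hC hk hL
    rw [h8] at h
    rcases h with h | h | h | h | h
    · rcases Q2.two_alt hC hA h8 hL h with h | h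
      · exact Or.inl h
      · exact Or.inr (Or.inr (Or.inl h))
    · exact Or.inr (Or.inl (lie_two hC h8 hL h))
    · rcases h with ⟨h, -⟩ | ⟨-, h, -⟩
      · exact absurd rfl h
      · exact absurd h (by norm_num)
    · exact absurd rfl h.1
    · exact (no_spor hC hsd h8 h).elim

end Cfsg.Agent.H919.TwoRow
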