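import Cfsg.Agent.H919.AschWreath

/-!
# Output structures of piece (C) of the Aschbacher core (helper919)
-/

set_option autoImplicit false
set_option linter.unusedSectionVars false

namespace Cfsg.Agent.H919

open Cfsg Cfsg.Geo
open scoped MatrixGroups Matrix Kronecker

variable {ι : Type} [Fintype ι] [DecidableEq ι] {F : Type*} [Field F]

/-- All the fields of `IsResidualCore H P` except `no_subfield`. -/
structure CoreNS (H P : Subgroup (GL ι F)) : Prop where
  le : P ≤ H
  normal : ∀ h ∈ H, ∀ x ∈ P, h * x * h⁻¹ ∈ P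
  perfect : ⁅P, P⁆ = P
  simple : IsSimpleGroup (P ⧸ (scalars ι F).subgroupOf P)
  nonabelian : ¬ IsMulCommutative (P ⧸ (scalars ι F).subgroupOf P)
  centralizer_scalar : ∀ h ∈ H, (∀ x ∈ P, h * x * h⁻¹ * x⁻¹ ∈ scalars ι F) → h ∈ scalars ι F
  absIrred : ActsAbsolutelyIrreducibly (matrixSet P)

lemma CoreNS.isResidualCore {H P : Subgroup (GL ι F)} (h : CoreNS H P)
    (hsub : ∀ F₀ : Subfield F, F₀ ≠ ⊤ → ¬ RealisableOver F₀ (matrixSet P)) : IsResidualCore H P :=
  ⟨h.le, h.normal, h.perfect, h.simple, h.nonabelian, h.centralizer_scalar, h.absIrred, hsub⟩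

/-- Tensor power data: `H` permutes the pairwise commuting perfect subgroups `E i` transitively, the
enveloping algebra of `E i` is the `i`-th slot of the tensor power frame `(e, P)`, and `H` lies in the
corresponding tensor-wreath subgroup. -/
structure WreathData (H : Subgroup (GL ι F)) (m t : ℕ) (e : ι ≃ (Fin t → Fin m)) (P : GL ι F)
    (E : Fin t → Subgroup (GL ι F)) : Prop where
  two_le_m : 2 ≤ m
  two_le_t : 2 ≤ t
  le : ∀ i, E i ≤ H
  perfect : ∀ i, ⁅E i, E i⁆ = E i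
  not_scalar : ∀ i, ¬ E i ≤ scalars ι F
  comm : ∀ i j, i ≠ j → ∀ x ∈ E i, ∀ y ∈ E j, x * y = y * x
  env_iff : ∀ i, ∀ X : Matrix ι ι F, X ∈ Algebra.adjoin F (matrixSet (E i)) ↔
    ∃ x : Matrix (Fin m) (Fin m) F, X = frameMat e P (slotMat i x)
  permuted : ∀ h ∈ H, ∃ σ : Equiv.Perm (Fin t), ∀ i, (E i).map (MulAut.conj h).toMonoidHom = E (σ i)
  transitive : ∀ i j, ∃ h ∈ H, (E i).map (MulAut.conj h).toMonoidHom = E j
  wreath : H ≤ tensorWreathSubgroup m t e P

end Cfsg.Agent.H919
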