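import Cfsg.Agent.H919.AschSplit

/-!
# Forms on tensor power decompositions (helper919)

`C_wreath_form`: if `H` preserves a `(σ, ε)`-hermitian form and has `WreathData`, the frame can be changed
so that the form becomes a multiple of the tensor power of one form on the factor.
-/

set_option autoImplicit false
set_option linter.unusedSectionVars false

namespace Cfsg.Agent.H919

open Cfsg Cfsg.Geo
open scoped MatrixGroups Matrix Kronecker commutatorElement

section Bil

variable {κ : Type*} [Fintype κ] [DecidableEq κ] {F : Type*} [Field F]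

/-- The sesquilinear form with Gram matrix `G`. -/
def sesq (σ : F ≃+* F) (G : Matrix κ κ F) (x y : κ → F) : F := x ⬝ᵥ (G *ᵥ (fun b => σ (y b)))

lemma sesq_single (σ : F ≃+* F) (G : Matrix κ κ F) (a b : κ) :
    sesq σ G (Pi.single a 1) (Pi.single b 1) = G a b := by
  have h1 : (fun c => σ ((Pi.single b (1 : F) : κ → F) c)) = Pi.single b 1 := by
    funext c
    by_cases h : c = b
    · subst h; simp
    · simp [Pi.single_eq_of_ne h]
  rw [sesq, h1]
  simp

lemma sesq_eq_sum (σ : F ≃+* F) (G : Matrix κ κ F) (x y : κ → F) :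
    sesq σ G x y = ∑ a, ∑ b, x a * G a b * σ (y b) := by
  simp only [sesq, dotProduct, Matrix.mulVec, Finset.mul_sum, mul_assoc]

lemma map_mulVec' (σ : F ≃+* F) (S : Matrix κ κ F) (y : κ → F) :
    (fun b => σ ((S *ᵥ y) b)) = (S.map σ) *ᵥ (fun b => σ (y b)) := by
  funext b
  simp [Matrix.mulVec, dotProduct, map_sum]

lemma sesq_mulVec (σ : F ≃+* F) (G S T : Matrix κ κ F) (x y : κ → F) :
    sesq σ G (S *ᵥ x) (T *ᵥ y) = sesq σ (Sᵀ * G * T.map σ) x y := by
  rw [sesq, sesq, map_mulVec', Matrix.mulVec_mulVec]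
  rw [← Matrix.vecMul_transpose, ← Matrix.dotProduct_mulVec, Matrix.mulVec_mulVec, mul_assoc]

lemma sesq_injective (σ : F ≃+* F) {G G' : Matrix κ κ F} (h : ∀ x y, sesq σ G x y = sesq σ G' x y) :
    G = G' := by
  ext a b
  rw [← sesq_single σ G a b, h, sesq_single]

lemma sesq_smul (σ : F ≃+* F) (c : F) (G : Matrix κ κ F) (x y : κ → F) :
    sesq σ (c • G) x y = c * sesq σ G x y := by
  rw [sesq, Matrix.smul_mulVec, dotProduct_smul, smul_eq_mul, sesq]

end Bil

section Invariant

variable {κ : Type*} [Fintype κ] [DecidableEq κ] {F : Type*} [Field F]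

/-- `G` is invariant under the set `S` of matrices. -/
def Inv (σ : F ≃+* F) (S : Set (Matrix κ κ F)) (G : Matrix κ κ F) : Prop :=
  ∀ s ∈ S, sᵀ * G * s.map σ = G

end Invariant

section Unique

variable {κ : Type} [Fintype κ] [DecidableEq κ] {F : Type*} [Field F]

/-- The image under `σ` of a set of matrices spanning the algebra spans the algebra. -/
lemma commute_map_scalar {σ : F ≃+* F} {S : Set (Matrix κ κ F)} (hS : Algebra.adjoin F S = ⊤)
    {M : Matrix κ κ F} (h : ∀ s ∈ S, M * s.map σ = s.map σ * M) : ∃ c : F, M = c • 1 := by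
  -- transport by σ⁻¹
  have h1 : ∀ s ∈ S, M.map σ.symm * s = s * M.map σ.symm := by
    intro s hs
    have := congrArg (fun Z : Matrix κ κ F => Z.map σ.symm) (h s hs)
    simp only [Matrix.map_mul] at this
    have h2 : (s.map σ).map σ.symm = s := by
      ext a b; simp
    rw [h2] at this
    exact this
  obtain ⟨c, hc⟩ := (absIrr_of_adjoin_eq_top hS).2 _ h1
  refine ⟨σ c, ?_⟩
  have h3 := congrArg (fun Z : Matrix κ κ F => Z.map σ) hc
  have h4 : (M.map σ.symm).map σ = M := by
    ext a b; simp
  simp only [h4] at h3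
  rw [h3]
  ext a b
  simp [Matrix.one_apply, apply_ite σ]

/-- An invariant matrix of an absolutely irreducible set of invertible matrices is zero or invertible. -/
lemma isUnit_of_inv {σ : F ≃+* F} {S : Set (Matrix κ κ F)} (hS : Algebra.adjoin F S = ⊤)
    (hSu : ∀ s ∈ S, IsUnit s)
    {G : Matrix κ κ F} (hG : Inv σ S G) (hG0 : G ≠ 0) : IsUnit G := by
  classical
  -- the kernel of G, twisted by σ, is invariant
  let W : Submodule F (κ → F) :=
    { carrier := {y | G *ᵥ (fun b => σ (y b)) = 0}
      add_mem' := by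
        intro a b ha hb
        simp only [Set.mem_setOf_eq] at *
        have : (fun k => σ ((a + b) k)) = (fun k => σ (a k)) + (fun k => σ (b k)) := by
          funext k; simp
        rw [this, Matrix.mulVec_add, ha, hb, add_zero]
      zero_mem' := by
        simp only [Set.mem_setOf_eq]
        have : (fun k => σ ((0 : κ → F) k)) = 0 := by funext k; simp
        rw [this, Matrix.mulVec_zero]
      smul_mem' := by
        intro c a ha
        simp only [Set.mem_setOf_eq] at *
        have : (fun k => σ ((c • a) k)) = σ c • (fun k => σ (a k)) := by funext k; simp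
        rw [this, Matrix.mulVec_smul, ha, smul_zero] }
  have hW : ∀ s ∈ S, W.map (Matrix.toLin' s) ≤ W := by
    rintro s hs _ ⟨y, hy, rfl⟩
    change G *ᵥ (fun b => σ ((Matrix.toLin' s y) b)) = 0
    have hy' : G *ᵥ (fun b => σ (y b)) = 0 := hy
    rw [Matrix.toLin'_apply, map_mulVec', Matrix.mulVec_mulVec]
    -- s^T (G s^σ) = G
    have h1 := hG s hs
    obtain ⟨u, hu⟩ := hSu s hs
    have h2 : G * s.map σ = ((u⁻¹ : (Matrix κ κ F)ˣ) : Matrix κ κ F)ᵀ * G := by
      have h3 : ((u⁻¹ : (Matrix κ κ F)ˣ) : Matrix κ κ F)ᵀ * sᵀ = 1 := by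
        rw [← Matrix.transpose_mul, ← hu, Units.mul_inv, Matrix.transpose_one]
      calc G * s.map σ = (((u⁻¹ : (Matrix κ κ F)ˣ) : Matrix κ κ F)ᵀ * sᵀ) * (G * s.map σ) := by
            rw [h3, one_mul]
        _ = ((u⁻¹ : (Matrix κ κ F)ˣ) : Matrix κ κ F)ᵀ * (sᵀ * G * s.map σ) := by
            simp only [mul_assoc]
        _ = _ := by rw [h1]
    rw [h2, ← Matrix.mulVec_mulVec, hy', Matrix.mulVec_zero]
  rcases (absIrr_of_adjoin_eq_top hS).1 W hW with h0 | h1
  · rw [← Matrix.mulVec_injective_iff_isUnit]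
    intro x y hxy
    have h2 : (fun k => σ.symm ((x - y) k)) ∈ W := by
      change G *ᵥ (fun b => σ (σ.symm ((x - y) b))) = 0
      have : (fun b => σ (σ.symm ((x - y) b))) = x - y := by funext k; simp
      rw [this, Matrix.mulVec_sub]
      exact sub_eq_zero.2 hxy
    rw [h0, Submodule.mem_bot] at h2
    funext k
    have := congrFun h2 k
    simp only [Pi.zero_apply, map_eq_zero_iff σ.symm σ.symm.injective, Pi.sub_apply] at this
    exact sub_eq_zero.1 this
  · exfalso
    apply hG0
    ext a b
    have h2 : (Pi.single b (1 : F) : κ → F) ∈ W := by rw [h1]; trivial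
    have h3 : G *ᵥ (fun k => σ ((Pi.single b (1 : F) : κ → F) k)) = 0 := h2
    have h4 : (fun c => σ ((Pi.single b (1 : F) : κ → F) c)) = Pi.single b 1 := by
      funext c
      by_cases h : c = b
      · subst h; simp
      · simp [Pi.single_eq_of_ne h]
    rw [h4] at h3
    have := congrFun h3 a
    simpa using this

/-- Uniqueness up to scalars of invariant forms. -/
lemma inv_unique {σ : F ≃+* F} {S : Set (Matrix κ κ F)} (hS : Algebra.adjoin F S = ⊤)
    (hSu : ∀ s ∈ S, IsUnit s)
    {G G₀ : Matrix κ κ F} (hG : Inv σ S G) (hG₀ : Inv σ S G₀) (h0 : IsUnit G₀) :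
    ∃ c : F, G = c • G₀ := by
  obtain ⟨u, hu⟩ := h0
  have hcomm : ∀ s ∈ S, ((u⁻¹ : (Matrix κ κ F)ˣ) : Matrix κ κ F) * G * s.map σ
      = s.map σ * (((u⁻¹ : (Matrix κ κ F)ˣ) : Matrix κ κ F) * G) := by
    intro s hs
    have h1 := hG s hs
    have h2 := hG₀ s hs
    obtain ⟨v, hv⟩ := hSu s hs
    have h3 : sᵀ * (((v⁻¹ : (Matrix κ κ F)ˣ) : Matrix κ κ F))ᵀ = 1 := by
      rw [← Matrix.transpose_mul, ← hv, Units.inv_mul, Matrix.transpose_one]
    have h3' : (((v⁻¹ : (Matrix κ κ F)ˣ) : Matrix κ κ F))ᵀ * sᵀ = 1 := by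
      rw [← Matrix.transpose_mul, ← hv, Units.mul_inv, Matrix.transpose_one]
    -- G s^σ = s^{-T} G and G₀ s^σ = s^{-T} G₀
    have h4 : G * s.map σ = (((v⁻¹ : (Matrix κ κ F)ˣ) : Matrix κ κ F))ᵀ * G := by
      calc G * s.map σ = ((((v⁻¹ : (Matrix κ κ F)ˣ) : Matrix κ κ F))ᵀ * sᵀ) * (G * s.map σ) := by
            rw [h3', one_mul]
        _ = (((v⁻¹ : (Matrix κ κ F)ˣ) : Matrix κ κ F))ᵀ * (sᵀ * G * s.map σ) := by
            simp only [mul_assoc]
        _ = _ := by rw [h1]
    have h5 : G₀ * s.map σ = (((v⁻¹ : (Matrix κ κ F)ˣ) : Matrix κ κ F))ᵀ * G₀ := by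
      calc G₀ * s.map σ = ((((v⁻¹ : (Matrix κ κ F)ˣ) : Matrix κ κ F))ᵀ * sᵀ) * (G₀ * s.map σ) := by
            rw [h3', one_mul]
        _ = (((v⁻¹ : (Matrix κ κ F)ˣ) : Matrix κ κ F))ᵀ * (sᵀ * G₀ * s.map σ) := by
            simp only [mul_assoc]
        _ = _ := by rw [h2]
    -- u⁻¹ s^{-T} = s^σ u⁻¹
    have h6 : ((u⁻¹ : (Matrix κ κ F)ˣ) : Matrix κ κ F) * (((v⁻¹ : (Matrix κ κ F)ˣ) : Matrix κ κ F))ᵀ
        = s.map σ * ((u⁻¹ : (Matrix κ κ F)ˣ) : Matrix κ κ F) := by
      rw [← hu] at h5
      have := congrArg (fun Z => ((u⁻¹ : (Matrix κ κ F)ˣ) : Matrix κ κ F) * Z *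
        ((u⁻¹ : (Matrix κ κ F)ˣ) : Matrix κ κ F)) h5
      simp only [mul_assoc, Units.mul_inv, mul_one, Units.inv_mul_cancel_left] at this
      exact this.symm
    rw [mul_assoc, h4, ← mul_assoc, h6, mul_assoc]
  obtain ⟨c, hc⟩ := commute_map_scalar hS hcomm
  refine ⟨c, ?_⟩
  have : G = (u : Matrix κ κ F) * (((u⁻¹ : (Matrix κ κ F)ˣ) : Matrix κ κ F) * G) := by
    rw [Units.mul_inv_cancel_left]
  rw [this, hc, Matrix.mul_smul, mul_one, hu]

end Unique

section Slots

variable {t m : ℕ} {F : Type*} [Field F]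

lemma slotMat_transpose (i : Fin t) (a : Matrix (Fin m) (Fin m) F) :
    (slotMat i a)ᵀ = slotMat i aᵀ := by
  ext c d
  simp only [Matrix.transpose_apply, slotMat, pureMat_apply]
  apply Finset.prod_congr rfl
  intro j _
  by_cases h : j = i
  · subst h; simp
  · simp [Function.update_of_ne h, Matrix.one_apply, eq_comm]

lemma pureMat_map (σ : F ≃+* F) (x : Fin t → Matrix (Fin m) (Fin m) F) :
    (pureMat x).map σ = pureMat (fun i => (x i).map σ) := by
  ext c d
  simp [Matrix.map_apply, pureMat_apply, map_prod]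

lemma pureMat_transpose (x : Fin t → Matrix (Fin m) (Fin m) F) :
    (pureMat x)ᵀ = pureMat (fun i => (x i)ᵀ) := by
  ext c d
  simp [Matrix.transpose_apply, pureMat_apply]

lemma slotMat_map (σ : F ≃+* F) (i : Fin t) (a : Matrix (Fin m) (Fin m) F) :
    (slotMat i a).map σ = slotMat i (a.map σ) := by
  rw [slotMat, pureMat_map, slotMat]
  congr 1
  funext j
  by_cases h : j = i
  · subst h; simp
  · simp [Function.update_of_ne h]

lemma slotMat_mul_pureMat (i : Fin t) (a b : Matrix (Fin m) (Fin m) F)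
    (x : Fin t → Matrix (Fin m) (Fin m) F) :
    slotMat i a * pureMat x * slotMat i b = pureMat (Function.update x i (a * x i * b)) := by
  rw [slotMat, slotMat, pureMat_mul, pureMat_mul]
  congr 1
  funext j
  by_cases h : j = i
  · subst h; simp
  · simp [Function.update_of_ne h]

lemma slotMat_apply_eq (i : Fin t) (a : Matrix (Fin m) (Fin m) F) (c w : Fin t → Fin m) :
    slotMat i a c w = if c = Function.update w i (c i) then a (c i) (w i) else 0 := by
  rw [slotMat, pureMat_apply]
  by_cases h : c = Function.update w i (c i)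
  · rw [if_pos h, ← Finset.mul_prod_erase _ _ (Finset.mem_univ i), Function.update_self]
    have : ∏ j ∈ Finset.univ.erase i, (Function.update (fun _ : Fin t => (1 : Matrix (Fin m) (Fin m) F)) i a j) (c j) (w j) = 1 := by
      apply Finset.prod_eq_one
      intro j hj
      have hji := Finset.ne_of_mem_erase hj
      rw [Function.update_of_ne hji]
      have : c j = w j := by
        conv_lhs => rw [h]
        rw [Function.update_of_ne hji]
      rw [this, Matrix.one_apply_eq]
    rw [this, mul_one]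
  · rw [if_neg h]
    obtain ⟨j, hj⟩ : ∃ j, c j ≠ Function.update w i (c i) j := by
      by_contra hcon
      push Not at hcon
      exact h (funext hcon)
    have hji : j ≠ i := by
      rintro rfl
      exact hj (by simp)
    apply Finset.prod_eq_zero (Finset.mem_univ j)
    rw [Function.update_of_ne hji]
    rw [Function.update_of_ne hji] at hj
    exact Matrix.one_apply_ne hj

lemma sum_slotMat_mul (i : Fin t) (a : Matrix (Fin m) (Fin m) F) (w : Fin t → Fin m)
    (f : (Fin t → Fin m) → F) :
    ∑ c, slotMat i a c w * f c = ∑ p, a p (w i) * f (Function.update w i p) := by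
  classical
  have hinj : Function.Injective (fun p : Fin m => Function.update w i p) := Function.update_injective w i
  have h1 : ∀ c, slotMat i a c w * f c = if c ∈ Finset.univ.image (fun p : Fin m => Function.update w i p)
      then a (c i) (w i) * f c else 0 := by
    intro c
    rw [slotMat_apply_eq]
    by_cases h : c = Function.update w i (c i)
    · rw [if_pos h, if_pos (Finset.mem_image.2 ⟨c i, Finset.mem_univ _, h.symm⟩)]
    · rw [if_neg h, zero_mul, if_neg]
      rw [Finset.mem_image]
      rintro ⟨p, _, hp⟩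
      apply h
      subst hp
      simp
  rw [Finset.sum_congr rfl (fun c _ => h1 c), Finset.sum_ite_mem, Finset.univ_inter,
    Finset.sum_image (fun p _ q _ hpq => hinj hpq)]
  simp

/-- The slots generate the full matrix algebra. -/
lemma adjoin_slots (S : Fin t → Set (Matrix (Fin m) (Fin m) F)) (hS : ∀ i, Algebra.adjoin F (S i) = ⊤) :
    Algebra.adjoin F (⋃ i, slotMat i '' S i) = (⊤ : Subalgebra F (Matrix (Fin t → Fin m) (Fin t → Fin m) F)) := by
  set T := Algebra.adjoin F (⋃ i, slotMat i '' S i) with hT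
  have h1 : ∀ i x, slotMat i x ∈ T := by
    intro i x
    have h2 : (Algebra.adjoin F (S i)).map (slotEmb i) ≤ T := by
      rw [AlgHom.map_adjoin]
      apply Algebra.adjoin_mono
      rintro _ ⟨s, hs, rfl⟩
      exact Set.mem_iUnion.2 ⟨i, s, hs, rfl⟩
    apply h2
    rw [hS i]
    exact ⟨x, trivial, rfl⟩
  have h3 : ∀ x : Fin t → Matrix (Fin m) (Fin m) F, pureMat x ∈ T := by
    intro x
    rw [pureMat_eq_prod]
    apply Subalgebra.list_prod_mem
    intro y hy
    rw [List.mem_ofFn] at hy
    obtain ⟨i, rfl⟩ := hy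
    exact h1 i _
  rw [eq_top_iff]
  intro X _
  rw [Matrix.matrix_eq_sum_single X]
  apply Subalgebra.sum_mem
  intro a _
  apply Subalgebra.sum_mem
  intro b _
  have h2 : pureMat (fun i => Matrix.single (a i) (b i) (1 : F)) = Matrix.single a b 1 := by
    ext c d
    rw [pureMat_apply, Matrix.single_apply]
    by_cases h : a = c ∧ b = d
    · obtain ⟨rfl, rfl⟩ := h
      simp
    · rw [if_neg h]
      have : ∃ i, ¬ (a i = c i ∧ b i = d i) := by
        by_contra hcon
        push Not at hcon
        exact h ⟨funext fun i => (hcon i).1, funext fun i => (hcon i).2⟩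
      obtain ⟨i, hi⟩ := this
      apply Finset.prod_eq_zero (Finset.mem_univ i)
      rw [Matrix.single_apply, if_neg hi]
  have h4 : Matrix.single a b (X a b) = X a b • Matrix.single a b (1 : F) := by
    rw [Matrix.smul_single, smul_eq_mul, mul_one]
  rw [h4, ← h2]
  exact T.smul_mem (h3 _) _

/-- A matrix invariant under irreducible sets in all the slots is a multiple of a pure tensor of
invariant matrices. -/
theorem inv_slots (σ : F ≃+* F) (S : Fin t → Set (Matrix (Fin m) (Fin m) F))
    (hS : ∀ i, Algebra.adjoin F (S i) = ⊤) (hSu : ∀ i, ∀ s ∈ S i, IsUnit s)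
    (G : Matrix (Fin t → Fin m) (Fin t → Fin m) F) (hG0 : G ≠ 0)
    (hG : ∀ i, ∀ s ∈ S i, (slotMat i s)ᵀ * G * (slotMat i s).map σ = G) :
    ∃ (c : F) (B : Fin t → Matrix (Fin m) (Fin m) F), c ≠ 0 ∧ (∀ i, Inv σ (S i) (B i)) ∧ (∀ i, IsUnit (B i)) ∧
      G = c • pureMat B := by
  classical
  obtain ⟨u, v, huv⟩ : ∃ u v, G u v ≠ 0 := by
    by_contra hcon
    push Not at hcon
    exact hG0 (by ext a b; exact hcon a b)
  let B : Fin t → Matrix (Fin m) (Fin m) F := fun i p q => G (Function.update u i p) (Function.update v i q)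
  have hBinv : ∀ i, Inv σ (S i) (B i) := by
    intro i s hs
    ext p q
    have h1 := congrFun (congrFun (hG i s hs) (Function.update u i p)) (Function.update v i q)
    have h2 : B i p q = G (Function.update u i p) (Function.update v i q) := rfl
    rw [h2, ← h1]
    -- expand both sides
    rw [Matrix.mul_apply, Matrix.mul_apply]
    have h3 : ∀ d, ((slotMat i s)ᵀ * G) (Function.update u i p) d = ∑ p', s p' p * G (Function.update u i p') d := by
      intro d
      rw [Matrix.mul_apply]
      simp only [Matrix.transpose_apply]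
      rw [sum_slotMat_mul i s (Function.update u i p) (fun c => G c d)]
      simp
    have h4 : ∀ q', (sᵀ * B i) p q' = ∑ p', s p' p * G (Function.update u i p') (Function.update v i q') := by
      intro q'
      rw [Matrix.mul_apply]
      rfl
    have h5 : ∑ j, ((slotMat i s)ᵀ * G) (Function.update u i p) j * (slotMat i s).map σ j (Function.update v i q)
        = ∑ j, slotMat i (s.map σ) j (Function.update v i q) * ((slotMat i s)ᵀ * G) (Function.update u i p) j := by
      rw [slotMat_map]
      apply Finset.sum_congr rfl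
      intro j _
      ring
    rw [h5, sum_slotMat_mul]
    simp only [Function.update_self, Function.update_idem, h3, h4, Matrix.map_apply]
    apply Finset.sum_congr rfl
    intro j _
    ring
  have hB0 : ∀ i, B i ≠ 0 := by
    intro i h0
    have := congrFun (congrFun h0 (u i)) (v i)
    simp only [B, Function.update_eq_self, Matrix.zero_apply] at this
    exact huv this
  have hBu : ∀ i, IsUnit (B i) := fun i => isUnit_of_inv (hS i) (hSu i) (hBinv i) (hB0 i)
  -- uniqueness on the tensor power
  set T : Set (Matrix (Fin t → Fin m) (Fin t → Fin m) F) := ⋃ i, slotMat i '' S i with hT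
  have hTadj : Algebra.adjoin F T = ⊤ := adjoin_slots S hS
  have hTu : ∀ s ∈ T, IsUnit s := by
    intro s hs
    obtain ⟨i, a, ha, rfl⟩ := Set.mem_iUnion.1 hs
    exact (hSu i a ha).map (slotEmb (F := F) (m := m) i)
  have hGinv : Inv σ T G := by
    intro s hs
    obtain ⟨i, a, ha, rfl⟩ := Set.mem_iUnion.1 hs
    exact hG i a ha
  have hPinv : Inv σ T (pureMat B) := by
    intro s hs
    obtain ⟨i, a, ha, rfl⟩ := Set.mem_iUnion.1 hs
    rw [slotMat_transpose, slotMat_map, slotMat_mul_pureMat, hBinv i a ha, Function.update_eq_self]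
  have hPu : IsUnit (pureMat B) := by
    choose b hb using hBu
    have : pureMat B = (pureGL b : Matrix _ _ F) := by
      rw [pureGL_val]
      congr 1
      funext i
      exact (hb i).symm
    rw [this]
    exact Units.isUnit _
  obtain ⟨c, hc⟩ := inv_unique hTadj hTu hGinv hPinv hPu
  refine ⟨c, B, ?_, hBinv, hBu, hc⟩
  rintro rfl
  exact hG0 (by rw [hc, zero_smul])

end Slots

end Cfsg.Agent.H919
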