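import Cfsg.Agent.H919.QuadTwo

/-!
# Alternating groups in characteristic two: invariant quadratic forms (helper919)

* `exists_of_rep` : version of `exists_of_commuting` for a representation `ρ : T →* GL(ι, F)`;
* `alt_fpf` : `T = A_m`, `m ≥ 9`, 3-cycles without fixed vectors (spin modules);
* `alt_nat` : vectors `v_1, …, v_m` spanning, sum zero, permuted (natural modules, `m` odd).
-/

set_option autoImplicit false
set_option linter.unusedSectionVars false

open Cfsg Cfsg.Geo Matrix Equiv Equiv.Perm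

namespace Cfsg.Agent.H919.Q2

universe u

variable {ι : Type} [Fintype ι] [DecidableEq ι] {F : Type u} [Field F]
variable {f : (ι → F) → (ι → F) → F} {P K : Subgroup (GL ι F)}

/-- a representation whose image is linked by commuting elements of odd order without fixed vectors -/
theorem exists_of_rep (h2 : (2 : F) = 0) (hf : IsSymplecticForm f) {G : Type*} [Group G] (ρ : G →* GL ι F)
    (hρ : InvB ρ.range f) (T : Set G) (hT : T.Nonempty) (hodd : ∀ t ∈ T, Odd (orderOf t))
    (hfpf : ∀ t ∈ T, ∀ v, (ρ t : Matrix ι ι F) *ᵥ v = v → v = 0)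
    (hlink : ∀ s ∈ T, ∀ t ∈ T, Relation.ReflTransGen (fun a b => b ∈ T ∧ Commute a b) s t)
    (hgen : Subgroup.closure {g : G | ∃ t ∈ T, g * t * g⁻¹ ∈ Subgroup.zpowers t} = ⊤) :
    ∃ Q, QP f Q ∧ Inv ρ.range Q := by
  refine exists_of_commuting h2 hf hρ (ρ '' T) (hT.image _) ?_ ?_ ?_ ?_ ?_
  · rintro _ ⟨t, -, rfl⟩
    exact ⟨t, rfl⟩
  · rintro _ ⟨t, ht, rfl⟩
    exact Odd.of_dvd_nat (hodd t ht) (orderOf_map_dvd ρ t)
  · rintro _ ⟨t, ht, rfl⟩
    exact hfpf t ht
  · rintro _ ⟨s, hs, rfl⟩ _ ⟨t, ht, rfl⟩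
    have h3 := hlink s hs t ht
    clear ht
    induction h3 with
    | refl => exact Relation.ReflTransGen.refl
    | tail _ hstep ih => exact Relation.ReflTransGen.tail ih ⟨⟨_, hstep.1, rfl⟩, hstep.2.map ρ⟩
  · rintro _ ⟨g, rfl⟩
    have h3 : g ∈ Subgroup.closure {g : G | ∃ t ∈ T, g * t * g⁻¹ ∈ Subgroup.zpowers t} := by rw [hgen]; trivial
    have h4 : ρ g ∈ (Subgroup.closure {g : G | ∃ t ∈ T, g * t * g⁻¹ ∈ Subgroup.zpowers t}).map ρ := ⟨g, h3, rfl⟩
    rw [MonoidHom.map_closure] at h4
    refine Subgroup.closure_mono ?_ h4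
    rintro _ ⟨g, ⟨t, ht, n, hn⟩, rfl⟩
    refine ⟨⟨g, rfl⟩, ρ t, ⟨t, ht, rfl⟩, n, ?_⟩
    show ρ t ^ n = ρ g * ρ t * (ρ g)⁻¹
    rw [← map_zpow, ← map_inv, ← map_mul, ← map_mul, ← hn]

/-- **spin modules of `A_m`** -/
theorem alt_fpf (h2 : (2 : F) = 0) (hf : IsSymplecticForm f) {m : ℕ} (hm : 9 ≤ m)
    (ρ : alternatingGroup (Fin m) →* GL ι F) (hρ : InvB ρ.range f)
    (hfpf : ∀ t : alternatingGroup (Fin m), (t : Perm (Fin m)).IsThreeCycle →
      ∀ v, (ρ t : Matrix ι ι F) *ᵥ v = v → v = 0) :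
    ∃ Q, QP f Q ∧ Inv ρ.range Q := by
  classical
  have hth : ∀ s : Finset (Fin m), s.card ≤ 6 → ∃ t : alternatingGroup (Fin m), (t : Perm (Fin m)).IsThreeCycle ∧
      Disjoint (t : Perm (Fin m)).support s := by
    intro s hs
    have h3 : 3 ≤ (sᶜ).card := by
      rw [Finset.card_compl, Fintype.card_fin]; omega
    obtain ⟨u, hu, hu3⟩ := Finset.exists_subset_card_eq h3
    obtain ⟨a, b, c, hab, hac, hbc, rfl⟩ := Finset.card_eq_three.mp hu3
    have ht : (swap a b * swap a c).IsThreeCycle := isThreeCycle_swap_mul_swap_same hab hac hbc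
    refine ⟨⟨swap a b * swap a c, ht.mem_alternatingGroup⟩, ht, ?_⟩
    rw [Finset.disjoint_left]
    intro x hx hxs
    have h4 : x ∈ ({a, b, c} : Finset (Fin m)) := by
      by_contra hcon
      simp only [Finset.mem_insert, Finset.mem_singleton, not_or] at hcon
      rw [Equiv.Perm.mem_support] at hx
      apply hx
      show swap a b (swap a c x) = x
      rw [swap_apply_of_ne_of_ne hcon.1 hcon.2.2, swap_apply_of_ne_of_ne hcon.1 hcon.2.1]
    exact (Finset.mem_compl.mp (hu h4)) hxs
  have hcomm : ∀ s t : alternatingGroup (Fin m), Disjoint (s : Perm (Fin m)).support (t : Perm (Fin m)).support →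
      Commute s t := by
    intro s t h
    have h3 : Equiv.Perm.Disjoint (s : Perm (Fin m)) (t : Perm (Fin m)) := disjoint_iff_disjoint_support.mpr h
    exact Subtype.ext h3.commute.eq
  refine exists_of_rep h2 hf ρ hρ {t | (t : Perm (Fin m)).IsThreeCycle} ?_ ?_ (fun t ht => hfpf t ht) ?_ ?_
  · obtain ⟨t, ht, -⟩ := hth ∅ (by simp)
    exact ⟨t, ht⟩
  · intro t ht
    have h3 : orderOf t = 3 := by
      rw [← Subgroup.orderOf_coe]
      exact Equiv.Perm.IsThreeCycle.orderOf ht
    rw [h3]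
    decide
  · intro s hs t ht
    have h3 : ((s : Perm (Fin m)).support ∪ (t : Perm (Fin m)).support).card ≤ 6 := by
      refine (Finset.card_union_le _ _).trans ?_
      rw [Equiv.Perm.IsThreeCycle.card_support hs, Equiv.Perm.IsThreeCycle.card_support ht]
    obtain ⟨r, hr, hd⟩ := hth _ h3
    rw [Finset.disjoint_union_right] at hd
    refine Relation.ReflTransGen.tail (Relation.ReflTransGen.single ⟨hr, ?_⟩) ⟨ht, ?_⟩
    · exact hcomm _ _ hd.1.symm
    · exact hcomm _ _ hd.2
  · rw [eq_top_iff]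
    have h5 : 5 ≤ Fintype.card (Fin m) := by rw [Fintype.card_fin]; omega
    have h3 := Equiv.Perm.closure_three_cycles_eq_alternating (α := Fin m)
    rintro ⟨g, hg⟩ -
    rw [← h3] at hg
    have h4 : g ∈ (Subgroup.closure {g : alternatingGroup (Fin m) | ∃ t ∈ {t : alternatingGroup (Fin m) |
        (t : Perm (Fin m)).IsThreeCycle}, g * t * g⁻¹ ∈ Subgroup.zpowers t}).map (alternatingGroup (Fin m)).subtype := by
      rw [MonoidHom.map_closure]
      refine Subgroup.closure_mono ?_ hg
      intro t ht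
      refine ⟨⟨t, ht.mem_alternatingGroup⟩, ⟨⟨t, ht.mem_alternatingGroup⟩, ht, ?_⟩, rfl⟩
      rw [mul_inv_cancel_right]
      exact Subgroup.mem_zpowers _
    obtain ⟨x, hx, hxg⟩ := h4
    have h5 : x = ⟨g, h3 ▸ hg⟩ := Subtype.ext hxg
    rw [← h5]
    exact hx

lemma qp_sum_const (hf : IsSymplecticForm f) {Q : (ι → F) → F} (hQ : QP f Q) {κ : Type*} (w : κ → (ι → F)) {c d : F}
    (hc : ∀ i j, i ≠ j → f (w i) (w j) = c) (hd : ∀ i, Q (w i) = d) (s : Finset κ) :
    Q (∑ i ∈ s, w i) = (s.card : F) * d + (s.card.choose 2 : F) * c := by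
  classical
  induction s using Finset.induction_on with
  | empty => simp [hQ.zero]
  | insert a s ha ih =>
    have h3 : ∀ s' : Finset κ, a ∉ s' → f (w a) (∑ i ∈ s', w i) = (s'.card : F) * c := by
      intro s' hs'
      induction s' using Finset.induction_on with
      | empty =>
        have := hf.bilinear.smul_right 0 (w a) 0
        simpa using this
      | insert b s' hb ih' =>
        rw [Finset.sum_insert hb, hf.bilinear.add_right, ih' (fun h => hs' (Finset.mem_insert_of_mem h)),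
          hc a b (fun h => hs' (by rw [h]; exact Finset.mem_insert_self _ _)), Finset.card_insert_of_notMem hb]
        push_cast
        ring
    rw [Finset.sum_insert ha, hQ.add, hd, ih, h3 s ha, Finset.card_insert_of_notMem ha, Nat.choose_succ_succ' s.card 1,
      Nat.choose_one_right]
    push_cast
    ring

/-- **natural modules**: `m` odd -/
theorem alt_nat (h2 : (2 : F) = 0) (hf : IsSymplecticForm f) (hP : InvB P f) {m : ℕ} (hm : Odd m)
    (hcard : Fintype.card ι + 1 = m) (v : Fin m → (ι → F)) (hspan : Submodule.span F (Set.range v) = ⊤)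
    (hsum : ∑ i, v i = 0) {c : F} (hc : ∀ i j, i ≠ j → f (v i) (v j) = c)
    (hperm : ∀ g ∈ P, ∀ i, ∃ j, (g : Matrix ι ι F) *ᵥ (v i) = v j) : ∃ Q, QP f Q ∧ Inv P Q := by
  classical
  obtain ⟨n, rfl⟩ : ∃ n, m = n + 1 := ⟨Fintype.card ι, hcard.symm⟩
  have hn : Fintype.card ι = n := by omega
  have hneven : Even n := by
    rw [Nat.odd_add_one, Nat.not_odd_iff_even] at hm
    exact hm
  -- the last vector
  have hlast : v (Fin.last n) = ∑ i : Fin n, (-1 : F) • v i.castSucc := by
    rw [Fin.sum_univ_castSucc] at hsum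
    have h3 : v (Fin.last n) = - ∑ i : Fin n, v i.castSucc := by
      rw [eq_neg_iff_add_eq_zero, add_comm]; exact hsum
    rw [h3, ← Finset.smul_sum, neg_one_smul]
  have hspan' : ⊤ ≤ Submodule.span F (Set.range fun i : Fin n => v i.castSucc) := by
    rw [← hspan, Submodule.span_le]
    rintro _ ⟨i, rfl⟩
    induction i using Fin.lastCases with
    | last =>
      rw [hlast]
      exact Submodule.sum_mem _ fun i _ => Submodule.smul_mem _ _ (Submodule.subset_span ⟨i, rfl⟩)
    | cast i => exact Submodule.subset_span ⟨i, rfl⟩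
  have hli : LinearIndependent F (fun i : Fin n => v i.castSucc) :=
    linearIndependent_of_top_le_span_of_card_eq_finrank hspan' (by
      rw [Module.finrank_fintype_fun_eq_card, hn, Fintype.card_fin])
  let b : Module.Basis (Fin n) F (ι → F) := Module.Basis.mk hli hspan'
  have hb : ∀ i, b i = v i.castSucc := fun i => by simp [b]
  obtain ⟨Q, hQ, hQb⟩ := exists_qp_basis h2 hf b (fun _ => (n.choose 2 : F) * c)
  have hQv : ∀ i, Q (v i) = (n.choose 2 : F) * c := by
    intro i
    induction i using Fin.lastCases with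
    | cast i => rw [← hb]; exact hQb i
    | last =>
      rw [hlast, ← Finset.smul_sum, hQ.smul, neg_one_sq, one_mul,
        qp_sum_const hf hQ (fun i : Fin n => v i.castSucc) (c := c) (d := (n.choose 2 : F) * c)
          (fun i j hij => hc _ _ (fun h => hij (Fin.castSucc_injective n h))) (fun i => by rw [← hb]; exact hQb i),
        Finset.card_univ, Fintype.card_fin]
      obtain ⟨k, hk⟩ := hneven
      have h3 : (n : F) = 0 := by
        rw [hk]; push_cast; linear_combination (k : F) * h2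
      rw [h3]
      ring
  refine ⟨Q, hQ, ?_⟩
  intro g hg x
  have h3 : (fun x => Q ((g : Matrix ι ι F) *ᵥ x)) = Q := by
    apply qp_ext_span (hQ.comp (hP g hg)) hQ hspan
    rintro _ ⟨i, rfl⟩
    obtain ⟨j, hj⟩ := hperm g hg i
    show Q ((g : Matrix ι ι F) *ᵥ v i) = Q (v i)
    rw [hj, hQv, hQv]
  exact congrFun h3 x

end Cfsg.Agent.H919.Q2
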