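import Cfsg.Agent.H919.AschDefs

/-!
# Enveloping algebras normalised by irreducible groups (helper919)
-/

set_option autoImplicit false
set_option linter.unusedSectionVars false

namespace Cfsg.Agent.H919

open Cfsg Cfsg.Geo
open scoped MatrixGroups Matrix Kronecker

section Semisimple

variable {ι : Type} [Fintype ι] [DecidableEq ι] {F : Type*} [Field F]

/-- Conjugation by a normalising element, as a ring automorphism of the subalgebra. -/
noncomputable def conjRingEquiv (A : Subalgebra F (Matrix ι ι F)) (g : GL ι F)
    (hg : g ∈ subalgebraNormalizer A) : A ≃+* A where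
  toFun a := ⟨(g : Matrix ι ι F) * a * ((g⁻¹ : GL ι F) : Matrix ι ι F), (hg a).1 a.2⟩
  invFun a := ⟨((g⁻¹ : GL ι F) : Matrix ι ι F) * a * (g : Matrix ι ι F), by
    rw [hg]
    simp [mul_assoc]⟩
  left_inv a := by
    apply Subtype.ext
    simp [mul_assoc]
  right_inv a := by
    apply Subtype.ext
    simp [mul_assoc]
  map_mul' a b := by
    apply Subtype.ext
    simp [mul_assoc]
  map_add' a b := by
    apply Subtype.ext
    simp [mul_add, add_mul]

/-- A subalgebra of the matrix algebra normalised by an irreducible group is a semisimple ring. -/
theorem isSemisimpleRing_of_normalised (H : Subgroup (GL ι F)) (hirr : ActsIrreducibly (matrixSet H))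
    (A : Subalgebra F (Matrix ι ι F)) (hA : H ≤ subalgebraNormalizer A) : IsSemisimpleRing A := by
  classical
  have hsm : ∀ (a : A) (v : ι → F), a • v = (a : Matrix ι ι F) *ᵥ v := fun a v => rfl
  have : Module.Finite A (ι → F) := Module.Finite.of_restrictScalars_finite F A (ι → F)
  have : IsNoetherian A (ι → F) := isNoetherian_of_tower F inferInstance
  have : IsArtinian A (ι → F) := isArtinian_of_tower F inferInstance
  have hss : IsSemisimpleModule A (ι → F) := by
    rw [← sSup_simples_eq_top_iff_isSemisimpleModule]
    set S : Submodule A (ι → F) := sSup {m : Submodule A (ι → F) | IsSimpleModule A m} with hS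
    -- S is invariant under every element of H
    have hinv : ∀ g ∈ H, ∀ v ∈ S, (g : Matrix ι ι F) *ᵥ v ∈ S := by
      intro g hg v hv
      have hgA := hA hg
      let τ := conjRingEquiv A g hgA
      let _ : RingHomInvPair (τ : A →+* A) (τ.symm : A →+* A) := RingHomInvPair.of_ringEquiv τ
      let _ : RingHomInvPair (τ.symm : A →+* A) (τ : A →+* A) := RingHomInvPair.symm _ _
      let φ : (ι → F) ≃ₛₗ[(τ : A →+* A)] (ι → F) :=
        { toFun := fun v => (g : Matrix ι ι F) *ᵥ v
          invFun := fun v => ((g⁻¹ : GL ι F) : Matrix ι ι F) *ᵥ v
          left_inv := fun v => by simp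
          right_inv := fun v => by simp
          map_add' := fun u v => by simp [Matrix.mulVec_add]
          map_smul' := fun a v => by
            rw [hsm, hsm]
            simp only [Matrix.mulVec_mulVec]
            congr 1
            simp [τ, conjRingEquiv, mul_assoc] }
      have hmap : S.map φ.toLinearMap = S := by
        have h1 := (Submodule.orderIsoMapComap φ).map_sSup {m : Submodule A (ι → F) | IsSimpleModule A m}
        have h2 : S.map φ.toLinearMap = (Submodule.orderIsoMapComap φ) S := rfl
        rw [h2, hS, h1, ← sSup_image]
        apply congrArg sSup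
        ext m
        simp only [Set.mem_image, Set.mem_setOf_eq]
        constructor
        · rintro ⟨m', hm', rfl⟩
          rw [isSimpleModule_iff_isAtom] at hm' ⊢
          exact (OrderIso.isAtom_iff (Submodule.orderIsoMapComap φ) m').2 hm'
        · intro hm
          refine ⟨(Submodule.orderIsoMapComap φ).symm m, ?_, OrderIso.apply_symm_apply _ _⟩
          rw [isSimpleModule_iff_isAtom] at hm ⊢
          exact (OrderIso.isAtom_iff (Submodule.orderIsoMapComap φ).symm m).2 hm
      have : φ.toLinearMap v ∈ S.map φ.toLinearMap := Submodule.mem_map_of_mem hv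
      rw [hmap] at this
      exact this
    -- as an F-subspace it is zero or everything
    let SF : Submodule F (ι → F) :=
      { carrier := S
        add_mem' := fun ha hb => S.add_mem ha hb
        zero_mem' := S.zero_mem
        smul_mem' := fun c v hv => by
          have : (algebraMap F A c) • v ∈ S := S.smul_mem _ hv
          rw [algebraMap_smul] at this
          exact this }
    have hSF : ∀ v, v ∈ SF ↔ v ∈ S := fun v => Iff.rfl
    rcases hirr SF (by
      rintro s ⟨g, hg, rfl⟩
      rintro _ ⟨v, hv, rfl⟩
      exact hinv g hg v hv) with h0 | h1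
    · -- S = ⊥ : then the module is trivial
      have hS0 : S = ⊥ := by
        rw [eq_bot_iff]
        intro v hv
        have : v ∈ SF := hv
        rw [h0] at this
        exact (Submodule.mem_bot F).1 this ▸ Submodule.zero_mem _
      by_contra hne
      have hnt : Nontrivial (ι → F) := by
        by_contra hnt
        rw [not_nontrivial_iff_subsingleton] at hnt
        exact hne (Subsingleton.elim _ _)
      obtain ⟨m, hm⟩ : ∃ m : Submodule A (ι → F), IsAtom m := IsAtomic.exists_atom _
      have hm' : IsSimpleModule A m := isSimpleModule_iff_isAtom.2 hm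
      have : m ≤ S := le_sSup hm'
      rw [hS0, le_bot_iff] at this
      exact hm.1 this
    · rw [eq_top_iff]
      intro v _
      have : v ∈ SF := by rw [h1]; trivial
      exact this
  -- embed A into (ι → F)^ι
  let ψ : A →ₗ[A] (ι → (ι → F)) :=
    { toFun := fun a j => a • (Pi.single j (1 : F) : ι → F)
      map_add' := fun a b => by funext j; simp [add_smul]
      map_smul' := fun a b => by funext j; simp [mul_smul] }
  have hψ : Function.Injective ψ := by
    intro a b hab
    apply Subtype.ext
    ext i j
    have h := congrFun (congrFun hab j) i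
    simp only [ψ, LinearMap.coe_mk, AddHom.coe_mk, hsm] at h
    simpa using h
  exact IsSemisimpleModule.of_injective ψ hψ

end Semisimple

end Cfsg.Agent.H919
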