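import Mathlib

/-!
# Linear maps of 2 × 2 matrices multiplying the determinant by a constant (helper919)

`det_preserver`: such a map is `X ↦ A X B` or `X ↦ A Xᵀ B` with `A`, `B` invertible.
-/

set_option autoImplicit false
set_option linter.unusedSectionVars false
set_option linter.unusedVariables false

namespace Cfsg.Agent.H919

open scoped Matrix

variable {F : Type*} [Field F]

local notation "M2" => Matrix (Fin 2) (Fin 2) F

lemma mat2_decomp (X : Matrix (Fin 2) (Fin 2) F) :
    X = X 0 0 • (!![1, 0; 0, 0] : Matrix (Fin 2) (Fin 2) F) + X 0 1 • !![0, 1; 0, 0]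
      + X 1 0 • !![0, 0; 1, 0] + X 1 1 • !![0, 0; 0, 1] := by
  ext i j
  fin_cases i <;> fin_cases j <;> simp

/-- A linear map fixing `1`, `E₁₂`, `E₂₁` and preserving the determinant. -/
lemma det_preserver_aux {T : M2 →ₗ[F] M2} (hdet : ∀ X, (T X).det = X.det) (h1 : T 1 = 1)
    (h12 : T !![0, 1; 0, 0] = !![0, 1; 0, 0]) (h21 : T !![0, 0; 1, 0] = !![0, 0; 1, 0]) :
    (∀ X, T X = X) ∨ (∀ X, T X = !![0, 1; 1, 0] * Xᵀ * !![0, 1; 1, 0]) := by
  set L := T !![1, 0; 0, 0] with hL
  have h22 : T !![0, 0; 0, 1] = 1 - L := by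
    have h2 : (!![0, 0; 0, 1] : M2) = 1 - !![1, 0; 0, 0] := by
      ext i j; fin_cases i <;> fin_cases j <;> simp
    rw [h2, map_sub, h1]
  have hd : L.det = 0 := by rw [hL, hdet]; simp
  have hd1 : (L + !![0, 1; 0, 0]).det = 0 := by
    rw [hL, ← h12, ← map_add, hdet]; simp
  have hd2 : (L + !![0, 0; 1, 0]).det = 0 := by
    rw [hL, ← h21, ← map_add, hdet]; simp
  have hd3 : (L - 1).det = 0 := by
    rw [hL, ← h1, ← map_sub, hdet]
    simp [Matrix.det_fin_two]
  simp only [Matrix.det_fin_two, Matrix.add_apply, Matrix.sub_apply, Matrix.of_apply, Matrix.cons_val',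
    Matrix.cons_val_zero, Matrix.cons_val_one, Matrix.one_apply_eq, Matrix.cons_val_fin_one, add_zero, zero_add,
    ne_eq, zero_ne_one, not_false_eq_true, Matrix.one_apply_ne, one_ne_zero, sub_zero] at hd hd1 hd2 hd3
  have hr : L 1 0 = 0 := by linear_combination hd - hd1
  have hq : L 0 1 = 0 := by linear_combination hd - hd2
  rw [hr, hq] at hd hd3
  have hps : L 0 0 * L 1 1 = 0 := by linear_combination hd
  have htr : L 0 0 + L 1 1 = 1 := by linear_combination hd - hd3
  rcases mul_eq_zero.1 hps with h | h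
  · right
    have h11 : L 1 1 = 1 := by rw [h, zero_add] at htr; exact htr
    have hLe : L = !![0, 0; 0, 1] := by
      ext i j; fin_cases i <;> fin_cases j <;> simp [h, h11, hr, hq]
    intro X
    conv_lhs => rw [mat2_decomp X]
    rw [map_add, map_add, map_add, map_smul, map_smul, map_smul, map_smul, h12, h21, h22, ← hL, hLe]
    ext i j
    fin_cases i <;> fin_cases j <;> simp [Matrix.mul_apply, Fin.sum_univ_two, Matrix.vecMul, dotProduct]
  · left
    have h11 : L 0 0 = 1 := by rw [h, add_zero] at htr; exact htr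
    have hLe : L = !![1, 0; 0, 0] := by
      ext i j; fin_cases i <;> fin_cases j <;> simp [h, h11, hr, hq]
    intro X
    conv_lhs => rw [mat2_decomp X]
    rw [map_add, map_add, map_add, map_smul, map_smul, map_smul, map_smul, h12, h21, h22, ← hL, hLe]
    ext i j
    fin_cases i <;> fin_cases j <;> simp

/-- The linear map `X ↦ A X B`. -/
def sandwich (A B : M2) : M2 →ₗ[F] M2 :=
  (LinearMap.mulLeft F A).comp (LinearMap.mulRight F B)

lemma sandwich_apply (A B X : M2) : sandwich A B X = A * (X * B) := rfl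

/-- **Frobenius**: a linear map of `M₂(F)` multiplying the determinant by a non-zero constant is
`X ↦ A X B` or `X ↦ A Xᵀ B`. -/
theorem det_preserver {T : M2 →ₗ[F] M2} {μ : F} (hμ : μ ≠ 0) (hdet : ∀ X, (T X).det = μ * X.det) :
    ∃ A B : (M2)ˣ, (∀ X, T X = (A : M2) * X * (B : M2)) ∨ (∀ X, T X = (A : M2) * Xᵀ * (B : M2)) := by
  -- step 1: fix the identity
  have hC : IsUnit (T 1) := by
    rw [Matrix.isUnit_iff_isUnit_det, hdet, Matrix.det_one, mul_one]
    exact hμ.isUnit
  obtain ⟨C, hC⟩ := hC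
  set T₁ : M2 →ₗ[F] M2 := (LinearMap.mulLeft F ((C⁻¹ : (M2)ˣ) : M2)).comp T with hT₁
  have hT₁a : ∀ X, T₁ X = ((C⁻¹ : (M2)ˣ) : M2) * T X := fun X => rfl
  have hCdet : ((C⁻¹ : (M2)ˣ) : M2).det * μ = 1 := by
    have h1 : ((C⁻¹ : (M2)ˣ) : M2) * (C : M2) = 1 := Units.inv_mul C
    have h2 := congrArg Matrix.det h1
    rw [Matrix.det_mul, hC, hdet, Matrix.det_one, mul_one] at h2
    exact h2
  have hT₁det : ∀ X, (T₁ X).det = X.det := by
    intro X
    rw [hT₁a, Matrix.det_mul, hdet, ← mul_assoc, hCdet, one_mul]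
  have hT₁1 : T₁ 1 = 1 := by rw [hT₁a, ← hC, Units.inv_mul]
  have hinj₁ : ∀ X, T₁ X = 0 → X = 0 := by
    intro X hX
    have hdX : ∀ Y, (X + Y).det = Y.det := by
      intro Y
      rw [← hT₁det, map_add, hX, zero_add, hT₁det]
    have e0 := hdX 0
    have e1 := hdX !![1, 0; 0, 0]
    have e2 := hdX !![0, 1; 0, 0]
    have e3 := hdX !![0, 0; 1, 0]
    have e4 := hdX !![0, 0; 0, 1]
    simp only [Matrix.det_fin_two, Matrix.add_apply, Matrix.of_apply, Matrix.cons_val',
      Matrix.cons_val_zero, Matrix.cons_val_one, Matrix.cons_val_fin_one, add_zero, zero_add,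
      Matrix.zero_apply, mul_zero, zero_mul, sub_zero, mul_one, one_mul] at e0 e1 e2 e3 e4
    ext i j
    fin_cases i <;> fin_cases j <;> simp only [Fin.zero_eta, Fin.mk_one, Fin.isValue, Matrix.zero_apply]
    · linear_combination e4 - e0
    · linear_combination e0 - e3
    · linear_combination e0 - e2
    · linear_combination e1 - e0
  -- step 2: fix E₁₂
  set N := T₁ !![0, 1; 0, 0] with hN
  have hN0 : N ≠ 0 := by
    intro h
    have h3 := hinj₁ _ h
    have := congrFun (congrFun h3 0) 1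
    simp at this
  have hNdet : N.det = 0 := by rw [hN, hT₁det]; simp
  have hNtr : (N + 1).det = 1 := by
    rw [hN, ← hT₁1, ← map_add, hT₁det]; simp [Matrix.det_fin_two]
  simp only [Matrix.det_fin_two, Matrix.add_apply, Matrix.one_apply_eq, ne_eq, zero_ne_one, not_false_eq_true,
    Matrix.one_apply_ne, one_ne_zero, add_zero] at hNdet hNtr
  have htr : N 1 1 = - N 0 0 := by linear_combination hNtr - hNdet
  have hNN : N * N = 0 := by
    ext i j
    fin_cases i <;> fin_cases j <;> simp [Matrix.mul_apply, Fin.sum_univ_two, htr] <;>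
      first
        | (rw [htr] at hNdet; linear_combination -hNdet)
        | ring
  obtain ⟨w, hw⟩ : ∃ w : Fin 2 → F, N *ᵥ w ≠ 0 := by
    by_contra hcon
    push Not at hcon
    apply hN0
    ext i j
    have := congrFun (hcon (Pi.single j 1)) i
    simpa using this
  set n := N *ᵥ w with hn
  have hNn : N *ᵥ n = 0 := by rw [hn, Matrix.mulVec_mulVec, hNN, Matrix.zero_mulVec]
  set A₀ : M2 := !![n 0, w 0; n 1, w 1] with hA₀
  have hA₀det : A₀.det ≠ 0 := by
    intro h0
    rw [hA₀, Matrix.det_fin_two_of] at h0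
    apply hw
    have hex : ∃ c : F, w = c • n := by
      by_cases hn0 : n 0 = 0
      · have hn1 : n 1 ≠ 0 := by
          intro h1
          apply hw
          funext i
          fin_cases i
          · exact hn0
          · exact h1
        refine ⟨w 1 / n 1, ?_⟩
        funext i
        fin_cases i
        · simp only [Fin.zero_eta, Pi.smul_apply, smul_eq_mul, hn0, mul_zero]
          rw [hn0, zero_mul, zero_sub, neg_eq_zero] at h0
          exact (mul_eq_zero.1 h0).resolve_right hn1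
        · simp only [Fin.mk_one, Pi.smul_apply, smul_eq_mul]
          field_simp
      · refine ⟨w 0 / n 0, ?_⟩
        funext i
        fin_cases i
        · simp only [Fin.zero_eta, Pi.smul_apply, smul_eq_mul]
          field_simp
        · simp only [Fin.mk_one, Pi.smul_apply, smul_eq_mul]
          field_simp
          linear_combination h0
    obtain ⟨c, hc⟩ := hex
    have h3 : n = N *ᵥ w := hn
    rw [hc, Matrix.mulVec_smul, hNn, smul_zero] at h3
    exact h3
  have hA₀u : IsUnit A₀ := (Matrix.isUnit_iff_isUnit_det _).2 hA₀det.isUnit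
  obtain ⟨A, hA⟩ := hA₀u
  have hNA : N * (A : M2) = (A : M2) * !![0, 1; 0, 0] := by
    rw [hA, hA₀]
    have e0 := congrFun hNn 0
    have e1 := congrFun hNn 1
    have e2 := congrFun hn 0
    have e3 := congrFun hn 1
    simp only [Matrix.mulVec, dotProduct, Fin.sum_univ_two, Pi.zero_apply] at e0 e1 e2 e3
    ext i j
    fin_cases i <;> fin_cases j <;>
      simp only [Matrix.mul_apply, Fin.sum_univ_two, Matrix.of_apply, Matrix.cons_val', Matrix.cons_val_zero,
        Matrix.cons_val_one, Matrix.cons_val_fin_one, Fin.zero_eta, Fin.mk_one, Fin.isValue, mul_zero, mul_one,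
        add_zero, zero_add]
    · exact e0
    · exact e2.symm
    · exact e1
    · exact e3.symm
  set T₂ : M2 →ₗ[F] M2 := (sandwich ((A⁻¹ : (M2)ˣ) : M2) (A : M2)).comp T₁ with hT₂
  have hT₂a : ∀ X, T₂ X = ((A⁻¹ : (M2)ˣ) : M2) * (T₁ X * (A : M2)) := fun X => rfl
  have hT₂det : ∀ X, (T₂ X).det = X.det := by
    intro X
    rw [hT₂a, Matrix.det_mul, Matrix.det_mul, hT₁det]
    have h3 : ((A⁻¹ : (M2)ˣ) : M2).det * (A : M2).det = 1 := by
      rw [← Matrix.det_mul, Units.inv_mul, Matrix.det_one]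
    linear_combination X.det * h3
  have hT₂1 : T₂ 1 = 1 := by rw [hT₂a, hT₁1, one_mul, Units.inv_mul]
  have hT₂12 : T₂ !![0, 1; 0, 0] = !![0, 1; 0, 0] := by
    rw [hT₂a, ← hN, hNA, ← mul_assoc, Units.inv_mul, one_mul]
  -- step 3: fix E₂₁
  set M := T₂ !![0, 0; 1, 0] with hM
  have hMdet : M.det = 0 := by rw [hM, hT₂det]; simp
  have hMtr : (M + 1).det = 1 := by
    rw [hM, ← hT₂1, ← map_add, hT₂det]; simp [Matrix.det_fin_two]
  have hM12 : (M + !![0, 1; 0, 0]).det = -1 := by
    rw [hM, ← hT₂12, ← map_add, hT₂det]; simp [Matrix.det_fin_two]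
  simp only [Matrix.det_fin_two, Matrix.add_apply, Matrix.one_apply_eq, ne_eq, zero_ne_one, not_false_eq_true,
    Matrix.one_apply_ne, one_ne_zero, add_zero, Matrix.of_apply, Matrix.cons_val', Matrix.cons_val_zero,
    Matrix.cons_val_one, Matrix.cons_val_fin_one] at hMdet hMtr hM12
  have hMtr' : M 1 1 = - M 0 0 := by linear_combination hMtr - hMdet
  have hM10 : M 1 0 = 1 := by linear_combination hMdet - hM12
  have hM01 : M 0 1 = - M 0 0 * M 0 0 := by
    rw [hM10, hMtr'] at hMdet; linear_combination -hMdet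
  let U : (M2)ˣ :=
    { val := !![1, M 0 0; 0, 1]
      inv := !![1, -M 0 0; 0, 1]
      val_inv := by
        ext i j; fin_cases i <;> fin_cases j <;> simp [Matrix.mul_apply, Fin.sum_univ_two]
      inv_val := by
        ext i j; fin_cases i <;> fin_cases j <;> simp [Matrix.mul_apply, Fin.sum_univ_two] }
  have hU : (U : M2) = !![1, M 0 0; 0, 1] := rfl
  have hUi : ((U⁻¹ : (M2)ˣ) : M2) = !![1, -M 0 0; 0, 1] := rfl
  set T₃ : M2 →ₗ[F] M2 := (sandwich ((U⁻¹ : (M2)ˣ) : M2) (U : M2)).comp T₂ with hT₃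
  have hT₃a : ∀ X, T₃ X = ((U⁻¹ : (M2)ˣ) : M2) * (T₂ X * (U : M2)) := fun X => rfl
  have hT₃det : ∀ X, (T₃ X).det = X.det := by
    intro X
    rw [hT₃a, Matrix.det_mul, Matrix.det_mul, hT₂det]
    have h3 : ((U⁻¹ : (M2)ˣ) : M2).det * (U : M2).det = 1 := by
      rw [← Matrix.det_mul, Units.inv_mul, Matrix.det_one]
    linear_combination X.det * h3
  have hT₃1 : T₃ 1 = 1 := by rw [hT₃a, hT₂1, one_mul, Units.inv_mul]
  have hT₃12 : T₃ !![0, 1; 0, 0] = !![0, 1; 0, 0] := by
    rw [hT₃a, hT₂12, hU, hUi]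
    ext i j; fin_cases i <;> fin_cases j <;> simp [Matrix.mul_apply, Fin.sum_univ_two]
  have hT₃21 : T₃ !![0, 0; 1, 0] = !![0, 0; 1, 0] := by
    rw [hT₃a, ← hM, hU, hUi]
    ext i j
    fin_cases i <;> fin_cases j <;>
      simp [Matrix.mul_apply, Fin.sum_univ_two, hM10, hM01, hMtr']
  have hback : ∀ X, T X = ((C * A * U : (M2)ˣ) : M2) * T₃ X * (((A * U)⁻¹ : (M2)ˣ) : M2) := by
    intro X
    rw [hT₃a, hT₂a, hT₁a, mul_inv_rev, Units.val_mul, Units.val_mul, Units.val_mul]
    simp only [mul_assoc, Units.mul_inv_cancel_left, Units.mul_inv, mul_one]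
  rcases det_preserver_aux hT₃det hT₃1 hT₃12 hT₃21 with h | h
  · refine ⟨C * A * U, (A * U)⁻¹, Or.inl fun X => ?_⟩
    rw [hback, h]
  · let K : (M2)ˣ :=
      { val := !![0, 1; 1, 0]
        inv := !![0, 1; 1, 0]
        val_inv := by
          ext i j; fin_cases i <;> fin_cases j <;> simp [Matrix.mul_apply, Fin.sum_univ_two]
        inv_val := by
          ext i j; fin_cases i <;> fin_cases j <;> simp [Matrix.mul_apply, Fin.sum_univ_two] }
    have hK : (K : M2) = !![0, 1; 1, 0] := rfl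
    refine ⟨C * A * U * K, K * (A * U)⁻¹, Or.inr fun X => ?_⟩
    rw [hback, h, Units.val_mul (C * A * U) K, Units.val_mul K, hK]
    simp only [mul_assoc]

end Cfsg.Agent.H919
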