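import Cfsg.Agent.H915.LD

/-!
# Quadratic forms from a Gram matrix over an extension field (helper919)

* `fixQ_of_ext` : `Core P`, `K / F` any field extension, `q : F^ι → K` a `P`-invariant quadratic map with nonzero polar
  form ⟹ `FixQ P`;
* `exists_lin` : a family `v` spanning `V` and a family `w` in `W`, `dim W ≤ dim V`, every relation of `w` is a relation
  of `v` ⟹ there is a linear map `V → W` with `v x ↦ w x`;
* `fixQ_of_family` : `P` permutes (through a group `G`) a spanning family `v` of `K^ι`, `w` a family of singular vectors of a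
  quadratic space `W` of dimension `≤ |ι|` with invariant Gram matrix ⟹ `FixQ P`.
-/

set_option autoImplicit false
set_option linter.unusedSectionVars false

open Cfsg Cfsg.Geo Matrix

namespace Cfsg.Agent.H919.Gram

open Cfsg.Agent.H915.LD

universe u

section ext

variable {ι : Type} [Fintype ι] [DecidableEq ι] {F : Type u} [Field F] {P : Subgroup (GL ι F)}
  {K : Type*} [Field K] [Algebra F K]

/-- **Descent.** -/
theorem fixQ_of_ext (hC : Core P) (q : (ι → F) → K) (B : (ι → F) → (ι → F) → K)
    (hadd : ∀ x y, q (x + y) = q x + q y + B x y) (hBl : ∀ x y z, B (x + y) z = B x z + B y z)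
    (hBs : ∀ (c : F) x y, B (c • x) y = algebraMap F K c * B x y)
    (hsmul : ∀ (c : F) x, q (c • x) = algebraMap F K c ^ 2 * q x)
    (hinv : ∀ g ∈ P, ∀ x, q ((g : Matrix ι ι F) *ᵥ x) = q x) {x₀ y₀ : ι → F} (h0 : B x₀ y₀ ≠ 0) : FixQ P := by
  classical
  obtain ⟨lam, hlam⟩ : ∃ lam : Module.Dual F K, lam (B x₀ y₀) ≠ 0 := by
    by_contra hcon
    push Not at hcon
    exact h0 ((Module.forall_dual_apply_eq_zero_iff F (B x₀ y₀)).1 hcon)
  have hsymm : ∀ x y, B x y = B y x := by
    intro x y
    have h1 := hadd x y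
    have h2 := hadd y x
    rw [add_comm y x, h1] at h2
    have h3 : q x + q y + B x y = q x + q y + B y x := by rw [h2]; ring
    exact add_left_cancel h3
  have hlamsm : ∀ (c : F) (z : K), lam (algebraMap F K c * z) = c * lam z := by
    intro c z
    rw [← Algebra.smul_def, map_smul, smul_eq_mul]
  have hpol : ∀ x y, QuadraticMap.polar (fun v => lam (q v)) x y = lam (B x y) := by
    intro x y
    rw [QuadraticMap.polar, hadd, map_add, map_add]
    ring
  have hBinv : ∀ g ∈ P, ∀ x y, B ((g : Matrix ι ι F) *ᵥ x) ((g : Matrix ι ι F) *ᵥ y) = B x y := by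
    intro g hg x y
    have h1 := hadd x y
    have h2 := hadd ((g : Matrix ι ι F) *ᵥ x) ((g : Matrix ι ι F) *ᵥ y)
    rw [← Matrix.mulVec_add, hinv g hg, hinv g hg, hinv g hg, h1] at h2
    exact (add_left_cancel h2).symm
  -- the radical
  let R : Submodule F (ι → F) :=
    { carrier := {x | ∀ y, lam (B x y) = 0}
      add_mem' := fun {a b} ha hb y => by rw [hBl, map_add, ha y, hb y, add_zero]
      zero_mem' := fun y => by
        have h1 := hBs 0 0 y
        rw [zero_smul, map_zero, zero_mul] at h1
        rw [h1, map_zero]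
      smul_mem' := fun c a ha y => by rw [hBs, hlamsm, ha y, mul_zero] }
  have hR : ∀ x, x ∈ R ↔ ∀ y, lam (B x y) = 0 := fun _ => Iff.rfl
  have hRbot : R = ⊥ := by
    rcases hC.absIrred.1 R (by
      rintro _ ⟨g, hg, rfl⟩ _ ⟨x, hx, rfl⟩
      rw [hR]
      intro y
      have h1 : y = (g : Matrix ι ι F) *ᵥ ((g⁻¹ : GL ι F) : Matrix ι ι F) *ᵥ y := by
        rw [Matrix.mulVec_mulVec, ← Units.val_mul, mul_inv_cancel, Units.val_one, Matrix.one_mulVec]
      rw [h1, Matrix.toLin'_apply, hBinv g hg]
      exact hx _) with h | h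
    · exact h
    · exfalso
      apply hlam
      have : x₀ ∈ R := by rw [h]; trivial
      exact this y₀
  have hnd : ∀ v : ι → F, v ≠ 0 → ∃ x, lam (B v x) ≠ 0 := by
    intro v hv
    by_contra hcon
    push Not at hcon
    apply hv
    have : v ∈ R := hcon
    rwa [hRbot, Submodule.mem_bot] at this
  refine ⟨fun v => lam (q v), ⟨?_, ⟨?_, ?_, ?_, ?_⟩, ?_⟩, ?_⟩
  · intro c v
    show lam (q (c • v)) = c ^ 2 * lam (q v)
    rw [hsmul, ← map_pow, hlamsm]
  · intro x y z
    rw [hpol, hpol, hpol, hBl, map_add]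
  · intro c x y
    rw [hpol, hpol, hBs, hlamsm]
  · intro x y z
    rw [hpol, hpol, hpol, hsymm, hBl, map_add, hsymm x y, hsymm x z]
  · intro c x y
    rw [hpol, hpol, hsymm, hBs, hlamsm, hsymm x y]
  · intro v hv
    obtain ⟨x, hx⟩ := hnd v hv
    exact ⟨⟨x, by rw [hpol, hsymm]; exact hx⟩, ⟨x, by rw [hpol]; exact hx⟩⟩
  · rintro _ ⟨g, hg, rfl⟩ v
    exact congrArg lam (hinv g hg v)

end ext

section lin

variable {K : Type*} [Field K] {V W : Type*} [AddCommGroup V] [Module K V] [AddCommGroup W] [Module K W]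
  [FiniteDimensional K V] [FiniteDimensional K W]

theorem exists_lin {X : Type*} [Fintype X] (v : X → V) (w : X → W) (hv : Submodule.span K (Set.range v) = ⊤)
    (hker : ∀ c : X → K, ∑ x, c x • w x = 0 → ∑ x, c x • v x = 0)
    (hd : Module.finrank K W ≤ Module.finrank K V) : ∃ L : V →ₗ[K] W, ∀ x, L (v x) = w x := by
  classical
  let α : (X → K) →ₗ[K] V := Fintype.linearCombination K v
  let β : (X → K) →ₗ[K] W := Fintype.linearCombination K w
  have hα : ∀ c, α c = ∑ x, c x • v x := fun c => Fintype.linearCombination_apply K v c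
  have hβ : ∀ c, β c = ∑ x, c x • w x := fun c => Fintype.linearCombination_apply K w c
  have hle : LinearMap.ker β ≤ LinearMap.ker α := by
    intro c hc
    rw [LinearMap.mem_ker, hβ] at hc
    rw [LinearMap.mem_ker, hα]
    exact hker c hc
  have hsurj : LinearMap.range α = ⊤ := by
    rw [show LinearMap.range α = Submodule.span K (Set.range v) from Fintype.range_linearCombination K v, hv]
  have h1 := LinearMap.finrank_range_add_finrank_ker α
  have h2 := LinearMap.finrank_range_add_finrank_ker β
  rw [hsurj, finrank_top] at h1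
  have h3 : Module.finrank K (LinearMap.range β) ≤ Module.finrank K W := Submodule.finrank_le _
  have hke : LinearMap.ker β = LinearMap.ker α := Submodule.eq_of_le_of_finrank_le hle (by omega)
  obtain ⟨s, hs⟩ := LinearMap.exists_rightInverse_of_surjective α hsurj
  refine ⟨β ∘ₗ s, fun x => ?_⟩
  have h4 : α (Pi.single x 1) = v x := by
    rw [hα, Finset.sum_eq_single x]
    · rw [Pi.single_eq_same, one_smul]
    · intro y _ hy
      rw [Pi.single_eq_of_ne hy, zero_smul]
    · intro h
      exact absurd (Finset.mem_univ x) h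
  have h5 : β (Pi.single x 1) = w x := by
    rw [hβ, Finset.sum_eq_single x]
    · rw [Pi.single_eq_same, one_smul]
    · intro y _ hy
      rw [Pi.single_eq_of_ne hy, zero_smul]
    · intro h
      exact absurd (Finset.mem_univ x) h
  have h6 : s (v x) - Pi.single x 1 ∈ LinearMap.ker β := by
    rw [hke, LinearMap.mem_ker, map_sub, h4]
    have h7 : α (s (v x)) = v x := by
      have := LinearMap.congr_fun hs (v x)
      exact this
    rw [h7, sub_self]
  rw [LinearMap.mem_ker, map_sub, h5, sub_eq_zero] at h6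
  exact h6

end lin

section family

variable {ι : Type} [Fintype ι] [DecidableEq ι] {F : Type u} [Field F] {P : Subgroup (GL ι F)}
  {K : Type*} [Field K] [Algebra F K] {W : Type*} [AddCommGroup W] [Module K W] [FiniteDimensional K W]
  {G : Type*} [Group G] {X : Type*} [Fintype X]

/-- **The Gram matrix criterion.** -/
theorem fixQ_of_family (hC : Core P) (M : G →* Matrix ι ι K)
    (hM : ∀ g ∈ P, ∃ h : G, M h = (g : Matrix ι ι F).map (algebraMap F K)) (a : G → X → X)
    (v : X → (ι → K)) (hv : Submodule.span K (Set.range v) = ⊤) (ha : ∀ g x, M g *ᵥ v x = v (a g x))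
    (Q : QuadraticForm K W) (w : X → W) (hQ : ∀ x, Q (w x) = 0)
    (hpol : ∀ g x y, QuadraticMap.polar Q (w (a g x)) (w (a g y)) = QuadraticMap.polar Q (w x) (w y))
    (hker : ∀ c : X → K, ∑ x, c x • w x = 0 → ∑ x, c x • v x = 0)
    (hd : Module.finrank K W ≤ Fintype.card ι) {x₀ y₀ : X} (h0 : QuadraticMap.polar Q (w x₀) (w y₀) ≠ 0) : FixQ P := by
  classical
  obtain ⟨L, hL⟩ := exists_lin v w hv hker (by rw [Module.finrank_pi]; exact hd)
  -- the form on `K^ι`
  let q : (ι → K) → K := fun z => Q (L z)
  let B : (ι → K) → (ι → K) → K := fun z t => QuadraticMap.polar Q (L z) (L t)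
  have hq : ∀ z, q z = Q (L z) := fun _ => rfl
  have hB : ∀ z t, B z t = QuadraticMap.polar Q (L z) (L t) := fun _ _ => rfl
  have hqa : ∀ z t, q (z + t) = q z + q t + B z t := by
    intro z t
    rw [hq, hq, hq, hB, map_add, QuadraticMap.polar]
    ring
  have hBl : ∀ x y z, B (x + y) z = B x z + B y z := by
    intro x y z
    rw [hB, hB, hB, map_add, QuadraticMap.polar_add_left]
  have hBr : ∀ x y z, B x (y + z) = B x y + B x z := by
    intro x y z
    rw [hB, hB, hB, map_add, QuadraticMap.polar_add_right]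
  have hBs : ∀ (c : K) x y, B (c • x) y = c * B x y := by
    intro c x y
    rw [hB, hB, map_smul, QuadraticMap.polar_smul_left, smul_eq_mul]
  have hBsr : ∀ (c : K) x y, B x (c • y) = c * B x y := by
    intro c x y
    rw [hB, hB, map_smul, QuadraticMap.polar_smul_right, smul_eq_mul]
  have hqs : ∀ (c : K) x, q (c • x) = c ^ 2 * q x := by
    intro c x
    rw [hq, hq, map_smul, QuadraticMap.map_smul, smul_eq_mul]
    ring
  have hB0l : ∀ x, B 0 x = 0 := fun x => by have := hBs 0 0 x; rwa [zero_smul, zero_mul] at this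
  have hB0r : ∀ x, B x 0 = 0 := fun x => by have := hBsr 0 x 0; rwa [zero_smul, zero_mul] at this
  have hq0 : q 0 = 0 := by have := hqs 0 0; rwa [zero_smul, zero_pow (by norm_num), zero_mul] at this
  -- invariance of the polar form
  have hBi1 : ∀ (g : G) (x : X) (z : ι → K), B (M g *ᵥ v x) (M g *ᵥ z) = B (v x) z := by
    intro g x z
    have hz : z ∈ Submodule.span K (Set.range v) := by rw [hv]; trivial
    induction hz using Submodule.span_induction with
    | mem z hz =>
      obtain ⟨y, rfl⟩ := hz
      rw [ha, ha, hB, hB, hL, hL, hL, hL, hpol]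
    | zero => rw [Matrix.mulVec_zero, hB0r, hB0r]
    | add z t _ _ hz ht => rw [Matrix.mulVec_add, hBr, hBr, hz, ht]
    | smul c z _ hz => rw [Matrix.mulVec_smul, hBsr, hBsr, hz]
  have hBi : ∀ (g : G) (z t : ι → K), B (M g *ᵥ z) (M g *ᵥ t) = B z t := by
    intro g z t
    have hz : z ∈ Submodule.span K (Set.range v) := by rw [hv]; trivial
    induction hz using Submodule.span_induction with
    | mem z hz =>
      obtain ⟨y, rfl⟩ := hz
      exact hBi1 g y t
    | zero => rw [Matrix.mulVec_zero, hB0l, hB0l]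
    | add z t _ _ hz ht => rw [Matrix.mulVec_add, hBl, hBl, hz, ht]
    | smul c z _ hz => rw [Matrix.mulVec_smul, hBs, hBs, hz]
  have hqi : ∀ (g : G) (z : ι → K), q (M g *ᵥ z) = q z := by
    intro g z
    have hz : z ∈ Submodule.span K (Set.range v) := by rw [hv]; trivial
    induction hz using Submodule.span_induction with
    | mem z hz =>
      obtain ⟨y, rfl⟩ := hz
      rw [ha, hq, hq, hL, hL, hQ, hQ]
    | zero => rw [Matrix.mulVec_zero, hq0]
    | add z t _ _ hz ht => rw [Matrix.mulVec_add, hqa, hqa, hz, ht, hBi]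
    | smul c z _ hz => rw [Matrix.mulVec_smul, hqs, hqs, hz]
  -- descend
  have hm : ∀ (g : GL ι F) (x : ι → F), (fun i => algebraMap F K (((g : Matrix ι ι F) *ᵥ x) i)) =
      (g : Matrix ι ι F).map (algebraMap F K) *ᵥ (fun i => algebraMap F K (x i)) := by
    intro g x
    funext i
    simp only [Matrix.mulVec, dotProduct, map_sum, map_mul, Matrix.map_apply]
  obtain ⟨i, j, hij⟩ : ∃ i j : ι, B (Pi.single i 1) (Pi.single j 1) ≠ 0 := by
    by_contra hcon
    push Not at hcon
    apply h0
    rw [← hL, ← hL, ← hB]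
    have hsum : ∀ z : ι → K, z = ∑ i, z i • (Pi.single i 1 : ι → K) := by
      intro z
      funext k
      rw [Finset.sum_apply]
      simp [Pi.single_apply]
    have h1 : ∀ (i : ι) (t : ι → K), B (Pi.single i 1) t = 0 := by
      intro i t
      rw [hsum t]
      generalize (Finset.univ : Finset ι) = s
      induction s using Finset.induction_on with
      | empty => rw [Finset.sum_empty, hB0r]
      | insert k s hk ih => rw [Finset.sum_insert hk, hBr, hBsr, hcon, ih, mul_zero, add_zero]
    rw [hsum (v x₀)]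
    generalize (Finset.univ : Finset ι) = s
    induction s using Finset.induction_on with
    | empty => rw [Finset.sum_empty, hB0l]
    | insert k s hk ih => rw [Finset.sum_insert hk, hBl, hBs, h1, ih, mul_zero, add_zero]
  refine fixQ_of_ext hC (K := K) (fun x => q (fun i => algebraMap F K (x i)))
    (fun x y => B (fun i => algebraMap F K (x i)) (fun i => algebraMap F K (y i))) ?_ ?_ ?_ ?_ ?_
    (x₀ := Pi.single i 1) (y₀ := Pi.single j 1) ?_
  · intro x y
    show q _ = q _ + q _ + B _ _
    rw [← hqa]
    congr 1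
    funext k
    rw [Pi.add_apply, map_add, Pi.add_apply]
  · intro x y z
    show B _ _ = B _ _ + B _ _
    rw [← hBl]
    congr 1
    funext k
    rw [Pi.add_apply, map_add, Pi.add_apply]
  · intro c x y
    show B _ _ = _ * B _ _
    rw [← hBs]
    congr 1
    funext k
    rw [Pi.smul_apply, smul_eq_mul, map_mul, Pi.smul_apply, smul_eq_mul]
  · intro c x
    show q _ = _ * q _
    rw [← hqs]
    congr 1
    funext k
    rw [Pi.smul_apply, smul_eq_mul, map_mul, Pi.smul_apply, smul_eq_mul]
  · intro g hg x
    show q _ = q _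
    obtain ⟨h, hh⟩ := hM g hg
    rw [hm, ← hh, hqi]
  · have h1 : ∀ k : ι, (fun l => algebraMap F K ((Pi.single k 1 : ι → F) l)) = Pi.single k 1 := by
      intro k
      funext l
      rcases eq_or_ne l k with rfl | h
      · rw [Pi.single_eq_same, Pi.single_eq_same, map_one]
      · rw [Pi.single_eq_of_ne h, Pi.single_eq_of_ne h, map_zero]
    show B _ _ ≠ 0
    rw [h1, h1]
    exact hij

end family

end Cfsg.Agent.H919.Gram
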