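import Cfsg.Agent.H919.QuadTwo
import Cfsg.Agent.H919.Gram
import Cfsg.Agent.H911.OddForm
import Cfsg.Agent.H906.Trace

/-!
# Passing to an extension field for the existence of invariant quadratic forms, characteristic two (helper919)

`P ≤ GL(ι, F)` a core fixing an alternating form, `K / F` a field extension.

* `mG` : the map `GL(ι, F) → GL(ι, K)`; `irr_ext` : `P` acts irreducibly on `K^ι`;
* `extF f` : the extension of `f`; `extF_symplectic`, `extF_inv`;
* `fixQ_of_closed` : if the image of `P` in `GL(ι, K)` fixes a quadratic form with polar form `extF f`, then `FixQ P`.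
-/

set_option autoImplicit false
set_option linter.unusedSectionVars false

open Cfsg Cfsg.Geo Matrix

namespace Cfsg.Agent.H919.Q2

open Cfsg.Agent.H915.LD

universe u v

variable {ι : Type} [Fintype ι] [DecidableEq ι] {F : Type u} [Field F] {K : Type v} [Field K] [Algebra F K]

/-- the map on matrices -/
def mG (F : Type u) [Field F] (K : Type v) [Field K] [Algebra F K] : GL ι F →* GL ι K :=
  Matrix.GeneralLinearGroup.map (algebraMap F K)

theorem mG_coe (g : GL ι F) : ((mG F K g : GL ι K) : Matrix ι ι K) = (g : Matrix ι ι F).map (algebraMap F K) := rfl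

/-- the map on vectors -/
def mV (K : Type v) [Field K] [Algebra F K] (x : ι → F) : ι → K := fun i => algebraMap F K (x i)

theorem mG_mulVec (g : GL ι F) (x : ι → F) :
    ((mG F K g : GL ι K) : Matrix ι ι K) *ᵥ mV K x = mV K ((g : Matrix ι ι F) *ᵥ x) := by
  funext i
  rw [mG_coe]
  simp only [Matrix.mulVec, dotProduct, mV, map_sum, map_mul, Matrix.map_apply]

theorem mV_add (x y : ι → F) : mV K (x + y) = mV K x + mV K y := by
  funext i
  simp only [mV, Pi.add_apply, map_add]

theorem mV_smul (c : F) (x : ι → F) : mV K (c • x) = algebraMap F K c • mV K x := by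
  funext i
  simp only [mV, Pi.smul_apply, smul_eq_mul, map_mul]

theorem mV_single (i : ι) (c : F) : mV K (Pi.single i c : ι → F) = Pi.single i (algebraMap F K c) := by
  funext k
  rcases eq_or_ne k i with rfl | h
  · simp only [mV, Pi.single_eq_same]
  · simp only [mV, Pi.single_eq_of_ne h, map_zero]

/-- the matrices of `P` span over `K` -/
theorem span_ext {P : Subgroup (GL ι F)} (h : ActsAbsolutelyIrreducibly (matrixSet P)) :
    Submodule.span K (matrixSet (P.map (mG F K))) = ⊤ := by
  have h1 := H906.span_subtype h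
  rw [eq_top_iff]
  have h2 : ∀ A : Matrix ι ι F, A.map (algebraMap F K) ∈ Submodule.span K (matrixSet (P.map (mG F K))) := by
    intro A
    have hA : A ∈ Submodule.span F (Set.range ((Units.coeHom (Matrix ι ι F)).comp P.subtype)) := by rw [h1]; trivial
    induction hA using Submodule.span_induction with
    | mem x hx =>
      obtain ⟨g, rfl⟩ := hx
      exact Submodule.subset_span ⟨mG F K g, ⟨g, g.2, rfl⟩, rfl⟩
    | zero =>
      rw [Matrix.map_zero _ (map_zero _)]
      exact Submodule.zero_mem _
    | add x y _ _ hx hy =>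
      rw [Matrix.map_add _ (map_add _)]
      exact Submodule.add_mem _ hx hy
    | smul c x _ hx =>
      have : (c • x).map (algebraMap F K) = (algebraMap F K c) • x.map (algebraMap F K) := by
        ext i j
        simp
      rw [this]
      exact Submodule.smul_mem _ _ hx
  intro M _
  rw [Matrix.matrix_eq_sum_single M]
  refine Submodule.sum_mem _ fun i _ => Submodule.sum_mem _ fun j _ => ?_
  have h3 : Matrix.single i j (M i j) = M i j • (Matrix.single i j (1 : F)).map (algebraMap F K) := by
    ext k l
    simp [Matrix.single_apply]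
  rw [h3]
  exact Submodule.smul_mem _ _ (h2 _)

theorem irr_of_span {S : Set (Matrix ι ι K)} (h : Submodule.span K S = ⊤) : ActsIrreducibly S := by
  intro X hX
  have h1 : ∀ M : Matrix ι ι K, ∀ v ∈ X, M *ᵥ v ∈ X := by
    intro M v hv
    have hM : M ∈ Submodule.span K S := by rw [h]; trivial
    induction hM using Submodule.span_induction with
    | mem x hx => exact hX x hx ⟨v, hv, Matrix.toLin'_apply _ _⟩
    | zero =>
      rw [Matrix.zero_mulVec]
      exact X.zero_mem
    | add x y _ _ hx hy =>
      rw [Matrix.add_mulVec]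
      exact X.add_mem hx hy
    | smul c x _ hx =>
      rw [Matrix.smul_mulVec]
      exact X.smul_mem _ hx
  by_cases hb : X = ⊥
  · exact Or.inl hb
  · right
    obtain ⟨v, hv, hv0⟩ := Submodule.exists_mem_ne_zero_of_ne_bot hb
    obtain ⟨j, hj⟩ : ∃ j, v j ≠ 0 := by
      by_contra hcon
      push Not at hcon
      exact hv0 (funext hcon)
    rw [eq_top_iff]
    intro w _
    have h2 := h1 (Matrix.vecMulVec w (Pi.single j (v j)⁻¹)) v hv
    rw [Matrix.vecMulVec_mulVec, single_dotProduct, inv_mul_cancel₀ hj] at h2
    simpa using h2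

theorem irr_ext {P : Subgroup (GL ι F)} (h : ActsAbsolutelyIrreducibly (matrixSet P)) :
    ActsIrreducibly (matrixSet (P.map (mG F K))) := irr_of_span (span_ext h)

/-- the extension of a form -/
def extF (K : Type v) [Field K] [Algebra F K] (f : (ι → F) → (ι → F) → F) (x y : ι → K) : K :=
  x ⬝ᵥ ((H911.OddForm.gram f).map (algebraMap F K) *ᵥ y)

variable {f : (ι → F) → (ι → F) → F}

theorem extF_mV (hf : IsBilinearForm f) (x y : ι → F) : extF K f (mV K x) (mV K y) = algebraMap F K (f x y) := by
  have h1 : f x y = ∑ i, ∑ k, x i * (f (Pi.single i 1) (Pi.single k 1) * y k) := by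
    conv_lhs => rw [H911.OddForm.eq_sum_single x, H911.OddForm.f_sum_left hf]
    refine Finset.sum_congr rfl fun i _ => ?_
    rw [hf.smul_left]
    conv_lhs => rw [H911.OddForm.eq_sum_single y, H911.OddForm.f_sum_right hf, Finset.mul_sum]
    refine Finset.sum_congr rfl fun k _ => ?_
    rw [hf.smul_right]
    ring
  rw [h1, map_sum, extF, dotProduct]
  refine Finset.sum_congr rfl fun i _ => ?_
  rw [map_sum, Matrix.mulVec, dotProduct, Finset.mul_sum]
  refine Finset.sum_congr rfl fun k _ => ?_
  rw [map_mul, map_mul]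
  rfl

theorem extF_bil (f : (ι → F) → (ι → F) → F) : IsBilinearForm (extF K f) where
  add_left x y v := by unfold extF; rw [add_dotProduct]
  smul_left c x v := by unfold extF; rw [smul_dotProduct, smul_eq_mul]
  add_right v x y := by unfold extF; rw [Matrix.mulVec_add, dotProduct_add]
  smul_right c v x := by unfold extF; rw [Matrix.mulVec_smul, dotProduct_smul, smul_eq_mul]

/-- a bilinear identity can be checked on the vectors over `F` -/
theorem bil_ext {f₁ f₂ : (ι → K) → (ι → K) → K} (h₁ : IsBilinearForm f₁) (h₂ : IsBilinearForm f₂)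
    (h : ∀ x y : ι → F, f₁ (mV K x) (mV K y) = f₂ (mV K x) (mV K y)) (x y : ι → K) : f₁ x y = f₂ x y := by
  rw [H911.OddForm.eq_sum_single x, H911.OddForm.f_sum_left h₁, H911.OddForm.f_sum_left h₂]
  refine Finset.sum_congr rfl fun i _ => ?_
  rw [h₁.smul_left, h₂.smul_left]
  congr 1
  rw [H911.OddForm.eq_sum_single y, H911.OddForm.f_sum_right h₁, H911.OddForm.f_sum_right h₂]
  refine Finset.sum_congr rfl fun k _ => ?_
  rw [h₁.smul_right, h₂.smul_right]
  congr 1
  have h3 := h (Pi.single i 1) (Pi.single k 1)
  rwa [mV_single, mV_single, map_one] at h3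

theorem extF_symplectic (h2 : (2 : F) = 0) (hf : IsSymplecticForm f) : IsSymplecticForm (extF K f) := by
  have h2K : (2 : K) = 0 := by
    have := congrArg (algebraMap F K) h2
    rwa [map_ofNat, map_zero] at this
  have hskew : ∀ v w, extF K f v w = - extF K f w v := by
    intro v w
    have hb : IsBilinearForm (fun x y => - extF K f y x) :=
      ⟨fun x y z => by rw [(extF_bil f).add_right]; ring, fun c x z => by rw [(extF_bil f).smul_right]; ring,
        fun x y z => by rw [(extF_bil f).add_left]; ring, fun c x z => by rw [(extF_bil f).smul_left]; ring⟩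
    exact bil_ext (F := F) (extF_bil f) hb (fun x y => by
      show _ = - extF K f (mV K y) (mV K x)
      rw [extF_mV hf.bilinear, extF_mV hf.bilinear, hf.skew x y, map_neg]) v w
  refine ⟨extF_bil f, hskew, ?_, ?_⟩
  · intro v
    have hadd : ∀ x y, extF K f (x + y) (x + y) = extF K f x x + extF K f y y := by
      intro x y
      rw [(extF_bil f).add_left, (extF_bil f).add_right, (extF_bil f).add_right, hskew y x]
      ring
    rw [H911.OddForm.eq_sum_single v]
    generalize (Finset.univ : Finset ι) = s
    classical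
    induction s using Finset.induction_on with
    | empty => rw [Finset.sum_empty]; exact H911.OddForm.zero_f (extF_bil f) 0
    | insert i s hi ih =>
      rw [Finset.sum_insert hi, hadd, ih, add_zero, (extF_bil f).smul_left, (extF_bil f).smul_right]
      have h3 := extF_mV (K := K) hf.bilinear (Pi.single i 1) (Pi.single i 1)
      rw [hf.alternating, map_zero, mV_single, map_one] at h3
      rw [h3, mul_zero, mul_zero]
  · have hdet := H911.OddForm.det_gram_ne_zero hf.bilinear hf.nondegenerate
    have hdet' : ((H911.OddForm.gram f).map (algebraMap F K)).det ≠ 0 := by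
      have h3 : ((H911.OddForm.gram f).map (algebraMap F K)).det = algebraMap F K (H911.OddForm.gram f).det := by
        rw [RingHom.map_det]
        rfl
      rw [h3]
      exact (map_ne_zero _).2 hdet
    have hr : ∀ v : ι → K, v ≠ 0 → ∃ x, extF K f x v ≠ 0 := by
      intro v hv
      by_contra hcon
      push Not at hcon
      apply hdet'
      rw [← Matrix.exists_mulVec_eq_zero_iff]
      refine ⟨v, hv, ?_⟩
      funext i
      have h3 := hcon (Pi.single i 1)
      unfold extF at h3
      rw [single_dotProduct, one_mul] at h3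
      exact h3
    intro v hv
    obtain ⟨x, hx⟩ := hr v hv
    exact ⟨⟨x, hx⟩, ⟨x, by rw [hskew]; exact neg_ne_zero.2 hx⟩⟩

theorem extF_inv {P : Subgroup (GL ι F)} (hf : IsBilinearForm f) (hP : InvB P f) :
    InvB (P.map (mG F K)) (extF K f) := by
  rintro _ ⟨g, hg, rfl⟩ x y
  have hb : IsBilinearForm (fun x y => extF K f (((mG F K g : GL ι K) : Matrix ι ι K) *ᵥ x)
      (((mG F K g : GL ι K) : Matrix ι ι K) *ᵥ y)) :=
    ⟨fun x y z => by rw [Matrix.mulVec_add, (extF_bil f).add_left],
      fun c x z => by rw [Matrix.mulVec_smul, (extF_bil f).smul_left],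
      fun x y z => by rw [Matrix.mulVec_add, (extF_bil f).add_right],
      fun c x z => by rw [Matrix.mulVec_smul, (extF_bil f).smul_right]⟩
  refine bil_ext (F := F) hb (extF_bil f) (fun x y => ?_) x y
  show extF K f (((mG F K g : GL ι K) : Matrix ι ι K) *ᵥ mV K x) (((mG F K g : GL ι K) : Matrix ι ι K) *ᵥ mV K y) = _
  rw [mG_mulVec, mG_mulVec, extF_mV hf, extF_mV hf, hP g hg]

/-- **Passing to an extension field.** -/
theorem fixQ_of_closed (K : Type v) [Field K] [Algebra F K] {P : Subgroup (GL ι F)} (hC : Core P)
    (hf : IsSymplecticForm f) (h : ∃ Q : (ι → K) → K, QP (extF K f) Q ∧ Inv (P.map (mG F K)) Q) : FixQ P := by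
  classical
  obtain ⟨Q, hQ, hI⟩ := h
  have hne := hC.nonempty
  obtain ⟨i⟩ := hne
  have h1 : (Pi.single i 1 : ι → F) ≠ 0 := by
    intro h
    have := congrFun h i
    simp at this
  obtain ⟨⟨x, hx⟩, -⟩ := hf.nondegenerate _ h1
  refine Cfsg.Agent.H919.Gram.fixQ_of_ext (K := K) hC (fun x => Q (mV K x)) (fun x y => algebraMap F K (f x y)) ?_ ?_ ?_ ?_
    ?_ (x₀ := x) (y₀ := Pi.single i 1) ?_
  · intro x y
    show Q _ = Q _ + Q _ + _
    rw [mV_add, hQ.add, extF_mV hf.bilinear]
  · intro x y z
    show algebraMap F K _ = algebraMap F K _ + algebraMap F K _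
    rw [hf.bilinear.add_left, map_add]
  · intro c x y
    show algebraMap F K _ = _ * algebraMap F K _
    rw [hf.bilinear.smul_left, map_mul]
  · intro c x
    show Q _ = _ * Q _
    rw [mV_smul, hQ.smul]
  · intro g hg x
    show Q _ = Q _
    rw [← mG_mulVec]
    exact hI _ ⟨g, hg, rfl⟩ _
  · show algebraMap F K _ ≠ 0
    exact (map_ne_zero _).2 hx

end Cfsg.Agent.H919.Q2
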