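import Cfsg.Agent.H924.TenStab

/-!
# `Sp_2(q) ⊗ O_4(q)` in `Sp_8(q)`: the stabiliser of `e ⊗ W` (helper919)
-/

set_option autoImplicit false
set_option linter.unusedSectionVars false

open Cfsg Cfsg.Geo Matrix
open scoped Kronecker

namespace Cfsg.Agent.H919.Four

open Cfsg.Agent.H929 (QF rB)
open Cfsg.Agent.H872 Cfsg.Agent.H924.Ten

variable {β : Type} [Fintype β] [DecidableEq β] {F : Type*} [Field F]
variable {f₁ : (Fin 2 → F) → (Fin 2 → F) → F} {Q : (β → F) → F} {B : (β → F) → (β → F) → F}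
  {f : (Fin 2 × β → F) → (Fin 2 × β → F) → F}

/-- coordinates of the functional `f₁ · e` -/
def phi (f₁ : (Fin 2 → F) → (Fin 2 → F) → F) (e : Fin 2 → F) : Fin 2 → F := fun i => f₁ (Pi.single i 1) e

/-- contraction with `f₁ · e` -/
def Lc (f₁ : (Fin 2 → F) → (Fin 2 → F) → F) (e : Fin 2 → F) : (Fin 2 × β → F) →ₗ[F] (β → F) := lc (phi f₁ e)

/-- `g = 1 + ten e (κ (L e ·))` -/
def Kel (f₁ : (Fin 2 → F) → (Fin 2 → F) → F) (e : Fin 2 → F) (κ : (β → F) →ₗ[F] (β → F))
    (g : GL (Fin 2 × β) F) : Prop :=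
  ∀ v, (g : Matrix (Fin 2 × β) (Fin 2 × β) F) *ᵥ v = v + ten e (κ (Lc f₁ e v))

lemma phi_dot (T : IsSymplecticForm f₁) (e u : Fin 2 → F) : phi f₁ e ⬝ᵥ u = f₁ u e := by
  have h : u = u 0 • Pi.single 0 1 + u 1 • Pi.single 1 1 := by
    funext i
    fin_cases i <;> simp
  conv_rhs => rw [h]
  rw [T.bilinear.add_left, T.bilinear.smul_left, T.bilinear.smul_left]
  simp only [phi, dotProduct, Fin.sum_univ_two]
  ring

variable (T : Tens f₁ Q B f) {M : Subgroup (GL (Fin 2 × β) F)} (hM : Grp f₁ B f M)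

include T

lemma L_ten (e u : Fin 2 → F) (w : β → F) : Lc f₁ e (ten u w) = f₁ u e • w := by
  rw [Lc, lc_ten, phi_dot T.sym]

lemma form_L (v : Fin 2 × β → F) (e : Fin 2 → F) (x : β → F) : f v (ten e x) = B (Lc f₁ e v) x := by
  conv_lhs => rw [eq_sum_ten v]
  conv_rhs => rw [eq_sum_ten v]
  rw [T.f_sum_left, map_sum, T.qf.comm, T.qf.sum_right]
  apply Finset.sum_congr rfl
  intro i _
  rw [T.ten, L_ten T, T.qf.smul_right, T.qf.comm x]

lemma exists_dual {e : Fin 2 → F} (he : e ≠ 0) : ∃ e', f₁ e' e = 1 := by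
  obtain ⟨y, hy⟩ := (T.sym.nondegenerate e he).1
  refine ⟨(f₁ y e)⁻¹ • y, ?_⟩
  rw [T.sym.bilinear.smul_left, inv_mul_cancel₀ hy]

/-- expansion along `e, e'` -/
lemma expand {e e' : Fin 2 → F} (he : f₁ e' e = 1) (u : Fin 2 → F) :
    u = - f₁ u e' • e + f₁ u e • e' := by
  have he0 : f₁ e e' = -1 := by rw [T.sym.skew, he]
  have key : u - (- f₁ u e' • e + f₁ u e • e') = 0 := by
    apply T.eq_zero_of_f₁
    have hlin : ∀ x y z : Fin 2 → F, f₁ (x - y) z = f₁ x z - f₁ y z := by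
      intro x y z
      rw [sub_eq_add_neg, T.sym.bilinear.add_left, ← neg_one_smul F y, T.sym.bilinear.smul_left]
      ring
    have h1 : f₁ (u - (- f₁ u e' • e + f₁ u e • e')) e = 0 := by
      rw [hlin, T.sym.bilinear.add_left, T.sym.bilinear.smul_left, T.sym.bilinear.smul_left, T.sym.alternating e, he]
      ring
    have h2 : f₁ (u - (- f₁ u e' • e + f₁ u e • e')) e' = 0 := by
      rw [hlin, T.sym.bilinear.add_left, T.sym.bilinear.smul_left, T.sym.bilinear.smul_left, T.sym.alternating e', he0]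
      ring
    set x := u - (- f₁ u e' • e + f₁ u e • e')
    -- coordinates
    have hco : ∀ u v, f₁ u v = (u 0 * v 1 - u 1 * v 0) * f₁ (Pi.single 0 1) (Pi.single 1 1) := by
      intro u v
      have hexp : ∀ u : Fin 2 → F, u = u 0 • Pi.single 0 1 + u 1 • Pi.single 1 1 := by
        intro u
        funext i
        fin_cases i <;> simp
      conv_lhs => rw [hexp u, hexp v]
      simp only [T.sym.bilinear.add_left, T.sym.bilinear.add_right, T.sym.bilinear.smul_left,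
        T.sym.bilinear.smul_right, T.sym.alternating, T.sym.skew (Pi.single 1 1) (Pi.single 0 1)]
      ring
    intro z
    set k := f₁ (Pi.single 0 1) (Pi.single 1 1) with hk
    have hk0 : k ≠ 0 := by
      intro h
      rw [hco, h, mul_zero] at he
      exact zero_ne_one he
    have hd : e' 0 * e 1 - e' 1 * e 0 ≠ 0 := by
      intro h
      rw [hco, h, zero_mul] at he
      exact zero_ne_one he
    rw [hco] at h1 h2
    have e1 := (mul_eq_zero.mp h1).resolve_right hk0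
    have e2 := (mul_eq_zero.mp h2).resolve_right hk0
    have a0 : (e' 0 * e 1 - e' 1 * e 0) * x 0 = 0 := by linear_combination e' 0 * e1 - e 0 * e2
    have a1 : (e' 0 * e 1 - e' 1 * e 0) * x 1 = 0 := by linear_combination e' 1 * e1 - e 1 * e2
    have b0 := (mul_eq_zero.mp a0).resolve_left hd
    have b1 := (mul_eq_zero.mp a1).resolve_left hd
    rw [hco, b0, b1]
    ring
  exact sub_eq_zero.mp key

/-- expansion of a tensor along `e, e'` -/
lemma expand_ten {e e' : Fin 2 → F} (he : f₁ e' e = 1) (v : Fin 2 × β → F) :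
    v = ten e (- Lc f₁ e' v) + ten e' (Lc f₁ e v) := by
  let tt : (Fin 2 → F) → (β → F) →ₗ[F] (Fin 2 × β → F) := fun u =>
    { toFun := fun w => ten u w
      map_add' := fun x y => ten_add_right u x y
      map_smul' := fun c x => ten_smul_right c u x }
  have key : (LinearMap.id : (Fin 2 × β → F) →ₗ[F] (Fin 2 × β → F)) =
      - (tt e ∘ₗ Lc f₁ e') + tt e' ∘ₗ Lc f₁ e := by
    apply linearMap_ext_ten
    intro u w
    show ten u w = - ten e (Lc f₁ e' (ten u w)) + ten e' (Lc f₁ e (ten u w))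
    rw [L_ten T, L_ten T]
    conv_lhs => rw [expand T he u]
    rw [ten_add_left, ten_smul_left, ten_smul_left, ten_smul_right, ten_smul_right, neg_smul]
  have h := congrArg (fun X : (Fin 2 × β → F) →ₗ[F] (Fin 2 × β → F) => X v) key
  have h2 : v = - ten e (Lc f₁ e' v) + ten e' (Lc f₁ e v) := h
  conv_lhs => rw [h2]
  congr 1
  funext p
  simp [ten_apply]

lemma exists_ten_of_L {e : Fin 2 → F} (he : e ≠ 0) {v : Fin 2 × β → F} (hv : Lc f₁ e v = 0) :
    ∃ w, v = ten e w := by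
  obtain ⟨e', he'⟩ := exists_dual T he
  refine ⟨- Lc f₁ e' v, ?_⟩
  conv_lhs => rw [expand_ten T he' v]
  rw [hv, ten_zero_right, add_zero]

lemma eq_zero_of_B {x : β → F} (h : ∀ y, B x y = 0) : x = 0 := by
  by_contra hx
  obtain ⟨y, hy⟩ := T.nd x hx
  exact hy (h y)

/-- An isometry fixing `e ⊗ W` pointwise. -/
lemma exists_kel {e : Fin 2 → F} (he : e ≠ 0) {g : GL (Fin 2 × β) F}
    (hg : ∀ v w, f ((g : Matrix (Fin 2 × β) (Fin 2 × β) F) *ᵥ v) ((g : Matrix (Fin 2 × β) (Fin 2 × β) F) *ᵥ w) = f v w)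
    (hfix : ∀ w, (g : Matrix (Fin 2 × β) (Fin 2 × β) F) *ᵥ (ten e w) = ten e w) :
    ∃ κ : (β → F) →ₗ[F] (β → F), (∀ x y, B (κ x) y = B x (κ y)) ∧ Kel f₁ e κ g := by
  obtain ⟨e', he'⟩ := exists_dual T he
  have hee' : f₁ e e' = -1 := by rw [T.sym.skew, he']
  let te : (β → F) →ₗ[F] (Fin 2 × β → F) :=
    { toFun := fun w => ten e' w
      map_add' := fun x y => ten_add_right e' x y
      map_smul' := fun c x => ten_smul_right c e' x }
  let κ : (β → F) →ₗ[F] (β → F) :=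
    - ((Lc f₁ e') ∘ₗ ((Matrix.toLin' (g : Matrix (Fin 2 × β) (Fin 2 × β) F) - LinearMap.id) ∘ₗ te))
  have hκ : ∀ w, κ w = - Lc f₁ e' ((g : Matrix (Fin 2 × β) (Fin 2 × β) F) *ᵥ (ten e' w) - ten e' w) := by
    intro w
    simp [κ, te, Matrix.toLin'_apply]
  have hin : ∀ w, ∃ w', (g : Matrix (Fin 2 × β) (Fin 2 × β) F) *ᵥ (ten e' w) - ten e' w = ten e w' := by
    intro w
    apply exists_ten_of_L T he
    apply eq_zero_of_B T
    intro y
    rw [← form_L T]
    have h1 := hg (ten e' w) (ten e y)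
    rw [hfix] at h1
    rw [sub_eq_add_neg, T.bil.add_left, h1, ← neg_one_smul F (ten e' w), T.bil.smul_left]
    ring
  have hge' : ∀ w, (g : Matrix (Fin 2 × β) (Fin 2 × β) F) *ᵥ (ten e' w) = ten e' w + ten e (κ w) := by
    intro w
    obtain ⟨w', hw'⟩ := hin w
    rw [hκ, hw', L_ten T, hee', neg_smul, one_smul, neg_neg, ← hw']
    abel
  refine ⟨κ, ?_, ?_⟩
  · intro x y
    have h1 := hg (ten e' x) (ten e' y)
    rw [hge', hge', T.bil.add_left, T.bil.add_right, T.bil.add_right, T.ten, T.ten, T.ten, T.ten,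
      T.sym.alternating, T.sym.alternating, he', hee'] at h1
    linear_combination -h1
  · intro v
    have h1 : Lc f₁ e (v - ten e' (Lc f₁ e v)) = 0 := by
      rw [map_sub, L_ten T, he', one_smul, sub_self]
    obtain ⟨w, hw⟩ := exists_ten_of_L T he h1
    have h2 : v = ten e w + ten e' (Lc f₁ e v) := by rw [← hw]; abel
    conv_lhs => rw [h2]
    rw [Matrix.mulVec_add, hfix, hge', ← add_assoc, ← h2]

lemma kel_fix {e : Fin 2 → F} {κ : (β → F) →ₗ[F] (β → F)} {g : GL (Fin 2 × β) F} (h : Kel f₁ e κ g) (w : β → F) :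
    (g : Matrix (Fin 2 × β) (Fin 2 × β) F) *ᵥ (ten e w) = ten e w := by
  rw [h, L_ten T, T.sym.alternating, zero_smul, map_zero, ten_zero_right, add_zero]

lemma kel_mul {e : Fin 2 → F} {κ κ' : (β → F) →ₗ[F] (β → F)} {g g' : GL (Fin 2 × β) F}
    (h : Kel f₁ e κ g) (h' : Kel f₁ e κ' g') : Kel f₁ e (κ + κ') (g * g') := by
  intro v
  rw [gl_mul_mulVec, h' v, Matrix.mulVec_add, kel_fix T h, h v, LinearMap.add_apply, ten_add_right, add_assoc]

lemma kel_inv {e : Fin 2 → F} {κ : (β → F) →ₗ[F] (β → F)} {g : GL (Fin 2 × β) F}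
    (h : Kel f₁ e κ g) : Kel f₁ e (-κ) g⁻¹ := by
  intro v
  have h1 : (g : Matrix (Fin 2 × β) (Fin 2 × β) F) *ᵥ (v + ten e ((-κ) (Lc f₁ e v))) = v := by
    rw [Matrix.mulVec_add, kel_fix T h, h v, LinearMap.neg_apply, add_assoc, ← ten_add_right, add_neg_cancel,
      ten_zero_right, add_zero]
  calc _ = ((g⁻¹ : GL (Fin 2 × β) F) : Matrix (Fin 2 × β) (Fin 2 × β) F) *ᵥ
        ((g : Matrix (Fin 2 × β) (Fin 2 × β) F) *ᵥ (v + ten e ((-κ) (Lc f₁ e v)))) := by rw [h1]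
    _ = _ := gl_inv_mulVec _ _

/-- conjugation of a linear map by an invertible matrix -/
def cj (b : GL β F) (κ : (β → F) →ₗ[F] (β → F)) : (β → F) →ₗ[F] (β → F) :=
  (Matrix.toLin' (b : Matrix β β F)) ∘ₗ κ ∘ₗ (Matrix.toLin' ((b⁻¹ : GL β F) : Matrix β β F))

omit T in
lemma cj_apply (b : GL β F) (κ : (β → F) →ₗ[F] (β → F)) (x : β → F) :
    cj b κ x = (b : Matrix β β F) *ᵥ (κ (((b⁻¹ : GL β F) : Matrix β β F) *ᵥ x)) := by
  simp [cj, Matrix.toLin'_apply]

lemma L_kr (e : Fin 2 → F) (b : GL β F) (v : Fin 2 × β → F) :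
    Lc f₁ e ((kr ((1 : GL (Fin 2) F), b) : Matrix (Fin 2 × β) (Fin 2 × β) F) *ᵥ v) =
      (b : Matrix β β F) *ᵥ (Lc f₁ e v) := by
  rw [Lc, coe_kr, lc_kron]
  simp

/-- conjugation by `1 ⊗ b` -/
lemma kel_conj {e : Fin 2 → F} {κ : (β → F) →ₗ[F] (β → F)} {g : GL (Fin 2 × β) F} (h : Kel f₁ e κ g) (b : GL β F) :
    Kel f₁ e (cj b κ) (kr ((1 : GL (Fin 2) F), b) * g * (kr ((1 : GL (Fin 2) F), b))⁻¹) := by
  intro v
  have hinv : (kr ((1 : GL (Fin 2) F), b))⁻¹ = kr ((1 : GL (Fin 2) F), b⁻¹) := by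
    rw [← map_inv, Prod.inv_mk, inv_one]
  rw [gl_mul_mulVec, gl_mul_mulVec, h, Matrix.mulVec_add, gl_mulVec_inv, kr_mulVec_ten, hinv, L_kr T, cj_apply,
    Units.val_one, Matrix.one_mulVec]

lemma kel_ext {e : Fin 2 → F} (he : e ≠ 0) {κ κ' : (β → F) →ₗ[F] (β → F)} {g : GL (Fin 2 × β) F}
    (h : Kel f₁ e κ g) (h' : Kel f₁ e κ' g) : κ = κ' := by
  obtain ⟨e', he'⟩ := exists_dual T he
  apply LinearMap.ext
  intro w
  have h1 := h (ten e' w)
  rw [h' (ten e' w), L_ten T, he', one_smul] at h1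
  exact (ten_right_injective he (add_left_cancel h1)).symm

omit T in
lemma kel_one (e : Fin 2 → F) : Kel (β := β) f₁ e 0 (1 : GL (Fin 2 × β) F) := by
  intro v
  rw [LinearMap.zero_apply, ten_zero_right, add_zero, Units.val_one, Matrix.one_mulVec]

/-- `t_c ⊗ 1` -/
lemma kel_tU (e : Fin 2 → F) (c : F) {a : GL (Fin 2) F}
    (ha : ∀ u, (a : Matrix _ _ F) *ᵥ u = u + (c * f₁ u e) • e) :
    Kel f₁ e (c • LinearMap.id) (kr (a, (1 : GL β F))) := by
  have key : Matrix.toLin' (kr (a, (1 : GL β F)) : Matrix (Fin 2 × β) (Fin 2 × β) F) =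
      LinearMap.id + ({ toFun := fun w => ten e w
                        map_add' := fun x y => ten_add_right e x y
                        map_smul' := fun c x => ten_smul_right c e x } : (β → F) →ₗ[F] (Fin 2 × β → F)) ∘ₗ
        ((c • LinearMap.id) ∘ₗ (Lc f₁ e)) := by
    apply linearMap_ext_ten
    intro u w
    rw [Matrix.toLin'_apply, kr_mulVec_ten, ha]
    show ten (u + (c * f₁ u e) • e) (((1 : GL β F) : Matrix β β F) *ᵥ w) = ten u w + ten e (c • (Lc f₁ e (ten u w)))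
    rw [L_ten T, Units.val_one, Matrix.one_mulVec, ten_add_left, ten_smul_left, ten_smul_right, ten_smul_right,
      smul_smul]
  intro v
  have h := congrArg (fun X : (Fin 2 × β → F) →ₗ[F] (Fin 2 × β → F) => X v) key
  rw [Matrix.toLin'_apply] at h
  exact h

/-- the elements `t_c ⊗ 1` lie in `M` -/
lemma exists_A (hM : Grp f₁ B f M) (e : Fin 2 → F) (c : F) : ∃ a : GL (Fin 2) F,
    (∀ u, (a : Matrix _ _ F) *ᵥ u = u + (c * f₁ u e) • e) ∧ kr (a, (1 : GL β F)) ∈ M ∧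
    Kel f₁ e (c • LinearMap.id) (kr (a, (1 : GL β F))) := by
  obtain ⟨a, ha, hiso⟩ := exists_tU T.sym c e
  exact ⟨a, ha, T.kr_one_mem hM hiso, kel_tU T e c ha⟩

/-- Step (a). -/
lemma kel_a (hM : Grp f₁ B f M) {s : β → F} (hs : s ≠ 0) (hQs : Q s = 0) (hnc : NoC B M s)
    {e : Fin 2 → F} (he : e ≠ 0) {κ : (β → F) →ₗ[F] (β → F)} {g : GL (Fin 2 × β) F} (hg : g ∈ M)
    (h : Kel f₁ e κ g) (h0 : κ s = 0) (h1 : ∀ x, B s x = 0 → ∃ c : F, κ x = c • s) : κ = 0 := by
  obtain ⟨a, b, -, -, hx⟩ := T.levi hM hs hQs hnc hg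
    (by
      intro u
      rw [h, L_ten T, map_smul, h0, smul_zero, ten_zero_right, add_zero])
    (by
      intro v hv
      have h2 : B s (Lc f₁ e v) = 0 := by
        rw [T.qf.comm, ← form_L T, T.form_R, hv, T.f₁_zero_left]
      obtain ⟨c, hc⟩ := h1 _ h2
      refine ⟨c • e, ?_⟩
      rw [h, hc, ten_smul_left, ten_smul_right])
  have hb : b = 1 := by
    apply Units.ext
    apply Matrix.ext_of_mulVec_single
    intro i
    have h2 := kel_fix T h (Pi.single i 1)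
    rw [← hx, kr_mulVec_ten, Units.val_one, Matrix.one_mulVec] at h2
    have h3 := ten_right_injective he h2
    rw [Units.val_one, Matrix.one_mulVec]
    exact h3
  have hg1 : g = 1 := by rw [← hx, hb]; exact map_one kr
  rw [hg1] at h
  exact kel_ext T he h (kel_one e)

end Cfsg.Agent.H919.Four
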