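import Cfsg.Agent.H919.FourA

/-!
# `Sp_2(q) ⊗ O_4(q)` in `Sp_8(q)`: `X ∩ Q_E` is scalar and `Stab_X(e ⊗ W) ≤ H` (helper919)
-/

set_option autoImplicit false
set_option linter.unusedSectionVars false

open Cfsg Cfsg.Geo Matrix
open scoped Kronecker

namespace Cfsg.Agent.H919.Four

open Cfsg.Agent.H929 (QF rB)
open Cfsg.Agent.H872 Cfsg.Agent.H924.Ten

variable {β : Type} [Fintype β] [DecidableEq β] {F : Type*} [Field F]
variable {f₁ : (Fin 2 → F) → (Fin 2 → F) → F} {Q : (β → F) → F} {B : (β → F) → (β → F) → F}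
  {f : (Fin 2 × β → F) → (Fin 2 × β → F) → F}

variable (T : Tens f₁ Q B f) {M : Subgroup (GL (Fin 2 × β) F)} (hM : Grp f₁ B f M)

include T

/-- a vector orthogonal to `s^⊥` is a multiple of `s` -/
lemma mem_span_of_perp {s : β → F} (hs : s ≠ 0) {x : β → F} (h : ∀ a, B s a = 0 → B x a = 0) :
    ∃ c : F, x = c • s := by
  obtain ⟨y₀, hy₀⟩ := T.nd s hs
  set y := (B s y₀)⁻¹ • y₀ with hy
  have hsy : B s y = 1 := by rw [hy, T.qf.smul_right, inv_mul_cancel₀ hy₀]
  refine ⟨B x y, ?_⟩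
  have h1 : x - B x y • s = 0 := by
    apply eq_zero_of_B T
    intro z
    have h2 : B s (z - B s z • y) = 0 := by
      rw [T.qf.sub_right, T.qf.smul_right, hsy, mul_one, sub_self]
    have h3 := h _ h2
    rw [T.qf.sub_right, T.qf.smul_right] at h3
    rw [T.qf.sub_left, T.qf.smul_left]
    linear_combination h3
  exact sub_eq_zero.mp h1

lemma sieg_s {s a : β → F} (hQs : Q s = 0) (hsa : B s a = 0) {b : GL β F} (hb : Sieg Q B s a b) :
    (b : Matrix β β F) *ᵥ s = s := by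
  have hss : B s s = 0 := by rw [T.qf.self, hQs, mul_zero]
  rw [hb, hss, hsa, mul_zero, zero_smul, zero_smul, add_zero, sub_zero, sub_zero]

lemma sieg_perp {s a : β → F} {b : GL β F} (hb : Sieg Q B s a b) {x : β → F} (hx : B s x = 0) :
    (b : Matrix β β F) *ᵥ x = x - B x a • s := by
  rw [hb, T.qf.comm x s, hx, mul_zero, zero_smul, zero_smul, add_zero, sub_zero]

/-- the Siegel elements and their inverses -/
lemma sieg_inv {s a : β → F} (hQs : Q s = 0) (hsa : B s a = 0) {b : GL β F} (hb : Sieg Q B s a b) :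
    Sieg Q B s (-a) b⁻¹ := by
  have hss : B s s = 0 := by rw [T.qf.self, hQs, mul_zero]
  intro x
  have h1 : (b : Matrix β β F) *ᵥ (x + B x s • (-a) - B x (-a) • s - (Q (-a) * B x s) • s) = x := by
    rw [Matrix.mulVec_sub, Matrix.mulVec_sub, Matrix.mulVec_add, Matrix.mulVec_smul, Matrix.mulVec_smul,
      Matrix.mulVec_smul, sieg_s T hQs hsa hb, hb x, Matrix.mulVec_neg, sieg_perp T hb hsa, T.qf.neg_right, T.qf.neg,
      T.qf.self]
    funext i
    simp only [Pi.add_apply, Pi.sub_apply, Pi.smul_apply, Pi.neg_apply, smul_eq_mul]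
    ring
  calc _ = ((b⁻¹ : GL β F) : Matrix β β F) *ᵥ ((b : Matrix β β F) *ᵥ
        (x + B x s • (-a) - B x (-a) • s - (Q (-a) * B x s) • s)) := by rw [h1]
    _ = _ := gl_inv_mulVec _ _

/-- the commutator of `g` with `1 ⊗ b` -/
lemma kel_comm (hM : Grp f₁ B f M) {e : Fin 2 → F} {κ : (β → F) →ₗ[F] (β → F)} {g : GL (Fin 2 × β) F} (hg : g ∈ M)
    (h : Kel f₁ e κ g) {b : GL β F} (hb : ∀ x, Q ((b : Matrix β β F) *ᵥ x) = Q x) :
    ∃ g' ∈ M, Kel f₁ e (cj b κ - κ) g' := by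
  have hk := T.one_kr_mem hM (T.B_iso hb)
  refine ⟨kr ((1 : GL (Fin 2) F), b) * g * (kr ((1 : GL (Fin 2) F), b))⁻¹ * g⁻¹,
    M.mul_mem (M.mul_mem (M.mul_mem hk hg) (M.inv_mem hk)) (M.inv_mem hg), ?_⟩
  rw [sub_eq_add_neg]
  exact kel_mul T (kel_conj T h b) (kel_inv T h)

lemma selfAdj_cj {κ : (β → F) →ₗ[F] (β → F)} (hκ : ∀ x y, B (κ x) y = B x (κ y)) {b : GL β F}
    (hb : ∀ x, Q ((b : Matrix β β F) *ᵥ x) = Q x) (x y : β → F) :
    B ((cj b κ - κ) x) y = B x ((cj b κ - κ) y) := by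
  have hb' := T.B_iso hb
  rw [LinearMap.sub_apply, LinearMap.sub_apply, T.qf.sub_left, T.qf.sub_right, hκ, cj_apply, cj_apply]
  congr 1
  have h1 : ∀ z w, B ((b : Matrix β β F) *ᵥ z) w = B z (((b⁻¹ : GL β F) : Matrix β β F) *ᵥ w) := by
    intro z w
    have := hb' z (((b⁻¹ : GL β F) : Matrix β β F) *ᵥ w)
    rw [gl_mulVec_inv] at this
    exact this
  rw [h1, hκ, T.qf.comm, ← h1, T.qf.comm]

/-- Step (b). -/
lemma kel_b (hM : Grp f₁ B f M) {s : β → F} (hs : s ≠ 0) (hQs : Q s = 0) (hnc : NoC B M s)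
    {e : Fin 2 → F} (he : e ≠ 0) {κ : (β → F) →ₗ[F] (β → F)} {g : GL (Fin 2 × β) F} (hg : g ∈ M)
    (h : Kel f₁ e κ g) (hκ : ∀ x y, B (κ x) y = B x (κ y)) {c : F} (h0 : κ s = c • s) : κ = c • LinearMap.id := by
  have hss : B s s = 0 := by rw [T.qf.self, hQs, mul_zero]
  have hκp : ∀ x, B s x = 0 → B s (κ x) = 0 := by
    intro x hx
    rw [← hκ, h0, T.qf.smul_left, hx, mul_zero]
  have hcomm : ∀ (a : β → F) (b : GL β F), B s a = 0 → Sieg Q B s a b →
      (∀ x, Q ((b : Matrix β β F) *ᵥ x) = Q x) → cj b κ - κ = 0 := by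
    intro a b hsa hb hiso
    obtain ⟨g', hg', hk⟩ := kel_comm T hM hg h hiso
    have hbi := sieg_inv T hQs hsa hb
    have hsa' : B s (-a) = 0 := by rw [T.qf.neg_right, hsa, neg_zero]
    refine kel_a T hM hs hQs hnc he hg' hk ?_ ?_
    · rw [LinearMap.sub_apply, cj_apply, sieg_s T hQs hsa' hbi, h0, Matrix.mulVec_smul, sieg_s T hQs hsa hb, sub_self]
    · intro x hx
      rw [LinearMap.sub_apply, cj_apply, sieg_perp T hbi hx, map_sub, map_smul, h0, Matrix.mulVec_sub,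
        Matrix.mulVec_smul, Matrix.mulVec_smul, sieg_s T hQs hsa hb, sieg_perp T hb (hκp x hx)]
      refine ⟨- B (κ x) a - B x (-a) * c, ?_⟩
      funext i
      simp only [Pi.sub_apply, Pi.smul_apply, smul_eq_mul]
      ring
  obtain ⟨a₀, -, hA, hKA⟩ := exists_A T hM e (-c)
  have h2 := kel_mul T h hKA
  have h3 := kel_a T hM hs hQs hnc he (M.mul_mem hg hA) h2
    (by
      rw [LinearMap.add_apply, h0, LinearMap.smul_apply, LinearMap.id_apply, neg_smul, add_neg_cancel])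
    (by
      intro x hx
      apply mem_span_of_perp T hs
      intro a ha
      obtain ⟨b, hb, hiso⟩ := T.exists_sieg hQs ha
      have h4 := hcomm a b ha hb hiso
      -- b κ x = κ b x
      have h5 : (b : Matrix β β F) *ᵥ (κ x) = κ ((b : Matrix β β F) *ᵥ x) := by
        have h6 := congrArg (fun X : (β → F) →ₗ[F] (β → F) => X ((b : Matrix β β F) *ᵥ x)) h4
        simp only [LinearMap.sub_apply, cj_apply, gl_inv_mulVec, LinearMap.zero_apply] at h6
        exact sub_eq_zero.mp h6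
      rw [sieg_perp T hb hx, sieg_perp T hb (hκp x hx), map_sub, map_smul, h0, smul_smul] at h5
      have h6 := sub_right_injective h5
      have h7 : B (κ x) a = B x a * c := by
        obtain ⟨y, hy⟩ := T.nd s hs
        have h8 := congrArg (fun z => B z y) h6
        simp only [T.qf.smul_left] at h8
        exact mul_right_cancel₀ hy h8
      rw [LinearMap.add_apply, LinearMap.smul_apply, LinearMap.id_apply, T.qf.add_left, T.qf.smul_left, h7]
      ring)
  have h4 : κ = - (-c • LinearMap.id) := eq_neg_of_add_eq_zero_left h3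
  rw [h4]
  apply LinearMap.ext
  intro x
  simp

omit T in
lemma trace_cj (b : GL β F) (κ : (β → F) →ₗ[F] (β → F)) : LinearMap.trace F (β → F) (cj b κ) =
    LinearMap.trace F (β → F) κ := by
  unfold cj
  rw [LinearMap.trace_comp_comm', LinearMap.comp_assoc, ← Matrix.toLin'_mul, ← Units.val_mul, inv_mul_cancel,
    Units.val_one, Matrix.toLin'_one, LinearMap.comp_id]

/-- **`X ∩ Q_E` is scalar.** -/
theorem kel_scalar (hM : Grp f₁ B f M) (hβ : (Fintype.card β : F) ≠ 0) (hβ3 : 3 ≤ Fintype.card β)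
    {s : β → F} (hs : s ≠ 0) (hQs : Q s = 0) (hnc : NoC B M s)
    {e : Fin 2 → F} (he : e ≠ 0) {κ : (β → F) →ₗ[F] (β → F)} {g : GL (Fin 2 × β) F} (hg : g ∈ M)
    (h : Kel f₁ e κ g) (hκ : ∀ x y, B (κ x) y = B x (κ y)) : ∃ c : F, κ = c • LinearMap.id := by
  have hss : B s s = 0 := by rw [T.qf.self, hQs, mul_zero]
  -- scalar differences vanish
  have htr : ∀ (κ : (β → F) →ₗ[F] (β → F)) (b : GL β F) (c : F), cj b κ - κ = c • LinearMap.id → c = 0 := by
    intro κ b c hc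
    have h1 := congrArg (LinearMap.trace F (β → F)) hc
    rw [map_sub, trace_cj, sub_self, map_smul, LinearMap.trace_id, Module.finrank_fintype_fun_eq_card,
      smul_eq_mul] at h1
    exact (mul_eq_zero.mp h1.symm).resolve_right hβ
  -- (c1)
  have c1 : ∀ (κ : (β → F) →ₗ[F] (β → F)) (g : GL (Fin 2 × β) F), g ∈ M → Kel f₁ e κ g →
      (∀ x y, B (κ x) y = B x (κ y)) → B (κ s) s = 0 → ∃ c : F, κ = c • LinearMap.id := by
    intro κ g hg h hκ h0
    have h1 : ∃ c : F, κ s = c • s := by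
      apply mem_span_of_perp T hs
      intro a ha
      obtain ⟨b, hb, hiso⟩ := T.exists_sieg hQs ha
      obtain ⟨g', hg', hk⟩ := kel_comm T hM hg h hiso
      have ha' : B s (-a) = 0 := by rw [T.qf.neg_right, ha, neg_zero]
      have h2 : (cj b κ - κ) s = (- B (κ s) a) • s := by
        rw [LinearMap.sub_apply, cj_apply, sieg_s T hQs ha' (sieg_inv T hQs ha hb),
          sieg_perp T hb (by rw [T.qf.comm]; exact h0)]
        rw [neg_smul]; abel
      have h3 := kel_b T hM hs hQs hnc he hg' hk (selfAdj_cj T hκ hiso) h2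
      have h4 := htr _ _ _ h3
      exact neg_eq_zero.mp h4
    obtain ⟨c, hc⟩ := h1
    exact ⟨c, kel_b T hM hs hQs hnc he hg h hκ hc⟩
  apply c1 κ g hg h hκ
  -- a vector of s^⊥ outside F s
  obtain ⟨a, ha, has⟩ : ∃ a, B s a = 0 ∧ ∀ c : F, a ≠ c • s := by
    by_contra hcon
    push Not at hcon
    let L : (β → F) →ₗ[F] F :=
      { toFun := fun x => B s x
        map_add' := fun x y => T.qf.add_right s x y
        map_smul' := fun c x => T.qf.smul_right c s x }
    have h1 : LinearMap.ker L ≤ Submodule.span F {s} := by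
      intro x hx
      obtain ⟨c, hc⟩ := hcon x hx
      rw [hc]
      exact Submodule.smul_mem _ _ (Submodule.mem_span_singleton_self s)
    have h2 := L.finrank_range_add_finrank_ker
    have h3 := (Submodule.finrank_mono h1).trans (finrank_span_singleton hs).le
    have h4 : Module.finrank F (LinearMap.range L) ≤ 1 := by
      refine (Submodule.finrank_le _).trans ?_
      rw [Module.finrank_self]
    rw [Module.finrank_fintype_fun_eq_card] at h2
    omega
  obtain ⟨b, hb, hiso⟩ := T.exists_sieg hQs ha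
  obtain ⟨g', hg', hk⟩ := kel_comm T hM hg h hiso
  have ha' : B s (-a) = 0 := by rw [T.qf.neg_right, ha, neg_zero]
  have hbi := sieg_inv T hQs ha hb
  have e1 : (cj b κ - κ) s = (b : Matrix β β F) *ᵥ (κ s) - κ s := by
    rw [LinearMap.sub_apply, cj_apply, sieg_s T hQs ha' hbi]
  have h2 : B ((cj b κ - κ) s) s = 0 := by
    rw [e1, T.qf.sub_left]
    have h3 := T.B_iso hiso (κ s) s
    rw [sieg_s T hQs ha hb] at h3
    rw [h3, sub_self]
  obtain ⟨c, hc⟩ := c1 _ g' hg' hk (selfAdj_cj T hκ hiso) h2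
  have h3 := htr _ _ _ hc
  rw [hc, h3, zero_smul, LinearMap.zero_apply, hb] at e1
  by_contra hne
  apply has (B (κ s) a / B (κ s) s + Q a)
  have e2 : B (κ s) s • a = (B (κ s) a + Q a * B (κ s) s) • s := by
    rw [add_smul]
    have : (0 : β → F) = B (κ s) s • a - B (κ s) a • s - (Q a * B (κ s) s) • s := by
      rw [e1]; abel
    rw [sub_sub] at this
    exact (sub_eq_zero.mp this.symm)
  have e3 := congrArg (fun z => (B (κ s) s)⁻¹ • z) e2
  simp only [smul_smul, inv_mul_cancel₀ hne, one_smul] at e3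
  refine e3.trans ?_
  congr 1
  field_simp

/-- **`Stab_X(e ⊗ W) ≤ H`.** -/
theorem stabE (hM : Grp f₁ B f M) (hβ : (Fintype.card β : F) ≠ 0) (hβ3 : 3 ≤ Fintype.card β)
    {s : β → F} (hs : s ≠ 0) (hQs : Q s = 0) (hnc : NoC B M s)
    {e : Fin 2 → F} (he : e ≠ 0) {g : GL (Fin 2 × β) F} (hg : g ∈ M)
    (hE : ∀ w, ∃ w', (g : Matrix (Fin 2 × β) (Fin 2 × β) F) *ᵥ (ten e w) = ten e w') :
    ∃ x : GL (Fin 2) F × GL β F, kr x = g := by
  have hiso := hM.iso g hg
  obtain ⟨e', he'⟩ := exists_dual T he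
  have hee' : f₁ e e' = -1 := by rw [T.sym.skew, he']
  -- b
  let te : (β → F) →ₗ[F] (Fin 2 × β → F) :=
    { toFun := fun w => ten e w
      map_add' := fun x y => ten_add_right e x y
      map_smul' := fun c x => ten_smul_right c e x }
  let Z : (β → F) →ₗ[F] (β → F) :=
    - ((Lc f₁ e') ∘ₗ ((Matrix.toLin' (g : Matrix (Fin 2 × β) (Fin 2 × β) F)) ∘ₗ te))
  have hZ : ∀ w, (g : Matrix (Fin 2 × β) (Fin 2 × β) F) *ᵥ (ten e w) = ten e (Z w) := by
    intro w
    obtain ⟨w', hw'⟩ := hE w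
    have : Z w = - Lc f₁ e' ((g : Matrix (Fin 2 × β) (Fin 2 × β) F) *ᵥ (ten e w)) := by
      simp [Z, te, Matrix.toLin'_apply]
    rw [this, hw', L_ten T, hee', neg_smul, one_smul, neg_neg]
  obtain ⟨b, hb⟩ := exists_gl_of_injective Z (by
    intro w hw
    have h1 := hZ w
    rw [hw, ten_zero_right] at h1
    rcases ten_eq_zero (gl_mulVec_eq_zero g h1) with h | h
    · exact absurd h he
    · exact h)
  have hgb : ∀ w, (g : Matrix (Fin 2 × β) (Fin 2 × β) F) *ᵥ (ten e w) = ten e ((b : Matrix β β F) *ᵥ w) := by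
    intro w; rw [hZ, hb]
  -- conjugate of t_1
  obtain ⟨a₀, -, hA, hKA⟩ := exists_A T hM e 1
  set t := kr (a₀, (1 : GL β F)) with ht
  have htM : g * t * g⁻¹ ∈ M := M.mul_mem (M.mul_mem hg hA) (M.inv_mem hg)
  have hgbi : ∀ w, ((g⁻¹ : GL (Fin 2 × β) F) : Matrix (Fin 2 × β) (Fin 2 × β) F) *ᵥ (ten e w) =
      ten e (((b⁻¹ : GL β F) : Matrix β β F) *ᵥ w) := by
    intro w
    have h1 := hgb (((b⁻¹ : GL β F) : Matrix β β F) *ᵥ w)
    rw [gl_mulVec_inv] at h1
    rw [← h1, gl_inv_mulVec]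
  obtain ⟨κ, hκ, hK⟩ := exists_kel T he (hM.iso _ htM) (by
    intro w
    rw [gl_mul_mulVec, gl_mul_mulVec, hgbi, kel_fix T hKA, hgb, gl_mulVec_inv])
  obtain ⟨c, hc⟩ := kel_scalar T hM hβ hβ3 hs hQs hnc he htM hK hκ
  -- b (L v) = c L (g v)
  have hbL : ∀ v, (b : Matrix β β F) *ᵥ (Lc f₁ e v) = c • Lc f₁ e ((g : Matrix (Fin 2 × β) (Fin 2 × β) F) *ᵥ v) := by
    intro v
    have h1 := hK ((g : Matrix (Fin 2 × β) (Fin 2 × β) F) *ᵥ v)
    rw [gl_mul_mulVec, gl_mul_mulVec, gl_inv_mulVec, hKA v, one_smul, LinearMap.id_apply, Matrix.mulVec_add, hgb, hc,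
      LinearMap.smul_apply, LinearMap.id_apply] at h1
    exact ten_right_injective he (add_left_cancel h1)
  have hbB : ∀ x y, B ((b : Matrix β β F) *ᵥ x) ((b : Matrix β β F) *ᵥ y) = c * B x y := by
    intro x y
    have h1 := hbL (ten e' x)
    rw [L_ten T, he', one_smul] at h1
    rw [h1, T.qf.smul_left, ← form_L T, ← hgb, hiso, T.ten, he', one_mul]
  have hc0 : c ≠ 0 := by
    intro h0
    obtain ⟨y, hy⟩ := T.nd s hs
    have h1 := hbB (((b⁻¹ : GL β F) : Matrix β β F) *ᵥ s) (((b⁻¹ : GL β F) : Matrix β β F) *ᵥ y)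
    rw [gl_mulVec_inv, gl_mulVec_inv, h0, zero_mul] at h1
    exact hy h1
  -- the element a with a e = e, a e' = c⁻¹ e'
  let A' : (Fin 2 → F) →ₗ[F] (Fin 2 → F) :=
    { toFun := fun u => - f₁ u e' • e + (c⁻¹ * f₁ u e) • e'
      map_add' := fun x y => by
        rw [T.sym.bilinear.add_left, T.sym.bilinear.add_left]
        funext i
        simp only [Pi.add_apply, Pi.smul_apply, smul_eq_mul]
        ring
      map_smul' := fun d x => by
        rw [T.sym.bilinear.smul_left, T.sym.bilinear.smul_left]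
        funext i
        simp only [Pi.add_apply, Pi.smul_apply, smul_eq_mul, RingHom.id_apply]
        ring }
  have hA' : ∀ u, A' u = - f₁ u e' • e + (c⁻¹ * f₁ u e) • e' := fun u => rfl
  have hAm : ∀ u v, f₁ (A' u) (A' v) = c⁻¹ * f₁ u v := by
    intro u v
    conv_rhs => rw [expand T he' u, expand T he' v]
    rw [hA', hA']
    simp only [T.sym.bilinear.add_left, T.sym.bilinear.add_right, T.sym.bilinear.smul_left,
      T.sym.bilinear.smul_right, T.sym.alternating, he', hee']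
    ring
  obtain ⟨a, ha⟩ := exists_gl_of_injective A' (by
    intro u hu
    apply T.eq_zero_of_f₁
    intro u'
    have h1 := hAm u u'
    rw [hu, T.f₁_zero_left] at h1
    exact ((mul_eq_zero.mp h1.symm).resolve_left (inv_ne_zero hc0)))
  have hae : (a : Matrix (Fin 2) (Fin 2) F) *ᵥ e = e := by
    rw [ha, hA', T.sym.alternating, mul_zero, zero_smul, add_zero, hee', neg_neg, one_smul]
  have hkM : kr (a, b) ∈ M := hM.mem a b c⁻¹ (inv_ne_zero hc0)
    (by intro u v; rw [ha, ha, hAm])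
    (by intro x y; rw [hbB, inv_inv])
  set k := kr (a, b) with hk
  obtain ⟨κ', hκ', hK'⟩ := exists_kel T he (hM.iso _ (M.mul_mem (M.inv_mem hkM) hg)) (by
    intro w
    rw [gl_mul_mulVec, hgb]
    have h1 : (k : Matrix (Fin 2 × β) (Fin 2 × β) F) *ᵥ (ten e w) = ten e ((b : Matrix β β F) *ᵥ w) := by
      rw [hk, kr_mulVec_ten]
      show ten ((a : Matrix (Fin 2) (Fin 2) F) *ᵥ e) ((b : Matrix β β F) *ᵥ w) = _
      rw [hae]
    rw [← h1, gl_inv_mulVec])
  obtain ⟨c', hc'⟩ := kel_scalar T hM hβ hβ3 hs hQs hnc he (M.mul_mem (M.inv_mem hkM) hg) hK' hκ'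
  obtain ⟨a₁, -, -, hKA₁⟩ := exists_A T hM e c'
  have hfin : k⁻¹ * g = kr (a₁, (1 : GL β F)) := by
    apply gl_ext_ten
    intro u w
    rw [hK', hKA₁, hc']
  refine ⟨(a, b) * (a₁, 1), ?_⟩
  rw [map_mul, ← hfin, ← hk, mul_inv_cancel_left]

end Cfsg.Agent.H919.Four
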