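import Cfsg.Agent.H919.FourC

/-!
# `Sp_2(q) ⊗ O_n(q)` in `Sp_{2n}(q)`: the TI property of `t ⊗ 1` (helper919)
-/

set_option autoImplicit false
set_option linter.unusedSectionVars false

open Cfsg Cfsg.Geo Matrix
open scoped Kronecker

namespace Cfsg.Agent.H919.Four

open Cfsg.Agent.H929 (QF rB)
open Cfsg.Agent.H872 Cfsg.Agent.H924.Ten

variable {β : Type} [Fintype β] [DecidableEq β] {F : Type*} [Field F]
variable {f₁ : (Fin 2 → F) → (Fin 2 → F) → F} {Q : (β → F) → F} {B : (β → F) → (β → F) → F}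
  {f : (Fin 2 × β → F) → (Fin 2 × β → F) → F}

variable (T : Tens f₁ Q B f) {M : Subgroup (GL (Fin 2 × β) F)} (hM : Grp f₁ B f M)

include T

/-- powers of a transvection of the plane -/
lemma tU_pow {e : Fin 2 → F} {c : F} {a : GL (Fin 2) F}
    (ha : ∀ u, (a : Matrix (Fin 2) (Fin 2) F) *ᵥ u = u + (c * f₁ u e) • e) (n : ℕ) (u : Fin 2 → F) :
    ((a ^ n : GL (Fin 2) F) : Matrix (Fin 2) (Fin 2) F) *ᵥ u = u + ((n : F) * c * f₁ u e) • e := by
  induction n with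
  | zero => simp
  | succ n ih =>
    rw [pow_succ', gl_mul_mulVec, ih, ha, T.sym.bilinear.add_left, T.sym.bilinear.smul_left, T.sym.alternating]
    push_cast
    module

/-- the hypothesis on the second factor: it has no isometry `b ≠ 1` with `(b - 1)² = 0` -/
def NoSq (B : (β → F) → (β → F) → F) : Prop :=
  ∀ b : GL β F, (∀ x y, B ((b : Matrix β β F) *ᵥ x) ((b : Matrix β β F) *ᵥ y) = B x y) →
    (∀ x, (b : Matrix β β F) *ᵥ ((b : Matrix β β F) *ᵥ x) + x = (2 : F) • ((b : Matrix β β F) *ᵥ x)) → b = 1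

/-- **TI_A**: a conjugate of `t ⊗ 1` which is a pure tensor comes from a pure tensor. -/
theorem tiA [Finite F] (hM : Grp f₁ B f M) (hβ : (Fintype.card β : F) ≠ 0) (hβ3 : 3 ≤ Fintype.card β)
    {s : β → F} (hs : s ≠ 0) (hQs : Q s = 0) (hnc : NoC B M s) (hsq : NoSq B)
    {e : Fin 2 → F} (he : e ≠ 0) {c : F} (hc : c ≠ 0) {a : GL (Fin 2) F}
    (ha : ∀ u, (a : Matrix (Fin 2) (Fin 2) F) *ᵥ u = u + (c * f₁ u e) • e)
    {g : GL (Fin 2 × β) F} (hg : g ∈ M)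
    (hx : ∃ x : GL (Fin 2) F × GL β F, kr x = g * kr (a, (1 : GL β F)) * g⁻¹) :
    ∃ x : GL (Fin 2) F × GL β F, kr x = g := by
  classical
  obtain ⟨p, hp⟩ := CharP.exists F
  have hpp : p.Prime := by
    rcases CharP.char_is_prime_or_zero F p with h | h
    · exact h
    · exfalso
      subst h
      have := CharP.charP_to_charZero F
      exact not_finite F
  have : Fact p.Prime := ⟨hpp⟩
  set d := kr (a, (1 : GL β F)) with hd
  have hiso_a : ∀ u v, f₁ ((a : Matrix (Fin 2) (Fin 2) F) *ᵥ u) ((a : Matrix (Fin 2) (Fin 2) F) *ᵥ v) = f₁ u v := by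
    intro u v
    rw [ha, ha]
    simp only [T.sym.bilinear.add_left, T.sym.bilinear.add_right, T.sym.bilinear.smul_left,
      T.sym.bilinear.smul_right, T.sym.alternating, T.sym.skew e v]
    ring
  have hdM : d ∈ M := T.kr_one_mem hM hiso_a
  have hd1 : ∀ v, (d : Matrix (Fin 2 × β) (Fin 2 × β) F) *ᵥ v = v + ten e (c • Lc f₁ e v) := kel_tU T e c ha
  have hdp : d ^ p ^ 1 = 1 := by
    have h1 : a ^ p = 1 := by
      apply Units.ext
      apply Matrix.ext_of_mulVec_single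
      intro i
      rw [tU_pow T ha, CharP.cast_eq_zero F p, Units.val_one, Matrix.one_mulVec]
      simp
    rw [pow_one, hd, ← map_pow, Prod.pow_mk, one_pow, h1]
    exact map_one kr
  obtain ⟨⟨y₁, y₂⟩, hy⟩ := hx
  have hyM : kr (y₁, y₂) ∈ M := by rw [hy]; exact M.mul_mem (M.mul_mem hg hdM) (M.inv_mem hg)
  have hyp : kr (y₁, y₂) ^ p ^ 1 = 1 := by
    rw [hy, conj_pow, hdp, mul_one, mul_inv_cancel]
  obtain ⟨a', b', hab, ha'iso, hb'iso, ⟨e', he', c', ha'⟩, -⟩ := unip T hs hM hyM hyp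
  -- `h (g v) = g (d v)`
  have hconj : ∀ v, (kr (a', b') : Matrix (Fin 2 × β) (Fin 2 × β) F) *ᵥ
      ((g : Matrix (Fin 2 × β) (Fin 2 × β) F) *ᵥ v) = (g : Matrix (Fin 2 × β) (Fin 2 × β) F) *ᵥ
      ((d : Matrix (Fin 2 × β) (Fin 2 × β) F) *ᵥ v) := by
    intro v
    rw [hab, hy, gl_mul_mulVec, gl_mul_mulVec, gl_inv_mulVec]
  have hdd : ∀ v, (d : Matrix (Fin 2 × β) (Fin 2 × β) F) *ᵥ ((d : Matrix (Fin 2 × β) (Fin 2 × β) F) *ᵥ v) + v =
      (2 : F) • ((d : Matrix (Fin 2 × β) (Fin 2 × β) F) *ᵥ v) := by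
    intro v
    rw [hd1, hd1, map_add, L_ten T, T.sym.alternating, zero_smul, add_zero]
    module
  have hhh : ∀ v, (kr (a', b') : Matrix (Fin 2 × β) (Fin 2 × β) F) *ᵥ
      ((kr (a', b') : Matrix (Fin 2 × β) (Fin 2 × β) F) *ᵥ v) + v =
      (2 : F) • ((kr (a', b') : Matrix (Fin 2 × β) (Fin 2 × β) F) *ᵥ v) := by
    intro v
    have h1 : v = (g : Matrix (Fin 2 × β) (Fin 2 × β) F) *ᵥ
        (((g⁻¹ : GL (Fin 2 × β) F) : Matrix (Fin 2 × β) (Fin 2 × β) F) *ᵥ v) := by rw [gl_mulVec_inv]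
    rw [h1, hconj, hconj, ← Matrix.mulVec_add, hdd, Matrix.mulVec_smul]
  have hae' : (a' : Matrix (Fin 2) (Fin 2) F) *ᵥ e' = e' := by
    rw [ha', T.sym.alternating, mul_zero, zero_smul, add_zero]
  have hb1 : b' = 1 := by
    apply hsq b' hb'iso
    intro x
    apply ten_right_injective he'
    have h1 := hhh (ten e' x)
    rw [kr_mulVec_ten, kr_mulVec_ten, hae', hae', ← ten_add_right, ← ten_smul_right] at h1
    exact h1
  subst hb1
  have hKel : Kel f₁ e' (c' • LinearMap.id) (kr (a', (1 : GL β F))) := kel_tU T e' c' ha'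
  -- image of `e ⊗ W`
  obtain ⟨e₁, he₁⟩ := exists_dual T he
  have himg : ∀ w, ∃ w', (g : Matrix (Fin 2 × β) (Fin 2 × β) F) *ᵥ (ten e w) = ten e' w' := by
    intro w
    have h1 := hconj (ten e₁ (c⁻¹ • w))
    rw [hKel, hd1, L_ten T, he₁, one_smul, smul_smul, mul_inv_cancel₀ hc, one_smul, Matrix.mulVec_add] at h1
    exact ⟨_, (add_left_cancel h1).symm⟩
  obtain ⟨a₁, ha₁, ha₁iso⟩ := exists_map T.sym he' he
  obtain ⟨x, hx⟩ := stabE T hM hβ hβ3 hs hQs hnc he (g := kr (a₁, (1 : GL β F)) * g)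
    (M.mul_mem (T.kr_one_mem hM ha₁iso) hg) (by
      intro w
      obtain ⟨w', hw'⟩ := himg w
      refine ⟨w', ?_⟩
      rw [gl_mul_mulVec, hw', kr_mulVec_ten, ha₁, Units.val_one, Matrix.one_mulVec])
  refine ⟨(a₁, (1 : GL β F))⁻¹ * x, ?_⟩
  rw [map_mul, map_inv, hx]
  group

end Cfsg.Agent.H919.Four
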