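import Mathlib
import Cfsg.Agent.H189.TraceFix

/-!
# The relative trace of an `H`-equivariant endomorphism of `End V` (helper919)

Let `H, M ≤ GL V`, `Φ₀` an `H ∩ M`-equivariant linear endomorphism of `End V`, `q > 3`. There is an `M`-equivariant `Φ` which
agrees with `Φ₀` on the centraliser of every `N` with `N² = 0` such that the elements `1 + c N` lie in `H ∩ M` and are TI:
`g (1 + c N) g⁻¹ ∈ H → g ∈ H` for `g ∈ M`, `c ≠ 0`.
-/

set_option autoImplicit false

namespace Cfsg.Agent.H919

variable {ι : Type*} [Fintype ι] [DecidableEq ι] {F : Type*} [Field F]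

/-- the element `1 + c N` -/
def uu (N : Matrix ι ι F) (hN : N * N = 0) (c : F) : Matrix.GeneralLinearGroup ι F where
  val := 1 + c • N
  inv := 1 - c • N
  val_inv := by
    rw [add_mul, one_mul, mul_sub, mul_one, smul_mul_smul_comm, hN, smul_zero]
    abel
  inv_val := by
    rw [sub_mul, one_mul, mul_add, mul_one, smul_mul_smul_comm, hN, smul_zero]
    abel

lemma coe_uu (N : Matrix ι ι F) (hN : N * N = 0) (c : F) : (uu N hN c : Matrix ι ι F) = 1 + c • N := rfl

lemma coe_uu_inv (N : Matrix ι ι F) (hN : N * N = 0) (c : F) :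
    (((uu N hN c)⁻¹ : Matrix.GeneralLinearGroup ι F) : Matrix ι ι F) = 1 - c • N := rfl

lemma uu_mul (N : Matrix ι ι F) (hN : N * N = 0) (c d : F) : uu N hN (c + d) = uu N hN c * uu N hN d := by
  apply Units.ext
  rw [Units.val_mul, coe_uu, coe_uu, coe_uu, add_mul, one_mul, mul_add, mul_one, smul_mul_smul_comm, hN, smul_zero,
    add_smul]
  abel

lemma uu_zero (N : Matrix ι ι F) (hN : N * N = 0) : uu N hN 0 = 1 := by
  apply Units.ext
  rw [coe_uu, zero_smul, add_zero, Units.val_one]

/-- the trace of `1 + F N` on `End V` vanishes for `q > 3` -/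
lemma sum_uu [Fintype F] (hq : 3 < Fintype.card F) (N y : Matrix ι ι F) :
    ∑ c : F, (1 + c • N) * y * (1 - c • N) = 0 := by
  have h0 : ∑ c : F, c ^ 0 = 0 := FiniteField.sum_pow_lt_card_sub_one F 0 (by omega)
  have h1 : ∑ c : F, c ^ 1 = 0 := FiniteField.sum_pow_lt_card_sub_one F 1 (by omega)
  have h2 : ∑ c : F, c ^ 2 = 0 := FiniteField.sum_pow_lt_card_sub_one F 2 (by omega)
  have h : ∀ c : F, (1 + c • N) * y * (1 - c • N) = c ^ 0 • y + c ^ 1 • (N * y - y * N) - c ^ 2 • (N * y * N) := by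
    intro c
    rw [pow_zero, one_smul, pow_one, sq, add_mul, one_mul, mul_sub, mul_one, add_mul, smul_mul_assoc, mul_smul_comm,
      smul_mul_smul_comm, smul_sub]
    abel
  rw [Finset.sum_congr rfl fun c _ => h c, Finset.sum_sub_distrib, Finset.sum_add_distrib, ← Finset.sum_smul,
    ← Finset.sum_smul, ← Finset.sum_smul, h0, h1, h2]
  simp

/-- **The trace lemma** for `End V`. -/
theorem trace_fix [Fintype F] (hq : 3 < Fintype.card F) (M H : Subgroup (Matrix.GeneralLinearGroup ι F))
    (Φ₀ : Matrix ι ι F →ₗ[F] Matrix ι ι F)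
    (h0 : ∀ h ∈ H, h ∈ M → ∀ z, Φ₀ ((h : Matrix ι ι F) * z * ((h⁻¹ : Matrix.GeneralLinearGroup ι F) : Matrix ι ι F)) =
      (h : Matrix ι ι F) * Φ₀ z * ((h⁻¹ : Matrix.GeneralLinearGroup ι F) : Matrix ι ι F)) :
    ∃ Φ : Matrix ι ι F →ₗ[F] Matrix ι ι F,
      (∀ g ∈ M, ∀ z, Φ ((g : Matrix ι ι F) * z * ((g⁻¹ : Matrix.GeneralLinearGroup ι F) : Matrix ι ι F)) =
        (g : Matrix ι ι F) * Φ z * ((g⁻¹ : Matrix.GeneralLinearGroup ι F) : Matrix ι ι F)) ∧
      ∀ (N : Matrix ι ι F) (hN : N * N = 0), N ≠ 0 → (∀ c, uu N hN c ∈ M) → (∀ c, uu N hN c ∈ H) →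
        (∀ c, c ≠ 0 → ∀ g ∈ M, g * uu N hN c * g⁻¹ ∈ H → g ∈ H) → ∀ z, N * z = z * N → Φ z = Φ₀ z := by
  classical
  let ρ : M →* Module.End F (Matrix ι ι F) :=
    { toFun := fun g =>
        { toFun := fun z => ((g : Matrix.GeneralLinearGroup ι F) : Matrix ι ι F) * z *
            (((g : Matrix.GeneralLinearGroup ι F)⁻¹ : Matrix.GeneralLinearGroup ι F) : Matrix ι ι F)
          map_add' := fun x y => by rw [mul_add, add_mul]
          map_smul' := fun c x => by rw [mul_smul_comm, smul_mul_assoc]; rfl }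
      map_one' := by
        apply LinearMap.ext
        intro z
        simp
      map_mul' := fun g g' => by
        apply LinearMap.ext
        intro z
        show ((g * g' : Matrix.GeneralLinearGroup ι F) : Matrix ι ι F) * z *
          (((g * g' : Matrix.GeneralLinearGroup ι F)⁻¹ : Matrix.GeneralLinearGroup ι F) : Matrix ι ι F) =
          ((g : Matrix.GeneralLinearGroup ι F) : Matrix ι ι F) *
            (((g' : Matrix.GeneralLinearGroup ι F) : Matrix ι ι F) * z *
            (((g' : Matrix.GeneralLinearGroup ι F)⁻¹ : Matrix.GeneralLinearGroup ι F) : Matrix ι ι F)) *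
            (((g : Matrix.GeneralLinearGroup ι F)⁻¹ : Matrix.GeneralLinearGroup ι F) : Matrix ι ι F)
        rw [mul_inv_rev, Units.val_mul, Units.val_mul]
        simp only [mul_assoc] }
  have hρ : ∀ (g : M) z, ρ g z = ((g : Matrix.GeneralLinearGroup ι F) : Matrix ι ι F) * z *
            (((g : Matrix.GeneralLinearGroup ι F)⁻¹ : Matrix.GeneralLinearGroup ι F) : Matrix ι ι F) := fun g z => rfl
  obtain ⟨Φ, h1, h2⟩ := Cfsg.Agent.H189.TraceFix.exists_trace ρ (H.subgroupOf M) Φ₀ (by
    intro h hh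
    apply LinearMap.ext
    intro z
    show ρ h (Φ₀ z) = Φ₀ (ρ h z)
    rw [hρ, hρ, h0 _ (Subgroup.mem_subgroupOf.mp hh) h.2])
  refine ⟨Φ, ?_, ?_⟩
  · intro g hg z
    have := congrArg (fun L : Module.End F (Matrix ι ι F) => L z) (h1 ⟨g, hg⟩)
    exact this.symm
  · intro N hN hN0 hNM hNH hTI z hz
    let φ : Multiplicative F →* M :=
      { toFun := fun c => ⟨uu N hN (Multiplicative.toAdd c), hNM _⟩
        map_one' := Subtype.ext (uu_zero N hN)
        map_mul' := fun c d => Subtype.ext (uu_mul N hN _ _) }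
    have hφ : ∀ c, ((φ c : M) : Matrix.GeneralLinearGroup ι F) = uu N hN (Multiplicative.toAdd c) := fun c => rfl
    have hinj : Function.Injective φ := by
      intro c d hcd
      have h3 : uu N hN (Multiplicative.toAdd c) = uu N hN (Multiplicative.toAdd d) := congrArg Subtype.val hcd
      have h4 := congrArg (fun x : Matrix.GeneralLinearGroup ι F => (x : Matrix ι ι F)) h3
      simp only [coe_uu] at h4
      have h5 := add_left_cancel h4
      exact Multiplicative.toAdd.injective (smul_left_injective F hN0 h5)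
    have : Fintype φ.range := Fintype.ofFinite _
    obtain ⟨y, hy⟩ := h2 φ.range (by
      rintro _ ⟨c, rfl⟩
      exact Subgroup.mem_subgroupOf.mpr (hNH _)) (by
      rintro g hg _ ⟨c, rfl⟩ hc
      by_cases hc0 : Multiplicative.toAdd c = 0
      · have : c = 1 := hc0
        rw [this, map_one]
      · exfalso
        apply hg
        have h3 := hTI _ hc0 ((g : Matrix.GeneralLinearGroup ι F)⁻¹) (M.inv_mem g.2) (by
          have h4 := Subgroup.mem_subgroupOf.mp hc
          rw [inv_inv]
          exact h4)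
        rw [Subgroup.mem_subgroupOf]
        simpa using H.inv_mem h3) z (by
      rintro _ ⟨c, rfl⟩
      rw [hρ, hφ]
      have h5 : (uu N hN (Multiplicative.toAdd c) : Matrix ι ι F) * z = z * (uu N hN (Multiplicative.toAdd c) : Matrix ι ι F) := by
        rw [coe_uu, add_mul, mul_add, one_mul, mul_one, smul_mul_assoc, mul_smul_comm, hz]
      rw [h5, mul_assoc, Units.mul_inv, mul_one])
    rw [hy]
    have h3 : ∑ c : φ.range, ρ c y = ∑ c : Multiplicative F, ρ (φ c) y := by
      rw [← Equiv.sum_comp (MonoidHom.ofInjective hinj).toEquiv]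
      rfl
    have h4 : ∑ c : Multiplicative F, ρ (φ c) y = ∑ c : F, (1 + c • N) * y * (1 - c • N) := by
      rw [← Equiv.sum_comp (Multiplicative.ofAdd : F ≃ Multiplicative F)]
      rfl
    rw [h3, h4, sum_uu hq, add_zero]

end Cfsg.Agent.H919
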