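import Cfsg.Agent.H919.FourD
import Cfsg.Agent.H919.TraceUni

/-!
# `Sp_2(q) ⊗ O_n(q)` in `Sp_{2n}(q)`: the trace argument, `q ≥ 5` (helper919)
-/

set_option autoImplicit false
set_option linter.unusedSectionVars false

open Cfsg Cfsg.Geo Matrix
open scoped Kronecker

namespace Cfsg.Agent.H919.Four

open Cfsg.Agent.H929 (QF rB)
open Cfsg.Agent.H872 Cfsg.Agent.H924.Ten

section Tr

variable {α β : Type} [Fintype α] [DecidableEq α] [Fintype β] [DecidableEq β] {F : Type*} [Field F]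

/-- two linear maps which agree on pure matrices are equal -/
lemma kron_ext {Y : Type*} [AddCommMonoid Y] [Module F Y] {L L' : Matrix (α × β) (α × β) F →ₗ[F] Y}
    (h : ∀ (x : Matrix α α F) (y : Matrix β β F), L (x ⊗ₖ y) = L' (x ⊗ₖ y)) : L = L' := by
  apply Matrix.ext_linearMap
  rintro ⟨i, j⟩ ⟨i', j'⟩
  apply LinearMap.ext_ring
  have h1 := h (Matrix.single i i' 1) (Matrix.single j j' 1)
  rw [Matrix.single_kronecker_single, mul_one] at h1
  exact h1

/-- the partial trace over the second factor -/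
def ptr : Matrix (α × β) (α × β) F →ₗ[F] Matrix α α F where
  toFun z := Matrix.of fun i i' => ∑ j, z (i, j) (i', j)
  map_add' x y := by
    ext i i'
    simp [Finset.sum_add_distrib]
  map_smul' c x := by
    ext i i'
    simp [Finset.mul_sum]

lemma ptr_kron (x : Matrix α α F) (y : Matrix β β F) : ptr (x ⊗ₖ y) = Matrix.trace y • x := by
  ext i i'
  simp only [ptr, LinearMap.coe_mk, AddHom.coe_mk, Matrix.of_apply, Matrix.kroneckerMap_apply, Matrix.smul_apply,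
    smul_eq_mul, Matrix.trace, Matrix.diag_apply, Finset.sum_mul]
  exact Finset.sum_congr rfl fun j _ => mul_comm _ _

/-- `z ↦ tr_W(z) ⊗ 1` -/
def phi0 : Matrix (α × β) (α × β) F →ₗ[F] Matrix (α × β) (α × β) F where
  toFun z := ptr z ⊗ₖ (1 : Matrix β β F)
  map_add' x y := by rw [map_add, Matrix.add_kronecker]
  map_smul' c x := by rw [map_smul, Matrix.smul_kronecker]; rfl

lemma phi0_apply (z : Matrix (α × β) (α × β) F) : phi0 z = ptr z ⊗ₖ (1 : Matrix β β F) := rfl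

lemma phi0_kron (x : Matrix α α F) (y : Matrix β β F) : phi0 (x ⊗ₖ y) = Matrix.trace y • (x ⊗ₖ (1 : Matrix β β F)) := by
  rw [phi0_apply, ptr_kron, Matrix.smul_kronecker]

lemma phi0_conj (a : GL α F) (b : GL β F) (z : Matrix (α × β) (α × β) F) :
    phi0 ((kr (a, b) : Matrix (α × β) (α × β) F) * z * (((kr (a, b))⁻¹ : GL (α × β) F) : Matrix (α × β) (α × β) F)) =
      (kr (a, b) : Matrix (α × β) (α × β) F) * phi0 z * (((kr (a, b))⁻¹ : GL (α × β) F) : Matrix (α × β) (α × β) F) := by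
  let C : Matrix (α × β) (α × β) F →ₗ[F] Matrix (α × β) (α × β) F :=
    { toFun := fun z => (kr (a, b) : Matrix (α × β) (α × β) F) * z *
        (((kr (a, b))⁻¹ : GL (α × β) F) : Matrix (α × β) (α × β) F)
      map_add' := fun x y => by rw [mul_add, add_mul]
      map_smul' := fun c x => by rw [mul_smul_comm, smul_mul_assoc]; rfl }
  have hinv : (((kr (a, b))⁻¹ : GL (α × β) F) : Matrix (α × β) (α × β) F) =
      ((a⁻¹ : GL α F) : Matrix α α F) ⊗ₖ ((b⁻¹ : GL β F) : Matrix β β F) := by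
    rw [← map_inv, coe_kr]
    rfl
  have hC : ∀ (x : Matrix α α F) (y : Matrix β β F), C (x ⊗ₖ y) =
      ((a : Matrix α α F) * x * ((a⁻¹ : GL α F) : Matrix α α F)) ⊗ₖ
        ((b : Matrix β β F) * y * ((b⁻¹ : GL β F) : Matrix β β F)) := by
    intro x y
    show (kr (a, b) : Matrix (α × β) (α × β) F) * (x ⊗ₖ y) *
      (((kr (a, b))⁻¹ : GL (α × β) F) : Matrix (α × β) (α × β) F) = _
    rw [hinv, coe_kr]
    show (a : Matrix α α F) ⊗ₖ (b : Matrix β β F) * (x ⊗ₖ y) * _ = _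
    rw [← Matrix.mul_kronecker_mul, ← Matrix.mul_kronecker_mul]
  have key : phi0 ∘ₗ C = C ∘ₗ phi0 := by
    apply kron_ext
    intro x y
    rw [LinearMap.comp_apply, LinearMap.comp_apply, hC, phi0_kron, phi0_kron, map_smul, hC, mul_one, Units.mul_inv,
      Matrix.trace_mul_comm, ← mul_assoc, Units.inv_mul, one_mul]
  exact congrArg (fun L : Matrix (α × β) (α × β) F →ₗ[F] Matrix (α × β) (α × β) F => L z) key

lemma kron_one_inj [Nonempty β] {x y : Matrix α α F} (h : x ⊗ₖ (1 : Matrix β β F) = y ⊗ₖ (1 : Matrix β β F)) : x = y := by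
  obtain ⟨j⟩ := ‹Nonempty β›
  ext i i'
  have h1 := congrFun (congrFun h (i, j)) (i', j)
  simpa using h1

end Tr

variable {β : Type} [Fintype β] [DecidableEq β] {F : Type*} [Field F]
variable {f₁ : (Fin 2 → F) → (Fin 2 → F) → F} {Q : (β → F) → F} {B : (β → F) → (β → F) → F}
  {f : (Fin 2 × β → F) → (Fin 2 × β → F) → F}

/-- the matrix of `u ↦ f₁(u, e) e` -/
def Nm (f₁ : (Fin 2 → F) → (Fin 2 → F) → F) (e : Fin 2 → F) : Matrix (Fin 2) (Fin 2) F :=
  Matrix.vecMulVec e (phi f₁ e)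

variable (T : Tens f₁ Q B f) {M : Subgroup (GL (Fin 2 × β) F)} (hM : Grp f₁ B f M)

include T

lemma Nm_mulVec (e u : Fin 2 → F) : Nm f₁ e *ᵥ u = f₁ u e • e := by
  rw [Nm, Matrix.vecMulVec_mulVec, phi_dot T.sym]
  funext i
  simp [mul_comm]

lemma Nm_sq (e : Fin 2 → F) : Nm f₁ e * Nm f₁ e = 0 := by
  rw [Nm, Matrix.vecMulVec_mul_vecMulVec, phi_dot T.sym, T.sym.alternating, zero_smul, Matrix.vecMulVec_zero]

lemma NN_sq (e : Fin 2 → F) : (Nm f₁ e ⊗ₖ (1 : Matrix β β F)) * (Nm f₁ e ⊗ₖ (1 : Matrix β β F)) = 0 := by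
  rw [← Matrix.mul_kronecker_mul, Nm_sq T, Matrix.zero_kronecker]

/-- `1 + c N_e ⊗ 1` -/
lemma uu_eq_kr (e : Fin 2 → F) (c : F) {a : GL (Fin 2) F}
    (ha : ∀ u, (a : Matrix (Fin 2) (Fin 2) F) *ᵥ u = u + (c * f₁ u e) • e) :
    uu (Nm f₁ e ⊗ₖ (1 : Matrix β β F)) (NN_sq T e) c = kr (a, (1 : GL β F)) := by
  apply Units.ext
  rw [coe_uu, coe_kr]
  show _ = (a : Matrix (Fin 2) (Fin 2) F) ⊗ₖ (1 : Matrix β β F)
  have h1 : (a : Matrix (Fin 2) (Fin 2) F) = 1 + c • Nm f₁ e := by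
    apply Matrix.ext_of_mulVec_single
    intro i
    rw [ha, Matrix.add_mulVec, Matrix.one_mulVec, Matrix.smul_mulVec, Nm_mulVec T, smul_smul]
  rw [h1, Matrix.add_kronecker, Matrix.smul_kronecker, Matrix.one_kronecker_one]

/-- the plane has enough transvections -/
lemma span_Nm (x : Matrix (Fin 2) (Fin 2) F) : ∃ c₀ c₁ c₂ c₃ : F, x = c₀ • (1 : Matrix (Fin 2) (Fin 2) F) +
    c₁ • Nm f₁ (Pi.single 0 1) + c₂ • Nm f₁ (Pi.single 1 1) + c₃ • Nm f₁ (Pi.single 0 1 + Pi.single 1 1) := by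
  set k := f₁ (Pi.single 0 1) (Pi.single 1 1) with hk
  have hexp : ∀ u : Fin 2 → F, u = u 0 • Pi.single 0 1 + u 1 • Pi.single 1 1 := by
    intro u
    funext i
    fin_cases i <;> simp
  have hk' : f₁ (Pi.single 1 1) (Pi.single 0 1) = -k := T.sym.skew _ _
  have hk0 : k ≠ 0 := by
    intro h0
    obtain ⟨x, hx⟩ := (T.sym.nondegenerate (Pi.single 0 1) (by
      intro h; have := congrFun h 0; simp at this)).2
    apply hx
    rw [hexp x, T.sym.bilinear.add_right, T.sym.bilinear.smul_right, T.sym.bilinear.smul_right,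
      T.sym.alternating, ← hk, h0]
    ring
  have h2 := T.two
  refine ⟨(x 0 0 + x 1 1) / 2, -(x 0 1 / k + (x 0 0 - x 1 1) / (2 * k)), x 1 0 / k - (x 0 0 - x 1 1) / (2 * k),
    (x 0 0 - x 1 1) / (2 * k), ?_⟩
  ext i j
  fin_cases i <;> fin_cases j <;>
  simp [Nm, Matrix.vecMulVec_apply, phi, T.sym.bilinear.add_right, T.sym.alternating, ← hk, hk'] <;>
  field_simp <;> ring

/-- **Main result for `q ≥ 5`**: an overgroup of `Sp_2 ⊗ O(W)` without central elements is a group of pure tensors. -/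
theorem main5 [Fintype F] (hq : 3 < Fintype.card F) (hM : Grp f₁ B f M) (hβ : (Fintype.card β : F) ≠ 0)
    (hβ3 : 3 ≤ Fintype.card β) {s : β → F} (hs : s ≠ 0) (hQs : Q s = 0) (hnc : NoC B M s) (hsq : NoSq B)
    {g : GL (Fin 2 × β) F} (hg : g ∈ M) : ∃ x : GL (Fin 2) F × GL β F, kr x = g := by
  classical
  have : Nonempty β := by
    obtain ⟨j, hj⟩ := Function.ne_iff.mp hs
    exact ⟨j⟩
  set H : Subgroup (GL (Fin 2 × β) F) := (kr (α := Fin 2) (β := β) (F := F)).range with hH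
  obtain ⟨Φ, h1, h2⟩ := trace_fix hq M H (phi0 (α := Fin 2) (β := β) (F := F)) (by
    rintro _ ⟨⟨a, b⟩, rfl⟩ _ z
    exact phi0_conj a b z)
  have key : ∀ e : Fin 2 → F, e ≠ 0 → ∀ z, (Nm f₁ e ⊗ₖ (1 : Matrix β β F)) * z = z * (Nm f₁ e ⊗ₖ (1 : Matrix β β F)) →
      Φ z = phi0 z := by
    intro e he z hz
    refine h2 (Nm f₁ e ⊗ₖ (1 : Matrix β β F)) (NN_sq T e) ?_ ?_ ?_ ?_ z hz
    · intro h0
      obtain ⟨e₁, he₁⟩ := exists_dual T he
      have h3 : Nm f₁ e = 0 := kron_one_inj (β := β) (by rw [h0, Matrix.zero_kronecker])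
      have h4 := Nm_mulVec T e e₁
      rw [h3, Matrix.zero_mulVec, he₁, one_smul] at h4
      exact he h4.symm
    · intro c
      obtain ⟨a, ha, haM, -⟩ := exists_A T hM e c
      rw [uu_eq_kr T e c ha]
      exact haM
    · intro c
      obtain ⟨a, ha, haM, -⟩ := exists_A T hM e c
      rw [uu_eq_kr T e c ha]
      exact ⟨_, rfl⟩
    · intro c hc g hg hx
      obtain ⟨a, ha, haM, -⟩ := exists_A T hM e c
      rw [uu_eq_kr T e c ha] at hx
      exact tiA T hM hβ hβ3 hs hQs hnc hsq he hc ha hg hx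
  have hΦ : Φ = phi0 := by
    apply kron_ext
    intro x y
    obtain ⟨c₀, c₁, c₂, c₃, hx⟩ := span_Nm T x
    have hn : ∀ e : Fin 2 → F, e ≠ 0 → Φ (Nm f₁ e ⊗ₖ y) = phi0 (Nm f₁ e ⊗ₖ y) := by
      intro e he
      apply key e he
      rw [← Matrix.mul_kronecker_mul, ← Matrix.mul_kronecker_mul, Nm_sq T, Matrix.zero_kronecker, Matrix.zero_kronecker]
    have h0 : (Pi.single 0 1 : Fin 2 → F) ≠ 0 := by intro h; have := congrFun h 0; simp at this
    have h1' : (Pi.single 1 1 : Fin 2 → F) ≠ 0 := by intro h; have := congrFun h 1; simp at this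
    have h01 : (Pi.single 0 1 + Pi.single 1 1 : Fin 2 → F) ≠ 0 := by intro h; have := congrFun h 0; simp at this
    have h3 : Φ ((1 : Matrix (Fin 2) (Fin 2) F) ⊗ₖ y) = phi0 ((1 : Matrix (Fin 2) (Fin 2) F) ⊗ₖ y) := by
      apply key _ h0
      rw [← Matrix.mul_kronecker_mul, ← Matrix.mul_kronecker_mul, one_mul, mul_one, one_mul, mul_one]
    rw [hx]
    simp only [Matrix.add_kronecker, Matrix.smul_kronecker, map_add, map_smul, hn _ h0, hn _ h1', hn _ h01, h3]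
  -- the conjugate of `N_e ⊗ 1`
  have he : (Pi.single 0 1 : Fin 2 → F) ≠ 0 := by intro h; have := congrFun h 0; simp at this
  set e : Fin 2 → F := Pi.single 0 1 with hedef
  set N := Nm f₁ e ⊗ₖ (1 : Matrix β β F) with hN
  have h3 : phi0 N = (Fintype.card β : F) • N := by
    rw [hN, phi0_kron, Matrix.trace_one]
  obtain ⟨Y, hY⟩ : ∃ Y : Matrix (Fin 2) (Fin 2) F,
      (g : Matrix (Fin 2 × β) (Fin 2 × β) F) * N * ((g⁻¹ : GL (Fin 2 × β) F) : Matrix (Fin 2 × β) (Fin 2 × β) F) =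
        Y ⊗ₖ (1 : Matrix β β F) := by
    have h4 := h1 g hg N
    rw [hΦ, h3, mul_smul_comm, smul_mul_assoc, phi0_apply] at h4
    refine ⟨(Fintype.card β : F)⁻¹ • ptr ((g : Matrix (Fin 2 × β) (Fin 2 × β) F) * N *
      ((g⁻¹ : GL (Fin 2 × β) F) : Matrix (Fin 2 × β) (Fin 2 × β) F)), ?_⟩
    rw [Matrix.smul_kronecker, h4, smul_smul, inv_mul_cancel₀ hβ, one_smul]
  have hNN : N * N = 0 := NN_sq T e
  have hYY : Y * Y = 0 := by
    apply kron_one_inj (β := β)
    rw [Matrix.zero_kronecker]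
    have h5 : (Y ⊗ₖ (1 : Matrix β β F)) * (Y ⊗ₖ (1 : Matrix β β F)) = 0 := by
      rw [← hY]
      calc _ = (g : Matrix (Fin 2 × β) (Fin 2 × β) F) * (N * ((((g⁻¹ : GL (Fin 2 × β) F) : Matrix (Fin 2 × β) (Fin 2 × β) F) *
            (g : Matrix (Fin 2 × β) (Fin 2 × β) F)) * N)) * ((g⁻¹ : GL (Fin 2 × β) F) : Matrix (Fin 2 × β) (Fin 2 × β) F) := by
            simp only [mul_assoc]
        _ = 0 := by rw [Units.inv_mul, one_mul, hNN, mul_zero, zero_mul]
    rw [← Matrix.mul_kronecker_mul, mul_one] at h5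
    exact h5
  obtain ⟨a, ha, haM, -⟩ := exists_A T hM e 1
  refine tiA T hM hβ hβ3 hs hQs hnc hsq he one_ne_zero ha hg ⟨(uu Y hYY 1, 1), ?_⟩
  rw [← uu_eq_kr T e 1 ha]
  apply Units.ext
  rw [Units.val_mul, Units.val_mul, coe_uu, one_smul, mul_add, mul_one, add_mul, Units.mul_inv, ← hN, hY, coe_kr]
  show (uu Y hYY 1 : Matrix (Fin 2) (Fin 2) F) ⊗ₖ (1 : Matrix β β F) = _
  rw [coe_uu, one_smul, Matrix.add_kronecker, Matrix.one_kronecker_one]

end Cfsg.Agent.H919.Four
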