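import Cfsg.Agent.H919.FourE

/-!
# `Sp_2(q) ⊗ O_n(q)` in `Sp_{2n}(q)`: the dichotomy for `q ≥ 5`, all `n ≥ 3` (helper919)
-/

set_option autoImplicit false
set_option linter.unusedSectionVars false

open Cfsg Cfsg.Geo Matrix
open scoped Kronecker

namespace Cfsg.Agent.H919.Four

open Cfsg.Agent.H929 (QF rB)
open Cfsg.Agent.H872 Cfsg.Agent.H924.Ten

variable {β : Type} [Fintype β] [DecidableEq β] {F : Type*} [Field F]
variable {f₁ : (Fin 2 → F) → (Fin 2 → F) → F} {Q : (β → F) → F} {B : (β → F) → (β → F) → F}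
  {f : (Fin 2 × β → F) → (Fin 2 × β → F) → F}

variable (T : Tens f₁ Q B f) {M : Subgroup (GL (Fin 2 × β) F)} (hM : Grp f₁ B f M)

include T

/-- a nontrivial element of `M` fixing `P_s^⊥` pointwise gives all transvections. -/
theorem transvections [Finite F] (hM : Grp f₁ B f M) {s : β → F} (hs : s ≠ 0)
    (hQs : Q s = 0) {g : GL (Fin 2 × β) F} (hg : g ∈ M) (hg1 : g ≠ 1)
    (hfix : ∀ v, R B s v = 0 → (g : Matrix (Fin 2 × β) (Fin 2 × β) F) *ᵥ v = v)
    (c : F) (u : Fin 2 → F) (s' : β → F) (hs' : Q s' = 0) :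
    ∃ g' ∈ M, ∀ v, (g' : Matrix (Fin 2 × β) (Fin 2 × β) F) *ᵥ v =
      v + (c * f v (ten u s')) • ten u s' := by
  by_cases hs'0 : s' = 0
  · refine ⟨1, M.one_mem, fun v => ?_⟩
    rw [hs'0, ten_zero_right, smul_zero, add_zero, Units.val_one, Matrix.one_mulVec]
  obtain ⟨ξ, hξ, hz⟩ := T.exists_zel hs hQs (hM.iso g hg) hfix
  have hξ0 : ξ ≠ 0 := by
    rintro rfl
    apply hg1
    apply gl_ext_ten
    intro u w
    rw [hz, LinearMap.zero_apply, ten_zero_left, add_zero, Units.val_one, Matrix.one_mulVec]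
  obtain ⟨g₁, hg₁, hz₁⟩ := T.zel_tl hM hQs hg hξ hξ0 hz c u
  obtain ⟨b, hb, hbs⟩ := exists_iso_map T hs hs'0 (by rw [hQs, hs'])
  have hk := T.one_kr_mem hM (T.B_iso hb)
  set k := kr ((1 : GL (Fin 2) F), b) with hkdef
  refine ⟨k * g₁ * k⁻¹, M.mul_mem (M.mul_mem hk hg₁) (M.inv_mem hk), ?_⟩
  intro v
  set w := ((k⁻¹ : GL (Fin 2 × β) F) : Matrix (Fin 2 × β) (Fin 2 × β) F) *ᵥ v with hw
  have hv : v = (k : Matrix (Fin 2 × β) (Fin 2 × β) F) *ᵥ w := by
    rw [hw, Matrix.mulVec_mulVec, ← Units.val_mul, mul_inv_cancel, Units.val_one, Matrix.one_mulVec]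
  have hkt : (k : Matrix (Fin 2 × β) (Fin 2 × β) F) *ᵥ ten u s = ten u s' := by
    rw [hkdef, kr_mulVec_ten, hbs, Units.val_one, Matrix.one_mulVec]
  rw [Units.val_mul, Units.val_mul, ← Matrix.mulVec_mulVec, ← Matrix.mulVec_mulVec, ← hw, hz₁ w, Matrix.mulVec_add,
    ← hv, tl_apply, ten_smul_left, Matrix.mulVec_smul, hkt, ← T.form_R]
  have h8 : f w (ten u s) = f v (ten u s') := by
    rw [hv, ← hkt, hM.iso k hk]
  rw [h8]

/-- the conclusion "`M` contains all transvections with pure singular vectors, or `M` consists of pure tensors" -/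
def Dich (Q : (β → F) → F) (f : (Fin 2 × β → F) → (Fin 2 × β → F) → F) (M : Subgroup (GL (Fin 2 × β) F)) : Prop :=
  (∀ (c : F) (u : Fin 2 → F) (s' : β → F), Q s' = 0 →
      ∃ g' ∈ M, ∀ v, (g' : Matrix (Fin 2 × β) (Fin 2 × β) F) *ᵥ v = v + (c * f v (ten u s')) • ten u s') ∨
    (∀ g ∈ M, ∃ x : GL (Fin 2) F × GL β F, kr x = g)

/-- reduction of the dichotomy to the case without central elements -/
theorem dich_of [Finite F] (hM : Grp f₁ B f M) (h : (∀ s, s ≠ 0 → Q s = 0 → NoC B M s) →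
    ∀ g ∈ M, ∃ x : GL (Fin 2) F × GL β F, kr x = g) : Dich Q f M := by
  by_cases hnc : ∀ s, s ≠ 0 → Q s = 0 → NoC B M s
  · exact Or.inr (h hnc)
  · left
    push Not at hnc
    obtain ⟨s, hs, hQs, hn⟩ := hnc
    unfold NoC at hn
    push Not at hn
    obtain ⟨g, hg, hfix, hg1⟩ := hn
    exact fun c u s' hs' => transvections T hM hs hQs hg hg1 hfix c u s' hs'

/-- a singular vector -/
lemma exists_sing [Finite F] (hβ3 : 3 ≤ Fintype.card β) : ∃ s : β → F, s ≠ 0 ∧ Q s = 0 := by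
  obtain ⟨s, -, hs, hQs⟩ := T.qf.exists_singular T.two ⊤ (fun x _ hx => by
    obtain ⟨y, hy⟩ := T.nd x hx; exact ⟨y, trivial, hy⟩) (by
    rw [finrank_top, Module.finrank_fintype_fun_eq_card]; exact hβ3)
  exact ⟨s, hs, hQs⟩

/-- **The dichotomy** for `q ≥ 5`. -/
theorem dich5 [Fintype F] (hq : 3 < Fintype.card F) (hM : Grp f₁ B f M) (hβ : (Fintype.card β : F) ≠ 0)
    (hβ3 : 3 ≤ Fintype.card β) (hsq : NoSq B) : Dich Q f M := by
  apply dich_of T hM
  intro hnc g hg
  obtain ⟨s, hs, hQs⟩ := exists_sing T hβ3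
  exact main5 T hq hM hβ hβ3 hs hQs (hnc s hs hQs) hsq hg

/-- A space whose singular vectors are pairwise nonorthogonal has no square-zero unipotent isometries. -/
lemma noSq_of_min (hmin : ∀ x y : β → F, x ≠ 0 → Q x = 0 → Q y = 0 → B x y = 0 → ∃ c : F, y = c • x) : NoSq B := by
  intro b hb hsq
  -- `n = b - 1` is skew with square zero
  set n : (β → F) → (β → F) := fun x => (b : Matrix β β F) *ᵥ x - x with hn
  have hnn : ∀ x, (b : Matrix β β F) *ᵥ n x = n x := by
    intro x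
    have h1 := hsq x
    simp only [hn]
    rw [Matrix.mulVec_sub]
    rw [two_smul] at h1
    have h2 : (b : Matrix β β F) *ᵥ ((b : Matrix β β F) *ᵥ x) = (b : Matrix β β F) *ᵥ x + (b : Matrix β β F) *ᵥ x - x :=
      eq_sub_of_add_eq h1
    rw [h2]
    abel
  have hbx : ∀ x, (b : Matrix β β F) *ᵥ x = n x + x := fun x => by simp only [hn]; abel
  -- `B (n x) (n y) = 0` and `B (n x) y = - B x (n y)`
  have h1 : ∀ x y, B (n x) y + B x (n y) + B (n x) (n y) = 0 := by
    intro x y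
    have h2 := hb x y
    rw [hbx, hbx, T.qf.add_left, T.qf.add_right, T.qf.add_right] at h2
    linear_combination h2
  have h2 : ∀ x y, B (n x) (n y) = 0 := by
    intro x y
    have h3 := hb (n x) y
    rw [hnn, hbx, T.qf.add_right] at h3
    linear_combination h3
  have h3 : ∀ x y, B (n x) y = - B x (n y) := by
    intro x y
    linear_combination h1 x y - h2 x y
  have hQn : ∀ x, Q (n x) = 0 := by
    intro x
    have h4 := h2 x x
    rw [T.qf.self] at h4
    exact (mul_eq_zero.mp h4).resolve_left T.two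
  have hself : ∀ x, B (n x) x = 0 := by
    intro x
    have h4 := h3 x x
    rw [T.qf.comm x (n x)] at h4
    have h5 : (2 : F) * B (n x) x = 0 := by linear_combination h4
    exact (mul_eq_zero.mp h5).resolve_left T.two
  -- `n = 0`
  have hn0 : ∀ x, n x = 0 := by
    intro x
    by_contra hx
    -- all `n y` are multiples of `s = n x`
    have h4 : ∀ y, ∃ c : F, n y = c • n x := fun y => hmin (n x) (n y) hx (hQn x) (hQn y) (h2 x y)
    -- there is `y` with `B (n x) y ≠ 0`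
    obtain ⟨y, hy⟩ := T.nd (n x) hx
    have hxy : ∀ z, B (n x) z ≠ 0 → n z = 0 := by
      intro z hz
      obtain ⟨c, hc⟩ := h4 z
      have h5 := hself z
      rw [hc, T.qf.smul_left] at h5
      rw [hc, (mul_eq_zero.mp h5).resolve_right hz, zero_smul]
    have h5 := hxy y hy
    have h6 := h3 x y
    rw [h5, T.qf.zero_right, neg_zero] at h6
    exact hy h6
  apply Units.ext
  apply Matrix.ext_of_mulVec_single
  intro i
  rw [hbx, hn0, zero_add, Units.val_one, Matrix.one_mulVec]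

end Cfsg.Agent.H919.Four
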