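import Cfsg.Agent.H919.FourG

/-!
# `Sp_2(q) ⊗ O_4^-(q)` in `Sp_8(q)`: the minus type hypothesis (helper919)
-/

set_option autoImplicit false
set_option linter.unusedSectionVars false

open Cfsg Cfsg.Geo Matrix
open scoped Kronecker

namespace Cfsg.Agent.H919.Four

open Cfsg.Agent.H929 (QF rB)
open Cfsg.Agent.H872 Cfsg.Agent.H924.Ten

variable {F : Type*} [Field F]

lemma two_ne_of_odd [Fintype F] (hodd : Odd (Fintype.card F)) : (2 : F) ≠ 0 := by
  intro h
  have h3 : ringChar F = 2 := by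
    have h4 : ringChar F ∣ 2 := (ringChar.spec F 2).mp (by exact_mod_cast h)
    rcases (Nat.dvd_prime Nat.prime_two).mp h4 with h5 | h5
    · exact absurd h5 (CharP.ringChar_ne_one)
    · exact h5
  have := FiniteField.even_card_of_char_two h3
  rw [Nat.odd_iff] at hodd
  omega

/-- singular vectors of a four-dimensional space of minus type are pairwise nonorthogonal -/
lemma min_of_minus (h2 : (2 : F) ≠ 0) {f₂ : (Fin 4 → F) → (Fin 4 → F) → F} (hf₂ : IsSymmetricForm f₂)
    (hminus : ¬ IsPlusTypeOn (fun v : Fin 4 → F => f₂ v v) ⊤) {c : F} (hc : c ≠ 0)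
    (x y : Fin 4 → F) (hx : x ≠ 0) (hQx : c / 2 * f₂ x x = 0) (hQy : c / 2 * f₂ y y = 0) (hxy : c * f₂ x y = 0) :
    ∃ d : F, y = d • x := by
  classical
  have hc2 : c / 2 ≠ 0 := div_ne_zero hc h2
  have hxx := (mul_eq_zero.mp hQx).resolve_left hc2
  have hyy := (mul_eq_zero.mp hQy).resolve_left hc2
  have hxy' := (mul_eq_zero.mp hxy).resolve_left hc
  have hyx' : f₂ y x = 0 := by rw [hf₂.symm, hxy']
  by_contra hcon
  push Not at hcon
  apply hminus
  have hli : LinearIndependent F ![x, y] := by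
    rw [LinearIndependent.pair_iff' hx]
    intro a ha
    exact hcon a ha.symm
  refine ⟨Submodule.span F (Set.range ![x, y]), le_top, ?_, ?_⟩
  · intro w hw
    have hr : Set.range ![x, y] = {x, y} := by
      simp [Matrix.range_cons, Matrix.range_empty]
      exact Set.pair_comm _ _
    rw [hr, Submodule.mem_span_pair] at hw
    obtain ⟨a, b, rfl⟩ := hw
    show f₂ _ _ = 0
    simp only [hf₂.bilinear.add_left, hf₂.bilinear.add_right, hf₂.bilinear.smul_left, hf₂.bilinear.smul_right, hxx, hyy,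
      hxy', hyx']
    ring
  · rw [finrank_span_eq_card hli, finrank_top, Module.finrank_fintype_fun_eq_card]
    simp

/-- the second factor has no square-zero unipotent isometries -/
lemma noSq_of_minus {f₁ : (Fin 2 → F) → (Fin 2 → F) → F} {f : (Fin 2 × Fin 4 → F) → (Fin 2 × Fin 4 → F) → F}
    {f₂ : (Fin 4 → F) → (Fin 4 → F) → F} (hf₂ : IsSymmetricForm f₂)
    (hminus : ¬ IsPlusTypeOn (fun v : Fin 4 → F => f₂ v v) ⊤) {c : F} (hc : c ≠ 0)
    (T : Tens f₁ (fun x => c / 2 * f₂ x x) (fun x y => c * f₂ x y) f) : NoSq (fun x y => c * f₂ x y) :=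
  noSq_of_min T (min_of_minus T.two hf₂ hminus hc)

/-- **Item (8) of S5822 for `q ≥ 5`.** -/
theorem tensor_minus_maximal5 [Fintype F] (hodd : Odd (Fintype.card F)) (hq : 3 < Fintype.card F)
    (e : (Fin 4 ⊕ Fin 4) ≃ Fin 2 × Fin 4) (P : GL (Fin 4 ⊕ Fin 4) F)
    (f₁ : (Fin 2 → F) → (Fin 2 → F) → F) (f₂ : (Fin 4 → F) → (Fin 4 → F) → F)
    (hf₁ : IsSymplecticForm f₁) (hf₂ : IsSymmetricForm f₂)
    (hminus : ¬ IsPlusTypeOn (fun v : Fin 4 → F => f₂ v v) ⊤)
    (hT : IsTensorFormStructure id (sympForm 4 F) f₁ f₂ e P) :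
    IsMaximalIn (spGL 4 F) (tensorProductSubgroup 2 4 e P ⊓ spGL 4 F) := by
  have h2 := two_ne_of_odd hodd
  refine tensor_two_maximal_of (by norm_num) hodd e P f₁ f₂ hf₁ hf₂ hT ?_
  intro c hc f T M hM
  refine dich5 T hq hM ?_ (by simp) (noSq_of_minus hf₂ hminus hc T)
  rw [Fintype.card_fin]
  have : ((4 : ℕ) : F) = 2 * 2 := by push_cast; ring
  rw [this]
  exact mul_ne_zero h2 h2

end Cfsg.Agent.H919.Four
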