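import Cfsg.Agent.H919.FourH

/-!
# `Sp_2(q) ⊗ O_4^-(q)` in `Sp_8(q)`: the TI property of `1 ⊗ h`, `h` a Siegel element (helper919)
-/

set_option autoImplicit false
set_option linter.unusedSectionVars false

open Cfsg Cfsg.Geo Matrix
open scoped Kronecker

namespace Cfsg.Agent.H919.Four

open Cfsg.Agent.H929 (QF rB)
open Cfsg.Agent.H872 Cfsg.Agent.H924.Ten

variable {β : Type} [Fintype β] [DecidableEq β] {F : Type*} [Field F]
variable {f₁ : (Fin 2 → F) → (Fin 2 → F) → F} {Q : (β → F) → F} {B : (β → F) → (β → F) → F}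
  {f : (Fin 2 × β → F) → (Fin 2 × β → F) → F}

variable (T : Tens f₁ Q B f) {M : Subgroup (GL (Fin 2 × β) F)} (hM : Grp f₁ B f M)

include T

/-- **Lemma K**: the fixed space of `t ⊗ b` for a transvection `t ≠ 1` embeds in the kernel of `(b - 1)²`. -/
lemma fix_le {e : Fin 2 → F} (he : e ≠ 0) {c : F} (hc : c ≠ 0) {a : GL (Fin 2) F}
    (ha : ∀ u, (a : Matrix (Fin 2) (Fin 2) F) *ᵥ u = u + (c * f₁ u e) • e) (b : GL β F) :
    Module.finrank F (fixS (kr (a, b))) ≤
      Module.finrank F (LinearMap.ker ((Matrix.toLin' (b : Matrix β β F) - LinearMap.id) ∘ₗ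
        (Matrix.toLin' (b : Matrix β β F) - LinearMap.id))) := by
  obtain ⟨e', he'⟩ := exists_dual T he
  have hee' : f₁ e e' = -1 := by rw [T.sym.skew, he']
  have hae : (a : Matrix (Fin 2) (Fin 2) F) *ᵥ e = e := by
    rw [ha, T.sym.alternating, mul_zero, zero_smul, add_zero]
  have hae' : (a : Matrix (Fin 2) (Fin 2) F) *ᵥ e' = e' + c • e := by rw [ha, he', mul_one]
  -- the equations of a fixed vector
  have key : ∀ v, v ∈ fixS (kr (a, b)) →
      (b : Matrix β β F) *ᵥ (Lc f₁ e v) = Lc f₁ e v ∧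
      (b : Matrix β β F) *ᵥ (- Lc f₁ e' v) - (- Lc f₁ e' v) = - (c • Lc f₁ e v) := by
    intro v hv
    rw [mem_fixS] at hv
    set x := - Lc f₁ e' v with hx
    set y := Lc f₁ e v with hy
    have hv1 : v = ten e x + ten e' y := expand_ten T he' v
    have h1 : ten e ((b : Matrix β β F) *ᵥ x) + ten (e' + c • e) ((b : Matrix β β F) *ᵥ y) = ten e x + ten e' y := by
      conv_rhs => rw [← hv1, ← hv, hv1]
      rw [Matrix.mulVec_add, kr_mulVec_ten, kr_mulVec_ten, hae, hae']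
    have h2 := congrArg (Lc f₁ e) h1
    rw [map_add, map_add, L_ten T, L_ten T, L_ten T, L_ten T, T.sym.bilinear.add_left, T.sym.bilinear.smul_left,
      T.sym.alternating, he', mul_zero, add_zero, zero_smul, zero_smul, zero_add, zero_add, one_smul, one_smul] at h2
    have h3 := congrArg (Lc f₁ e') h1
    rw [map_add, map_add, L_ten T, L_ten T, L_ten T, L_ten T, T.sym.bilinear.add_left, T.sym.bilinear.smul_left,
      T.sym.alternating, hee', h2] at h3
    refine ⟨h2, ?_⟩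
    have h4 : (b : Matrix β β F) *ᵥ x = x - c • y := by
      have h5 : -((b : Matrix β β F) *ᵥ x) + -(c • y) = -x := by
        have h6 : (-1 : F) • ((b : Matrix β β F) *ᵥ x) + (0 + c * -1) • y = (-1 : F) • x + (0 : F) • y := h3
        rw [neg_smul, one_smul, zero_add, mul_neg, mul_one, neg_smul, neg_smul, one_smul, zero_smul, add_zero] at h6
        exact h6
      have h7 : (b : Matrix β β F) *ᵥ x = x + -(c • y) := by
        have h8 : x + (b : Matrix β β F) *ᵥ x + (-((b : Matrix β β F) *ᵥ x) + -(c • y)) =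
            x + (b : Matrix β β F) *ᵥ x + -x := by rw [h5]
        have h9 : x + (b : Matrix β β F) *ᵥ x + (-((b : Matrix β β F) *ᵥ x) + -(c • y)) = x + -(c • y) := by abel
        have h10 : x + (b : Matrix β β F) *ᵥ x + -x = (b : Matrix β β F) *ᵥ x := by abel
        rw [h9, h10] at h8
        exact h8.symm
      rw [h7]; abel
    rw [h4]; abel
  let L : (fixS (kr (a, b)) : Submodule F (Fin 2 × β → F)) →ₗ[F]
      LinearMap.ker ((Matrix.toLin' (b : Matrix β β F) - LinearMap.id) ∘ₗ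
        (Matrix.toLin' (b : Matrix β β F) - LinearMap.id)) :=
    { toFun := fun v => ⟨- Lc f₁ e' v.1, by
        obtain ⟨h1, h2⟩ := key v.1 v.2
        rw [LinearMap.mem_ker, LinearMap.comp_apply]
        have h3 : (Matrix.toLin' (b : Matrix β β F) - (LinearMap.id : (β → F) →ₗ[F] (β → F))) (- Lc f₁ e' v.1) =
            - (c • Lc f₁ e v.1) := h2
        rw [h3]
        show (Matrix.toLin' (b : Matrix β β F)) (- (c • Lc f₁ e v.1)) - (- (c • Lc f₁ e v.1)) = 0
        rw [Matrix.toLin'_apply, Matrix.mulVec_neg, Matrix.mulVec_smul, h1, sub_self]⟩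
      map_add' := fun v w => Subtype.ext (by
        show - Lc f₁ e' (v.1 + w.1) = - Lc f₁ e' v.1 + - Lc f₁ e' w.1
        rw [map_add]; abel)
      map_smul' := fun r v => Subtype.ext (by
        show - Lc f₁ e' (r • v.1) = r • (- Lc f₁ e' v.1)
        rw [map_smul, smul_neg]) }
  apply LinearMap.finrank_le_finrank_of_injective (f := L)
  rw [← LinearMap.ker_eq_bot, LinearMap.ker_eq_bot']
  intro v hv
  have h0 : - Lc f₁ e' v.1 = 0 := congrArg Subtype.val hv
  obtain ⟨h1, h2⟩ := key v.1 v.2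
  rw [h0, Matrix.mulVec_zero, sub_zero] at h2
  have h3 : Lc f₁ e v.1 = 0 := by
    have h4 := neg_eq_zero.mp h2.symm
    exact (smul_eq_zero.mp h4).resolve_left hc
  apply Subtype.ext
  show v.1 = 0
  rw [expand_ten T he' v.1, h0, h3, ten_zero_right, ten_zero_right, add_zero]

/-- **TI_B** in dimension `4`. -/
theorem tiB [Finite F] (hβ4 : Fintype.card β = 4) (hM : Grp f₁ B f M) {s a : β → F} (hs : s ≠ 0) (hQs : Q s = 0)
    (hnc : NoC B M s) (hsa : B s a = 0) (hQa : Q a ≠ 0) (hsq : NoSq B) {h : GL β F} (hh : Sieg Q B s a h)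
    (hhiso : ∀ x, Q ((h : Matrix β β F) *ᵥ x) = Q x)
    {g : GL (Fin 2 × β) F} (hg : g ∈ M)
    (hx : ∃ x : GL (Fin 2) F × GL β F, kr x = g * kr ((1 : GL (Fin 2) F), h) * g⁻¹) :
    ∃ x : GL (Fin 2) F × GL β F, kr x = g := by
  classical
  obtain ⟨p, hp⟩ := CharP.exists F
  have hpp : p.Prime := by
    rcases CharP.char_is_prime_or_zero F p with h | h
    · exact h
    · exfalso
      subst h
      have := CharP.charP_to_charZero F
      exact not_finite F
  have : Fact p.Prime := ⟨hpp⟩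
  have hdM : kr ((1 : GL (Fin 2) F), h) ∈ M := T.one_kr_mem hM (T.B_iso hhiso)
  have hdp : kr ((1 : GL (Fin 2) F), h) ^ p ^ 1 = 1 := by
    have h1 : h ^ p = 1 := by
      apply Units.ext
      apply Matrix.ext_of_mulVec_single
      intro i
      rw [T.sieg_pow hQs hsa hh, CharP.cast_eq_zero F p, Units.val_one, Matrix.one_mulVec]
      simp
    rw [pow_one, ← map_pow, Prod.pow_mk, one_pow, h1]
    exact map_one kr
  obtain ⟨⟨z₁, z₂⟩, hy⟩ := hx
  have hyM : kr (z₁, z₂) ∈ M := by rw [hy]; exact M.mul_mem (M.mul_mem hg hdM) (M.inv_mem hg)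
  have hyp : kr (z₁, z₂) ^ p ^ 1 = 1 := by
    rw [hy, conj_pow, hdp, mul_one, mul_inv_cancel]
  obtain ⟨y₁, y₂, hab, hy₁iso, hy₂iso, ⟨e', he', c', hy₁⟩, -⟩ := unip T hs hM hyM hyp
  rw [← hab] at hy
  set d := kr ((1 : GL (Fin 2) F), h) with hd
  have hiso := hM.iso g hg
  -- d' (g v) = g (d v)
  have hconj : ∀ v, (kr (y₁, y₂) : Matrix (Fin 2 × β) (Fin 2 × β) F) *ᵥ
      ((g : Matrix (Fin 2 × β) (Fin 2 × β) F) *ᵥ v) = (g : Matrix (Fin 2 × β) (Fin 2 × β) F) *ᵥ
      ((d : Matrix (Fin 2 × β) (Fin 2 × β) F) *ᵥ v) := by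
    intro v
    rw [hy, gl_mul_mulVec, gl_mul_mulVec, gl_inv_mulVec]
  -- y₁ is scalar
  have hsc : ∃ c : F, ∀ u, (y₁ : Matrix (Fin 2) (Fin 2) F) *ᵥ u = c • u := by
    by_cases hc' : c' = 0
    · refine ⟨1, fun u => ?_⟩
      rw [hy₁, hc', zero_mul, zero_smul, add_zero, one_smul]
    exfalso
    -- dimension of the fixed space
    have h1 := fix_le T he' hc' hy₁ y₂
    rw [hy, finrank_fixS_conj, hd, finrank_fixS_one_kr, Fintype.card_fin] at h1
    have h2 : 2 ≤ Module.finrank F (fixS h) := by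
      let L : (β → F) →ₗ[F] F × F :=
        { toFun := fun x => (B x s, B x a)
          map_add' := fun x y => by rw [T.qf.add_left, T.qf.add_left]; rfl
          map_smul' := fun r x => by rw [T.qf.smul_left, T.qf.smul_left]; rfl }
      have h3 := L.finrank_range_add_finrank_ker
      have h4 : Module.finrank F (LinearMap.range L) ≤ 2 := by
        refine (Submodule.finrank_le _).trans ?_
        simp
      have h5 : LinearMap.ker L ≤ fixS h := by
        intro x hx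
        have h6 : (B x s, B x a) = 0 := hx
        rw [Prod.mk_eq_zero] at h6
        rw [mem_fixS, hh, h6.1, h6.2, zero_smul, zero_smul, mul_zero, zero_smul, add_zero, sub_zero, sub_zero]
      have h7 := Submodule.finrank_mono h5
      rw [Module.finrank_fintype_fun_eq_card, hβ4] at h3
      omega
    have h3 : LinearMap.ker ((Matrix.toLin' (y₂ : Matrix β β F) - LinearMap.id) ∘ₗ
        (Matrix.toLin' (y₂ : Matrix β β F) - LinearMap.id)) = ⊤ := by
      apply Submodule.eq_top_of_finrank_eq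
      apply le_antisymm (Submodule.finrank_le _)
      rw [Module.finrank_fintype_fun_eq_card, hβ4]
      omega
    have h4 : y₂ = 1 := by
      apply hsq y₂ hy₂iso
      intro x
      have h5 : x ∈ LinearMap.ker ((Matrix.toLin' (y₂ : Matrix β β F) - LinearMap.id) ∘ₗ
        (Matrix.toLin' (y₂ : Matrix β β F) - LinearMap.id)) := by rw [h3]; trivial
      rw [LinearMap.mem_ker, LinearMap.comp_apply] at h5
      have h6 : (y₂ : Matrix β β F) *ᵥ ((y₂ : Matrix β β F) *ᵥ x - x) - ((y₂ : Matrix β β F) *ᵥ x - x) = 0 := h5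
      rw [Matrix.mulVec_sub] at h6
      rw [two_smul]
      have h7 := congrArg (fun z => z + (y₂ : Matrix β β F) *ᵥ x + (y₂ : Matrix β β F) *ᵥ x) h6
      simp only [zero_add] at h7
      rw [← h7]
      abel
    -- the square
    have hK : Kel f₁ e' (c' • LinearMap.id) (kr (y₁, y₂)) := by
      rw [h4]; exact kel_tU T e' c' hy₁
    have h5 : ∀ v, (kr (y₁, y₂) : Matrix (Fin 2 × β) (Fin 2 × β) F) *ᵥ
        ((kr (y₁, y₂) : Matrix (Fin 2 × β) (Fin 2 × β) F) *ᵥ v) =
        (2 : F) • ((kr (y₁, y₂) : Matrix (Fin 2 × β) (Fin 2 × β) F) *ᵥ v) - v := by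
      intro v
      rw [hK, hK v, map_add, L_ten T, T.sym.alternating, zero_smul, add_zero]
      module
    obtain ⟨y, hy1⟩ := T.nd s hs
    have h6 := h5 ((g : Matrix (Fin 2 × β) (Fin 2 × β) F) *ᵥ (ten (Pi.single 0 1) y))
    rw [hconj, hconj, ← Matrix.mulVec_smul, ← Matrix.mulVec_sub, T.sieg_sq hQs hsa hh, ← hd] at h6
    have h7 : ∀ v w, (g : Matrix (Fin 2 × β) (Fin 2 × β) F) *ᵥ v = (g : Matrix (Fin 2 × β) (Fin 2 × β) F) *ᵥ w →
        v = w := by
      intro v w hvw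
      rw [← gl_inv_mulVec g v, hvw, gl_inv_mulVec]
    have h8 := h7 _ _ h6
    have h9 : (2 * Q a) • ten (R B s (ten (Pi.single 0 1) y)) s = 0 := by
      have := congrArg (fun z => (2 : F) • ((d : Matrix (Fin 2 × β) (Fin 2 × β) F) *ᵥ ten (Pi.single 0 1) y) -
        ten (Pi.single 0 1) y - z) h8
      simp only [sub_self] at this
      rw [sub_sub_cancel] at this
      exact this
    rcases smul_eq_zero.mp h9 with h10 | h10
    · exact mul_ne_zero T.two hQa h10
    · rcases ten_eq_zero h10 with h11 | h11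
      · rw [T.R_ten] at h11
        have h12 := congrFun h11 0
        simp only [Pi.smul_apply, Pi.single_eq_same, smul_eq_mul, mul_one, Pi.zero_apply] at h12
        exact hy1 h12
      · exact hs h11
  obtain ⟨c, hc⟩ := hsc
  -- the square of d' - 1
  set d' := kr (y₁, y₂) with hd'
  have hd'ten : ∀ u w, (d' : Matrix (Fin 2 × β) (Fin 2 × β) F) *ᵥ Cfsg.Agent.H872.ten u w =
      Cfsg.Agent.H872.ten u (c • ((y₂ : Matrix β β F) *ᵥ w)) := by
    intro u w
    rw [hd', kr_mulVec_ten, hc, ten_smul_left, ten_smul_right]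
  -- Y w = (c y₂ - 1)² w
  let Y : (β → F) → (β → F) := fun w => c • ((y₂ : Matrix β β F) *ᵥ (c • ((y₂ : Matrix β β F) *ᵥ w)))
    - (2 : F) • (c • ((y₂ : Matrix β β F) *ᵥ w)) + w
  have hYten : ∀ u w, (d' : Matrix (Fin 2 × β) (Fin 2 × β) F) *ᵥ ((d' : Matrix (Fin 2 × β) (Fin 2 × β) F) *ᵥ
      Cfsg.Agent.H872.ten u w) - (2 : F) • ((d' : Matrix (Fin 2 × β) (Fin 2 × β) F) *ᵥ Cfsg.Agent.H872.ten u w) +
      Cfsg.Agent.H872.ten u w = Cfsg.Agent.H872.ten u (Y w) := by
    intro u w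
    rw [hd'ten, hd'ten]
    funext p
    simp only [Y, ten_apply, Pi.add_apply, Pi.sub_apply, Pi.smul_apply, smul_eq_mul, nsmul_eq_mul]
    ring
  have hsq : ∀ v, (d' : Matrix (Fin 2 × β) (Fin 2 × β) F) *ᵥ ((d' : Matrix (Fin 2 × β) (Fin 2 × β) F) *ᵥ
      ((g : Matrix (Fin 2 × β) (Fin 2 × β) F) *ᵥ v)) -
      (2 : F) • ((d' : Matrix (Fin 2 × β) (Fin 2 × β) F) *ᵥ ((g : Matrix (Fin 2 × β) (Fin 2 × β) F) *ᵥ v)) +
      (g : Matrix (Fin 2 × β) (Fin 2 × β) F) *ᵥ v =
      (g : Matrix (Fin 2 × β) (Fin 2 × β) F) *ᵥ (Cfsg.Agent.H872.ten (-(2 * Q a) • R B s v) s) := by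
    intro v
    rw [hconj, hconj, T.sieg_sq hQs hsa hh, ← hd, Matrix.mulVec_sub, Matrix.mulVec_sub, Matrix.mulVec_smul, neg_smul,
      ten_neg_left, ten_smul_left, Matrix.mulVec_neg, Matrix.mulVec_smul]
    abel
  -- Y ≠ 0
  obtain ⟨w₀, hw₀⟩ : ∃ w, Y w ≠ 0 := by
    by_contra hcon
    push Not at hcon
    obtain ⟨y, hy1⟩ := T.nd s hs
    have h1 : ∀ v, (d' : Matrix (Fin 2 × β) (Fin 2 × β) F) *ᵥ ((d' : Matrix (Fin 2 × β) (Fin 2 × β) F) *ᵥ v) -
        (2 : F) • ((d' : Matrix (Fin 2 × β) (Fin 2 × β) F) *ᵥ v) + v = 0 := by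
      intro v
      have h2 : ((Matrix.toLin' (d' : Matrix (Fin 2 × β) (Fin 2 × β) F)) ∘ₗ
          (Matrix.toLin' (d' : Matrix (Fin 2 × β) (Fin 2 × β) F)) -
          (2 : F) • (Matrix.toLin' (d' : Matrix (Fin 2 × β) (Fin 2 × β) F)) + LinearMap.id) =
          (0 : (Fin 2 × β → F) →ₗ[F] (Fin 2 × β → F)) := by
        apply linearMap_ext_ten
        intro u w
        have h3 := hYten u w
        rw [hcon w, ten_zero_right] at h3
        rw [LinearMap.zero_apply, ← h3, LinearMap.add_apply, LinearMap.sub_apply, LinearMap.smul_apply,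
          LinearMap.comp_apply, Matrix.toLin'_apply, Matrix.toLin'_apply, LinearMap.id_apply, two_smul]
      have h4 := congrArg (fun X : (Fin 2 × β → F) →ₗ[F] (Fin 2 × β → F) => X v) h2
      simp only [LinearMap.add_apply, LinearMap.sub_apply, LinearMap.smul_apply, LinearMap.comp_apply,
        Matrix.toLin'_apply, LinearMap.id_apply, LinearMap.zero_apply] at h4
      rw [two_smul] at h4
      rw [two_smul]
      exact h4
    have h5 := hsq (Cfsg.Agent.H872.ten (Pi.single 0 1) y)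
    rw [h1] at h5
    have h6 := gl_mulVec_eq_zero g h5.symm
    rcases ten_eq_zero h6 with h7 | h7
    · rw [T.R_ten] at h7
      have h8 := congrFun h7 0
      simp only [Pi.smul_apply, Pi.single_eq_same, smul_eq_mul, mul_one, Pi.zero_apply] at h8
      exact (mul_ne_zero (neg_ne_zero.mpr (mul_ne_zero T.two hQa)) hy1) h8
    · exact hs h7
  set s' := Y w₀ with hs'
  have hs'in : ∀ u, ∃ u', Cfsg.Agent.H872.ten u s' =
      (g : Matrix (Fin 2 × β) (Fin 2 × β) F) *ᵥ (Cfsg.Agent.H872.ten u' s) := by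
    intro u
    rw [hs', ← hYten]
    have h1 : Cfsg.Agent.H872.ten u w₀ = (g : Matrix (Fin 2 × β) (Fin 2 × β) F) *ᵥ
        (((g⁻¹ : GL (Fin 2 × β) F) : Matrix (Fin 2 × β) (Fin 2 × β) F) *ᵥ Cfsg.Agent.H872.ten u w₀) := by
      rw [gl_mulVec_inv]
    rw [h1, hsq]
    exact ⟨_, rfl⟩
  have hss : B s s = 0 := by rw [T.qf.self, hQs, mul_zero]
  have hQs' : Q s' = 0 := by
    obtain ⟨x, hx⟩ := (T.sym.nondegenerate (Pi.single 0 1) (by
      intro h; have := congrFun h 0; simp at this)).2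
    obtain ⟨u₁, hu₁⟩ := hs'in (Pi.single 0 1)
    obtain ⟨u₂, hu₂⟩ := hs'in x
    have h1 : f (Cfsg.Agent.H872.ten (Pi.single 0 1) s') (Cfsg.Agent.H872.ten x s') = 0 := by
      rw [hu₁, hu₂, hiso, T.ten, hss, mul_zero]
    rw [T.ten, T.qf.self] at h1
    rcases mul_eq_zero.mp h1 with h2 | h2
    · exact absurd h2 hx
    · exact (mul_eq_zero.mp h2).resolve_left T.two
  obtain ⟨b, hb, hbs⟩ := exists_iso_map T hs hw₀ (by rw [hQs, hQs'])
  have hk := T.one_kr_mem hM (T.B_iso hb)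
  obtain ⟨x, hx⟩ := T.stab hM hs hQs hnc (g := g⁻¹ * kr ((1 : GL (Fin 2) F), b)) (M.mul_mem (M.inv_mem hg) hk) (by
    intro u
    obtain ⟨u', hu'⟩ := hs'in u
    refine ⟨u', ?_⟩
    rw [gl_mul_mulVec, kr_mulVec_ten, Units.val_one, Matrix.one_mulVec]
    show ((g⁻¹ : GL (Fin 2 × β) F) : Matrix (Fin 2 × β) (Fin 2 × β) F) *ᵥ
      Cfsg.Agent.H872.ten u ((b : Matrix β β F) *ᵥ s) = _
    rw [hbs, hu', gl_inv_mulVec])
  refine ⟨((1 : GL (Fin 2) F), b) * x⁻¹, ?_⟩
  rw [map_mul, map_inv, hx]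
  group


end Cfsg.Agent.H919.Four
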