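import Cfsg.Agent.H919.ExtForm
import Cfsg.Agent.H919.AltTwo
import Cfsg.Agent.H637.A7Grp

/-!
# `A₇` in dimension eight, characteristic two (helper919)

`K` a field of characteristic two containing a primitive cube root of unity, `ρ : A₇ → GL₈(K)` irreducible with an
invariant alternating form: there is an invariant quadratic form (in fact there is no such representation).

`x = dim C_V(3-cycle)`, `x + 2k = 8`.
* `k = 4` : disjoint 3-cycles without fixed vectors, `exists_of_rep`;
* `k = 3` : a four-group on four points has norm zero, the trace of a 3-cycle is `k`: contradiction;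
* `k = 2` : the projection onto `C_V(0 1 2)` commutes with everything;
* `k ≤ 1` : three 3-cycles generate `A₇` and have a common fixed vector.
-/

set_option autoImplicit false
set_option linter.unusedSectionVars false

open Cfsg Cfsg.Geo Matrix

namespace Cfsg.Agent.H919.Q2

open Cfsg.Agent.H915.LD

universe u v

/-! ### idempotents -/

section idem

variable {K V : Type*} [Field K] [AddCommGroup V] [Module K V] [FiniteDimensional K V]

/-- the rank -/
noncomputable def rk (A : Module.End K V) : ℕ := Module.finrank K (LinearMap.range A)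

theorem mem_range_idem {A : Module.End K V} (hA : A * A = A) {v : V} : v ∈ LinearMap.range A ↔ A v = v := by
  constructor
  · rintro ⟨w, rfl⟩
    exact LinearMap.congr_fun hA w
  · intro h
    exact ⟨v, h⟩

theorem rk_add {A B : Module.End K V} (hA : A * A = A) (hB : B * B = B) (hAB : A * B = 0) (hBA : B * A = 0) :
    rk (A + B) = rk A + rk B := by
  have h1 : LinearMap.range (A + B) = LinearMap.range A ⊔ LinearMap.range B := by
    apply le_antisymm
    · rintro _ ⟨v, rfl⟩
      exact Submodule.add_mem_sup ⟨v, rfl⟩ ⟨v, rfl⟩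
    · rw [sup_le_iff]
      constructor
      · rintro _ ⟨v, rfl⟩
        refine ⟨A v, ?_⟩
        have e1 := LinearMap.congr_fun hA v
        have e2 := LinearMap.congr_fun hBA v
        change A (A v) = A v at e1
        change B (A v) = 0 at e2
        rw [LinearMap.add_apply, e1, e2, add_zero]
      · rintro _ ⟨v, rfl⟩
        refine ⟨B v, ?_⟩
        have e1 := LinearMap.congr_fun hB v
        have e2 := LinearMap.congr_fun hAB v
        change B (B v) = B v at e1
        change A (B v) = 0 at e2
        rw [LinearMap.add_apply, e1, e2, zero_add]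
  have h2 : LinearMap.range A ⊓ LinearMap.range B = ⊥ := by
    rw [Submodule.eq_bot_iff]
    rintro v ⟨hv, w, rfl⟩
    have h3 := (mem_range_idem hA).1 hv
    have e2 := LinearMap.congr_fun hAB w
    change A (B w) = 0 at e2
    rw [← h3, e2]
  unfold rk
  rw [h1]
  have h3 := Submodule.finrank_sup_add_finrank_inf_eq (LinearMap.range A) (LinearMap.range B)
  rw [h2, finrank_bot, add_zero] at h3
  exact h3

/-- complement of an idempotent in a larger one, characteristic two -/
theorem rk_sub (h2 : (2 : K) = 0) {A C : Module.End K V} (hA : A * A = A) (hC : C * C = C) (hAC : A * C = A)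
    (hCA : C * A = A) : rk C = rk A + rk (C + A) ∧ (C + A) * (C + A) = C + A := by
  have h1 : A + A = 0 := by rw [← two_smul K A, h2, zero_smul]
  have h3 : (C + A) * (C + A) = C + A := by
    rw [mul_add, add_mul, add_mul, hC, hAC, hCA, hA, h1, add_zero]
  refine ⟨?_, h3⟩
  have h4 : C = A + (C + A) := by
    calc C = C + (A + A) := by rw [h1, add_zero]
      _ = _ := by abel
  conv_lhs => rw [h4]
  refine rk_add hA h3 ?_ ?_
  · rw [mul_add, hAC, hA, h1]
  · rw [add_mul, hCA, hA, h1]

theorem rk_one : rk (1 : Module.End K V) = Module.finrank K V := by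
  unfold rk
  rw [LinearMap.range_eq_top.2 (fun v => ⟨v, rfl⟩), finrank_top]

theorem rk_conj {A U U' : Module.End K V} (h1 : U * U' = 1) (h2 : U' * U = 1) : rk (U * A * U') = rk A := by
  unfold rk
  let e : V ≃ₗ[K] V := LinearEquiv.ofLinearMap U U' h1 h2
  have h3 : LinearMap.range (U * A * U') = (LinearMap.range A).map (e : V →ₗ[K] V) := by
    ext v
    constructor
    · rintro ⟨w, rfl⟩
      exact ⟨A (U' w), ⟨_, rfl⟩, rfl⟩
    · rintro ⟨_, ⟨w, rfl⟩, rfl⟩
      refine ⟨U w, ?_⟩
      have e1 := LinearMap.congr_fun h2 w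
      change U' (U w) = w at e1
      change U (A (U' (U w))) = U (A w)
      rw [e1]
  rw [h3]
  exact LinearEquiv.finrank_map_eq e _

theorem rk_eq_zero {A : Module.End K V} (h : rk A = 0) : A = 0 := by
  unfold rk at h
  rw [Submodule.finrank_eq_zero] at h
  exact LinearMap.range_eq_bot.1 h

theorem rk_zero : rk (0 : Module.End K V) = 0 := by
  unfold rk
  rw [LinearMap.range_zero, finrank_bot]

theorem trace_idem {A : Module.End K V} (hA : A * A = A) : LinearMap.trace K V A = (rk A : K) := by
  have h : LinearMap.IsProj (LinearMap.range A) A :=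
    ⟨fun v => ⟨v, rfl⟩, fun v hv => (mem_range_idem hA).1 hv⟩
  exact h.trace

/-- a free module of rank one for a four-group has dimension four -/
theorem klein (h2 : (2 : K) = 0) {e₁ e₂ : Module.End K V} (h12 : e₁ * e₂ = e₂ * e₁) (h11 : e₁ * e₁ = 1)
    (h22 : e₂ * e₂ = 1) (S : Submodule K V) (hS : Module.finrank K S < 4) {v : V} (hv : v ∈ S) (hv1 : e₁ v ∈ S)
    (hv2 : e₂ v ∈ S) (hv3 : e₁ (e₂ v) ∈ S) : v + e₁ v + (e₂ v + e₁ (e₂ v)) = 0 := by
  by_contra hN
  have hd : ∀ x : V, x + x = 0 := fun x => by rw [← two_smul K x, h2, zero_smul]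
  have k1 : ∀ x, e₁ (e₁ x) = x := fun x => LinearMap.congr_fun h11 x
  have k2 : ∀ x, e₂ (e₂ x) = x := fun x => LinearMap.congr_fun h22 x
  have k3 : ∀ x, e₂ (e₁ x) = e₁ (e₂ x) := fun x => (LinearMap.congr_fun h12 x).symm
  have key : ∀ c : Fin 4 → K, c 0 • v + c 1 • e₁ v + c 2 • e₂ v + c 3 • e₁ (e₂ v) = 0 →
      c 0 = c 1 ∧ c 0 = c 2 ∧ c 2 = c 3 := by
    intro c hc
    have a1 := congrArg e₁ hc
    simp only [map_add, map_smul, map_zero, k1] at a1
    have a2 := congrArg e₂ hc
    simp only [map_add, map_smul, map_zero, k2, k3] at a2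
    have a3 := congrArg e₁ a2
    simp only [map_add, map_smul, map_zero, k1] at a3
    -- sum of coefficients
    have b1 : (c 0 + c 1 + c 2 + c 3) • (v + e₁ v + (e₂ v + e₁ (e₂ v))) = 0 := by
      have : (c 0 + c 1 + c 2 + c 3) • (v + e₁ v + (e₂ v + e₁ (e₂ v))) =
          (c 0 • v + c 1 • e₁ v + c 2 • e₂ v + c 3 • e₁ (e₂ v)) +
          (c 0 • e₁ v + c 1 • v + c 2 • e₁ (e₂ v) + c 3 • e₂ v) +
          (c 0 • e₂ v + c 1 • e₁ (e₂ v) + c 2 • v + c 3 • e₁ v) +
          (c 0 • e₁ (e₂ v) + c 1 • e₂ v + c 2 • e₁ v + c 3 • v) := by module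
      rw [this, hc, a1, a2, a3]
      simp
    have b2 : c 0 + c 1 + c 2 + c 3 = 0 := (smul_eq_zero.1 b1).resolve_right hN
    have b3 : (c 0 + c 1) • (v + e₁ v + (e₂ v + e₁ (e₂ v))) = 0 := by
      have : (c 0 + c 1) • (v + e₁ v + (e₂ v + e₁ (e₂ v))) =
          (c 0 • v + c 1 • e₁ v + c 2 • e₂ v + c 3 • e₁ (e₂ v)) +
          (c 0 • e₁ v + c 1 • v + c 2 • e₁ (e₂ v) + c 3 • e₂ v) +
          (c 0 + c 1 + c 2 + c 3) • (e₂ v + e₁ (e₂ v)) - (2 * (c 2 + c 3)) • (e₂ v + e₁ (e₂ v)) := by module
      rw [this, hc, a1, b2, h2]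
      simp
    have b4 : (c 0 + c 2) • (v + e₁ v + (e₂ v + e₁ (e₂ v))) = 0 := by
      have : (c 0 + c 2) • (v + e₁ v + (e₂ v + e₁ (e₂ v))) =
          (c 0 • v + c 1 • e₁ v + c 2 • e₂ v + c 3 • e₁ (e₂ v)) +
          (c 0 • e₂ v + c 1 • e₁ (e₂ v) + c 2 • v + c 3 • e₁ v) +
          (c 0 + c 1 + c 2 + c 3) • (e₁ v + e₁ (e₂ v)) - (2 * (c 1 + c 3)) • (e₁ v + e₁ (e₂ v)) := by module
      rw [this, hc, a2, b2, h2]
      simp
    have b5 := (smul_eq_zero.1 b3).resolve_right hN
    have b6 := (smul_eq_zero.1 b4).resolve_right hN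
    refine ⟨?_, ?_, ?_⟩
    · linear_combination b5 - c 1 * h2
    · linear_combination b6 - c 2 * h2
    · linear_combination b2 - b5 - c 3 * h2
  have hli : LinearIndependent K ![v, e₁ v, e₂ v, e₁ (e₂ v)] := by
    rw [Fintype.linearIndependent_iff]
    intro c hc
    rw [Fin.sum_univ_four] at hc
    simp only [Matrix.cons_val_zero, Matrix.cons_val_one, Matrix.cons_val] at hc
    obtain ⟨d1, d2, d3⟩ := key c hc
    have d4 : c 0 • (v + e₁ v + (e₂ v + e₁ (e₂ v))) = 0 := by
      rw [← hc, ← d3, ← d2, ← d1]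
      module
    have d5 := (smul_eq_zero.1 d4).resolve_right hN
    intro i
    fin_cases i
    · exact d5
    · exact d1 ▸ d5
    · exact d2 ▸ d5
    · exact d3 ▸ d2 ▸ d5
  have hle : Submodule.span K (Set.range ![v, e₁ v, e₂ v, e₁ (e₂ v)]) ≤ S := by
    rw [Submodule.span_le]
    rintro _ ⟨i, rfl⟩
    fin_cases i
    · exact hv
    · exact hv1
    · exact hv2
    · exact hv3
  have h4 := Submodule.finrank_mono hle
  rw [finrank_span_eq_card hli, Fintype.card_fin] at h4
  omega

end idem

/-! ### permutations -/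

section perms

open Equiv Equiv.Perm

/-- `(0 1 2)` -/
def pt : alternatingGroup (Fin 7) := ⟨c[0, 1, 2], mem_alternatingGroup.2 (by decide +kernel)⟩
/-- `(3 4 5)` -/
def ps : alternatingGroup (Fin 7) := ⟨c[3, 4, 5], mem_alternatingGroup.2 (by decide +kernel)⟩
/-- inverts both -/
def pn : alternatingGroup (Fin 7) := ⟨swap 0 1 * swap 3 4, mem_alternatingGroup.2 (by decide +kernel)⟩
/-- exchanges `t` and `s` (up to inversion) -/
def pw : alternatingGroup (Fin 7) := ⟨c[0, 3, 1, 4] * swap 2 5, mem_alternatingGroup.2 (by decide +kernel)⟩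
/-- `(0 1 4)`, `(2 3 4)`, `(4 5 6)` -/
def pa : alternatingGroup (Fin 7) := ⟨c[0, 1, 4], mem_alternatingGroup.2 (by decide +kernel)⟩
def pb : alternatingGroup (Fin 7) := ⟨c[2, 3, 4], mem_alternatingGroup.2 (by decide +kernel)⟩
def pc : alternatingGroup (Fin 7) := ⟨c[4, 5, 6], mem_alternatingGroup.2 (by decide +kernel)⟩
/-- the four-group on `0 1 2 3` -/
def e1 : alternatingGroup (Fin 7) := ⟨swap 0 1 * swap 2 3, mem_alternatingGroup.2 (by decide +kernel)⟩
def e2 : alternatingGroup (Fin 7) := ⟨swap 0 2 * swap 1 3, mem_alternatingGroup.2 (by decide +kernel)⟩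

open Cfsg.Agent.H637.A7Grp in
/-- generation by two stabilizers -/
theorem gen7 (H : Subgroup (alternatingGroup (Fin 7)))
    (h1 : ∀ g : alternatingGroup (Fin 7), (g : Perm (Fin 7)) 0 = 0 → (g : Perm (Fin 7)) 1 = 1 →
      (g : Perm (Fin 7)) 2 = 2 → g ∈ H)
    (h2 : ∀ g : alternatingGroup (Fin 7), (g : Perm (Fin 7)) 3 = 3 → (g : Perm (Fin 7)) 4 = 4 →
      (g : Perm (Fin 7)) 5 = 5 → g ∈ H) : H = ⊤ := by
  rw [eq_top_iff, ← closure_s, Subgroup.closure_le]
  have k0 : s 0 ∈ H := h2 _ (by decide +kernel) (by decide +kernel) (by decide +kernel)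
  have k4 : s 4 ∈ H := h2 _ (by decide +kernel) (by decide +kernel) (by decide +kernel)
  have hps : ∀ g : alternatingGroup (Fin 7), (g : Perm (Fin 7)) 0 = 0 → (g : Perm (Fin 7)) 1 = 1 →
      (g : Perm (Fin 7)) 2 = 2 → g * s 4 * g⁻¹ ∈ H := fun g a b c =>
    H.mul_mem (H.mul_mem (h1 g a b c) k4) (H.inv_mem (h1 g a b c))
  have k1 : s 1 ∈ H := by
    have h := hps ⟨c[6, 3, 4], mem_alternatingGroup.2 (by decide +kernel)⟩ (by decide +kernel) (by decide +kernel)
      (by decide +kernel)
    have e : (⟨c[6, 3, 4], mem_alternatingGroup.2 (by decide +kernel)⟩ : alternatingGroup (Fin 7)) * s 4 *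
      (⟨c[6, 3, 4], mem_alternatingGroup.2 (by decide +kernel)⟩ : alternatingGroup (Fin 7))⁻¹ = s 1 := by
      decide +kernel
    rwa [e] at h
  have k2 : s 2 ∈ H := by
    have h := hps ⟨c[6, 4, 5], mem_alternatingGroup.2 (by decide +kernel)⟩ (by decide +kernel) (by decide +kernel)
      (by decide +kernel)
    have e : (⟨c[6, 4, 5], mem_alternatingGroup.2 (by decide +kernel)⟩ : alternatingGroup (Fin 7)) * s 4 *
      (⟨c[6, 4, 5], mem_alternatingGroup.2 (by decide +kernel)⟩ : alternatingGroup (Fin 7))⁻¹ = s 2 := by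
      decide +kernel
    rwa [e] at h
  have k3 : s 3 ∈ H := by
    have h := hps ⟨c[6, 5, 3], mem_alternatingGroup.2 (by decide +kernel)⟩ (by decide +kernel) (by decide +kernel)
      (by decide +kernel)
    have e : (⟨c[6, 5, 3], mem_alternatingGroup.2 (by decide +kernel)⟩ : alternatingGroup (Fin 7)) * s 4 *
      (⟨c[6, 5, 3], mem_alternatingGroup.2 (by decide +kernel)⟩ : alternatingGroup (Fin 7))⁻¹ = s 3 := by
      decide +kernel
    rwa [e] at h
  rintro _ ⟨i, rfl⟩
  fin_cases i
  · exact k0
  · exact k1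
  · exact k2
  · exact k3
  · exact k4

open Cfsg.Agent.H637.A7Grp in
/-- generation by three 3-cycles -/
theorem gen7' (H : Subgroup (alternatingGroup (Fin 7))) (h1 : pt ∈ H) (h2 : pb ∈ H) (h3 : pc ∈ H) : H = ⊤ := by
  rw [eq_top_iff, ← closure_s, Subgroup.closure_le]
  have k0 : s 0 ∈ H := by
    have e : s 0 = pt := by decide +kernel
    rw [e]; exact h1
  have k1 : s 1 ∈ H := by
    have e : s 1 = pb * pt * pb⁻¹ := by decide +kernel
    rw [e]; exact H.mul_mem (H.mul_mem h2 h1) (H.inv_mem h2)
  have k2 : s 2 ∈ H := by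
    have e : s 2 = pb⁻¹ * pt * pb := by decide +kernel
    rw [e]; exact H.mul_mem (H.mul_mem (H.inv_mem h2) h1) h2
  have k3 : s 3 ∈ H := by
    have e : s 3 = pc * s 2 * pc⁻¹ := by decide +kernel
    rw [e]; exact H.mul_mem (H.mul_mem h3 k2) (H.inv_mem h3)
  have k4 : s 4 ∈ H := by
    have e : s 4 = pc⁻¹ * s 2 * pc := by decide +kernel
    rw [e]; exact H.mul_mem (H.mul_mem (H.inv_mem h3) k2) h3
  rintro _ ⟨i, rfl⟩
  fin_cases i
  · exact k0
  · exact k1
  · exact k2
  · exact k3
  · exact k4

theorem pt_three : pt * pt * pt = 1 := by decide +kernel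
theorem ps_three : ps * ps * ps = 1 := by decide +kernel
theorem pt_ps : pt * ps = ps * pt := by decide +kernel
theorem pn_pt : pn * pt * pn⁻¹ = pt * pt := by decide +kernel
theorem pn_u : pn * (pt * ps) * pn⁻¹ = (pt * ps) * (pt * ps) := by decide +kernel
/-- `t s` and `t s⁻¹` are conjugate -/
theorem conj_u : ∃ w : alternatingGroup (Fin 7), w * (pt * ps) * w⁻¹ = pt * (ps * ps) := by
  refine ⟨⟨c[1, 5, 2, 4] * swap 0 3, mem_alternatingGroup.2 (by decide +kernel)⟩, ?_⟩
  decide +kernel
theorem conj_ts : ∃ w : alternatingGroup (Fin 7), w * pt * w⁻¹ = ps := by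
  refine ⟨⟨swap 0 3 * swap 1 4 * c[2, 5, 6], mem_alternatingGroup.2 (by decide +kernel)⟩, ?_⟩
  decide +kernel
theorem conj_ab : (∃ w : alternatingGroup (Fin 7), w * pt * w⁻¹ = pb) ∧
    (∃ w : alternatingGroup (Fin 7), w * pt * w⁻¹ = pc) ∧ ∃ w : alternatingGroup (Fin 7), w * pt * w⁻¹ = pa := by
  refine ⟨⟨⟨c[0, 2, 4, 1, 3], mem_alternatingGroup.2 (by decide +kernel)⟩, ?_⟩,
    ⟨⟨swap 0 4 * swap 1 5 * c[2, 6, 3], mem_alternatingGroup.2 (by decide +kernel)⟩, ?_⟩,
    ⟨⟨c[2, 4, 5], mem_alternatingGroup.2 (by decide +kernel)⟩, ?_⟩⟩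
  · decide +kernel
  · decide +kernel
  · decide +kernel

end perms

/-! ### the representation -/

section rep

variable {K V : Type*} [Field K] [AddCommGroup V] [Module K V] [FiniteDimensional K V]
  (r : alternatingGroup (Fin 7) →* Module.End K V)

/-- the projection onto the fixed vectors of an element of order three -/
def prj (g : alternatingGroup (Fin 7)) : Module.End K V := 1 + r g + r g * r g

/-- the projections onto the other eigenspaces -/
def prw (w : K) (g : alternatingGroup (Fin 7)) : Module.End K V := 1 + (w * w) • r g + w • (r g * r g)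

variable {r}

theorem add_self_end (h2 : (2 : K) = 0) (A : Module.End K V) : A + A = 0 := by
  rw [← two_smul K A, h2, zero_smul]

theorem r_three {g : alternatingGroup (Fin 7)} (hg : g * g * g = 1) : r g * r g * r g = 1 := by
  rw [← map_mul, ← map_mul, hg, map_one]

theorem prj_idem (h2 : (2 : K) = 0) {g : alternatingGroup (Fin 7)} (hg : g * g * g = 1) : prj r g * prj r g = prj r g := by
  have h3 := r_three (r := r) hg
  have h4 : r g * r g * (r g * r g) = r g := by
    rw [← mul_assoc, h3, one_mul]
  have h5 : r g * (r g * r g) = 1 := by rw [← mul_assoc, h3]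
  have e : prj r g * prj r g = 1 + r g + r g * r g + (r g + r g * r g + r g * (r g * r g)) +
      (r g * r g + r g * r g * r g + r g * r g * (r g * r g)) := by
    unfold prj
    noncomm_ring
  rw [e, h3, h4, h5]
  have a1 := add_self_end h2 (r g)
  have a2 := add_self_end h2 (r g * r g)
  have a3 := add_self_end h2 (1 : Module.End K V)
  unfold prj
  calc 1 + r g + r g * r g + (r g + r g * r g + 1) + (r g * r g + 1 + r g)
      = (1 + r g + r g * r g) + (r g + r g) + (r g * r g + r g * r g) + (1 + 1) := by abel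
    _ = _ := by rw [a1, a2, a3]; abel

theorem r_prj {g : alternatingGroup (Fin 7)} (hg : g * g * g = 1) : r g * prj r g = prj r g := by
  have h3 := r_three (r := r) hg
  unfold prj
  rw [mul_add, mul_add, mul_one, ← mul_assoc, h3]
  abel

theorem prj_r {g : alternatingGroup (Fin 7)} (hg : g * g * g = 1) : prj r g * r g = prj r g := by
  have h3 := r_three (r := r) hg
  unfold prj
  rw [add_mul, add_mul, one_mul, h3]
  abel

theorem prj_fix (h2 : (2 : K) = 0) {g : alternatingGroup (Fin 7)} {v : V} (hv : r g v = v) : prj r g v = v := by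
  unfold prj
  rw [LinearMap.add_apply, LinearMap.add_apply, Module.End.mul_apply, hv, hv, Module.End.one_apply]
  have : v + v = 0 := by rw [← two_smul K v, h2, zero_smul]
  rw [this, zero_add]

/-- conjugation -/
theorem prj_conj (w g : alternatingGroup (Fin 7)) : r w * prj r g * r w⁻¹ = prj r (w * g * w⁻¹) := by
  have h1 : r w * r w⁻¹ = 1 := by rw [← map_mul, mul_inv_cancel, map_one]
  have h2 : r w⁻¹ * r w = 1 := by rw [← map_mul, inv_mul_cancel, map_one]
  unfold prj
  have h3 : r (w * g * w⁻¹) * r (w * g * w⁻¹) = r w * (r g * r g) * r w⁻¹ := by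
    rw [← map_mul, ← map_mul, ← map_mul, ← map_mul]
    congr 1
    group
  rw [h3, map_mul, map_mul, mul_add, mul_add, add_mul, add_mul, mul_one, h1]

theorem rk_prj_conj (w g : alternatingGroup (Fin 7)) : rk (prj r (w * g * w⁻¹)) = rk (prj r g) := by
  rw [← prj_conj]
  exact rk_conj (by rw [← map_mul, mul_inv_cancel, map_one]) (by rw [← map_mul, inv_mul_cancel, map_one])

theorem prw_conj (c : K) (w g : alternatingGroup (Fin 7)) : r w * prw r c g * r w⁻¹ = prw r c (w * g * w⁻¹) := by
  have h1 : r w * r w⁻¹ = 1 := by rw [← map_mul, mul_inv_cancel, map_one]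
  unfold prw
  have h3 : r (w * g * w⁻¹) * r (w * g * w⁻¹) = r w * (r g * r g) * r w⁻¹ := by
    rw [← map_mul, ← map_mul, ← map_mul, ← map_mul]
    congr 1
    group
  rw [h3, map_mul, map_mul, mul_add, mul_add, add_mul, add_mul, mul_one, h1, mul_smul_comm, mul_smul_comm,
    smul_mul_assoc, smul_mul_assoc]

theorem prw_sq {c : K} {g : alternatingGroup (Fin 7)} (hg : g * g * g = 1) :
    prw r c (g * g) = 1 + c • r g + (c * c) • (r g * r g) := by
  have h3 := r_three (r := r) hg
  unfold prw
  rw [map_mul]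
  have h4 : r g * r g * (r g * r g) = r g := by rw [← mul_assoc, h3, one_mul]
  rw [h4]
  abel

/-- elements of the group algebra of a group of order three -/
theorem alg_mul {R : Module.End K V} (hR3 : R * R * R = 1) (z₁ a₁ b₁ z₂ a₂ b₂ : K) :
    (z₁ • (1 : Module.End K V) + a₁ • R + b₁ • (R * R)) * (z₂ • (1 : Module.End K V) + a₂ • R + b₂ • (R * R)) =
      (z₁ * z₂ + a₁ * b₂ + b₁ * a₂) • (1 : Module.End K V) + (z₁ * a₂ + a₁ * z₂ + b₁ * b₂) • R +
        (z₁ * b₂ + b₁ * z₂ + a₁ * a₂) • (R * R) := by
  have h5 : R * (R * R) = 1 := by rw [← mul_assoc, hR3]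
  have h4 : R * R * (R * R) = R := by rw [← mul_assoc, hR3, one_mul]
  simp only [mul_add, add_mul, mul_one, one_mul, smul_mul_assoc, mul_smul_comm, smul_smul, smul_add, hR3, h5, h4]
  module

/-- `x + 2 k = dim V` -/
theorem dim_split (h2 : (2 : K) = 0) {c : K} (hc : c * c + c + 1 = 0) {g n : alternatingGroup (Fin 7)}
    (hg : g * g * g = 1) (hn : n * g * n⁻¹ = g * g) :
    rk (prj r g) + 2 * rk (prw r c g) = Module.finrank K V ∧ prj r g + prw r c g + prw r c (g * g) = 1 ∧
      prw r c g * prw r c g = prw r c g ∧ prw r c (g * g) * prw r c (g * g) = prw r c (g * g) ∧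
      rk (prw r c (g * g)) = rk (prw r c g) := by
  have hR3 : r g * r g * r g = 1 := r_three (r := r) hg
  have hcc : c * c = c + 1 := by linear_combination hc - (c + 1) * h2
  have hA : prj r g = (1 : K) • (1 : Module.End K V) + (1 : K) • r g + (1 : K) • (r g * r g) := by
    rw [one_smul, one_smul, one_smul]; rfl
  have hB : prw r c g = (1 : K) • (1 : Module.End K V) + (c + 1) • r g + c • (r g * r g) := by
    rw [← hcc, one_smul]; rfl
  have hB' : prw r c (g * g) = (1 : K) • (1 : Module.End K V) + c • r g + (c + 1) • (r g * r g) := by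
    rw [← hcc, one_smul]; exact prw_sq hg
  have h0 : (0 : Module.End K V) = (0 : K) • (1 : Module.End K V) + (0 : K) • r g + (0 : K) • (r g * r g) := by
    rw [zero_smul, zero_smul, zero_smul, add_zero, add_zero]
  have eAA := prj_idem (r := r) h2 hg
  have eBB : prw r c g * prw r c g = prw r c g := by
    rw [hB, alg_mul hR3]
    congr 1
    · congr 1
      · congr 1; linear_combination (c * (c + 1)) * h2
      · congr 1; linear_combination hc
    · congr 1; linear_combination hc + c * h2
  have eCC : prw r c (g * g) * prw r c (g * g) = prw r c (g * g) := by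
    rw [hB', alg_mul hR3]
    congr 1
    · congr 1
      · congr 1; linear_combination (c * (c + 1)) * h2
      · congr 1; linear_combination hc + c * h2
    · congr 1; linear_combination hc
  have eAB : prj r g * prw r c g = 0 := by
    rw [hA, hB, alg_mul hR3, h0]
    congr 1
    · congr 1
      · congr 1; linear_combination (1 + c) * h2
      · congr 1; linear_combination (1 + c) * h2
    · congr 1; linear_combination (1 + c) * h2
  have eBA : prw r c g * prj r g = 0 := by
    rw [hA, hB, alg_mul hR3, h0]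
    congr 1
    · congr 1
      · congr 1; linear_combination (1 + c) * h2
      · congr 1; linear_combination (1 + c) * h2
    · congr 1; linear_combination (1 + c) * h2
  have eAC : prj r g * prw r c (g * g) = 0 := by
    rw [hA, hB', alg_mul hR3, h0]
    congr 1
    · congr 1
      · congr 1; linear_combination (1 + c) * h2
      · congr 1; linear_combination (1 + c) * h2
    · congr 1; linear_combination (1 + c) * h2
  have eCA : prw r c (g * g) * prj r g = 0 := by
    rw [hA, hB', alg_mul hR3, h0]
    congr 1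
    · congr 1
      · congr 1; linear_combination (1 + c) * h2
      · congr 1; linear_combination (1 + c) * h2
    · congr 1; linear_combination (1 + c) * h2
  have eBC : prw r c g * prw r c (g * g) = 0 := by
    rw [hB, hB', alg_mul hR3, h0]
    congr 1
    · congr 1
      · congr 1; linear_combination (c * c + c + 1) * h2
      · congr 1; linear_combination hc + c * h2
    · congr 1; linear_combination hc + c * h2
  have eCB : prw r c (g * g) * prw r c g = 0 := by
    rw [hB, hB', alg_mul hR3, h0]
    congr 1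
    · congr 1
      · congr 1; linear_combination (c * c + c + 1) * h2
      · congr 1; linear_combination hc + c * h2
    · congr 1; linear_combination hc + c * h2
  have esum : prj r g + prw r c g + prw r c (g * g) = 1 := by
    have h1 : (1 : Module.End K V) = (1 : K) • (1 : Module.End K V) + (0 : K) • r g + (0 : K) • (r g * r g) := by
      rw [zero_smul, zero_smul, one_smul, add_zero, add_zero]
    have e : prj r g + prw r c g + prw r c (g * g) =
        (3 : K) • (1 : Module.End K V) + (1 + (c + 1) + c) • r g + (1 + c + (c + 1)) • (r g * r g) := by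
      rw [hA, hB, hB']
      module
    rw [e]
    conv_rhs => rw [h1]
    congr 1
    · congr 1
      · congr 1; linear_combination h2
      · congr 1; linear_combination (1 + c) * h2
    · congr 1; linear_combination (1 + c) * h2
  have hrk : rk (prw r c (g * g)) = rk (prw r c g) := by
    rw [← hn, ← prw_conj]
    exact rk_conj (by rw [← map_mul, mul_inv_cancel, map_one]) (by rw [← map_mul, inv_mul_cancel, map_one])
  refine ⟨?_, esum, eBB, eCC, hrk⟩
  have hAB : (prj r g + prw r c g) * (prj r g + prw r c g) = prj r g + prw r c g := by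
    rw [mul_add, add_mul, add_mul, eAA, eBA, eAB, eBB]
    abel
  have h3 := rk_add hAB eCC (by rw [add_mul, eAC, eBC, add_zero]) (by rw [mul_add, eCA, eCB, add_zero])
  rw [esum, rk_one, rk_add eAA eBB eAB eBA, hrk] at h3
  omega

theorem trace_r_conj (w g : alternatingGroup (Fin 7)) :
    LinearMap.trace K V (r (w * g * w⁻¹)) = LinearMap.trace K V (r g) := by
  rw [map_mul, LinearMap.trace_mul_comm, ← map_mul, ← mul_assoc, inv_mul_cancel, one_mul]

theorem trace_invol (h2 : (2 : K) = 0) (hd : Even (Module.finrank K V)) {g : alternatingGroup (Fin 7)}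
    (hg : g * g = 1) : LinearMap.trace K V (r g) = 0 := by
  have h1 : (r g + 1) * (r g + 1) = 0 := by
    have h3 : r g * r g = 1 := by rw [← map_mul, hg, map_one]
    have e : (r g + 1) * (r g + 1) = (r g * r g + 1) + (r g + r g) := by noncomm_ring
    rw [e, h3, add_self_end h2, add_self_end h2, add_zero]
  have hn : IsNilpotent (r g + 1) := ⟨2, by rw [pow_two, h1]⟩
  have h3 := (LinearMap.isNilpotent_trace_of_isNilpotent hn).eq_zero
  rw [map_add, LinearMap.trace_one] at h3
  obtain ⟨m, hm⟩ := hd
  rw [hm] at h3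
  push_cast at h3
  linear_combination h3 - (m : K) * h2

theorem trace_prw (h2 : (2 : K) = 0) (hd : Even (Module.finrank K V)) {c : K} (hc : c * c + c + 1 = 0)
    {g n : alternatingGroup (Fin 7)} (hn : n * g * n⁻¹ = g * g) :
    LinearMap.trace K V (prw r c g) = LinearMap.trace K V (r g) := by
  unfold prw
  rw [map_add, map_add, map_smul, map_smul, LinearMap.trace_one, ← map_mul, ← hn, trace_r_conj, smul_eq_mul, smul_eq_mul]
  obtain ⟨m, hm⟩ := hd
  rw [hm]
  push_cast
  linear_combination (m : K) * h2 + (LinearMap.trace K V (r g)) * hc - (LinearMap.trace K V (r g)) * h2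

theorem klein_zero (h2 : (2 : K) = 0) {c : K} (hc : c * c + c + 1 = 0) (hx : rk (prj r pc) < 4)
    (hk : rk (prw r c pc) < 4) : 1 + r e1 + (r e2 + r e1 * r e2) = 0 := by
  have hg : pc * pc * pc = 1 := by decide +kernel
  obtain ⟨n, hn⟩ : ∃ n : alternatingGroup (Fin 7), n * pc * n⁻¹ = pc * pc := by
    refine ⟨⟨Equiv.swap 4 5 * Equiv.swap 0 1, Equiv.Perm.mem_alternatingGroup.2 (by decide +kernel)⟩, ?_⟩
    decide +kernel
  obtain ⟨-, hsum, hBB, hCC, hrk⟩ := dim_split (r := r) h2 hc hg hn
  have hAA := prj_idem (r := r) h2 hg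
  have c1 : pc * e1 = e1 * pc := by decide +kernel
  have c2 : pc * e2 = e2 * pc := by decide +kernel
  have d1 : r pc * r e1 = r e1 * r pc := by rw [← map_mul, c1, map_mul]
  have d2 : r pc * r e2 = r e2 * r pc := by rw [← map_mul, c2, map_mul]
  have e11 : r e1 * r e1 = 1 := by
    have : e1 * e1 = 1 := by decide +kernel
    rw [← map_mul, this, map_one]
  have e22 : r e2 * r e2 = 1 := by
    have : e2 * e2 = 1 := by decide +kernel
    rw [← map_mul, this, map_one]
  have e12 : r e1 * r e2 = r e2 * r e1 := by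
    have : e1 * e2 = e2 * e1 := by decide +kernel
    rw [← map_mul, this, map_mul]
  -- on the range of an idempotent commuting with everything
  have key : ∀ X : Module.End K V, X * X = X → rk X < 4 → X * r e1 = r e1 * X → X * r e2 = r e2 * X → ∀ v : V,
      (1 + r e1 + (r e2 + r e1 * r e2)) (X v) = 0 := by
    intro X hX hr k1 k2 v
    have m1 : ∀ w, X (r e1 w) = r e1 (X w) := fun w => LinearMap.congr_fun k1 w
    have m2 : ∀ w, X (r e2 w) = r e2 (X w) := fun w => LinearMap.congr_fun k2 w
    have := klein h2 e12 e11 e22 (LinearMap.range X) hr (v := X v) ⟨v, rfl⟩ ⟨r e1 v, m1 v⟩ ⟨r e2 v, m2 v⟩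
      ⟨r e1 (r e2 v), by rw [m1, m2]⟩
    exact this
  have comm : ∀ (g : alternatingGroup (Fin 7)), r pc * r g = r g * r pc →
      prj r pc * r g = r g * prj r pc ∧ prw r c pc * r g = r g * prw r c pc ∧
        prw r c (pc * pc) * r g = r g * prw r c (pc * pc) := by
    intro g hgc
    have h3 : r pc * r pc * r g = r g * (r pc * r pc) := by
      rw [mul_assoc, hgc, ← mul_assoc, hgc, mul_assoc]
    refine ⟨?_, ?_, ?_⟩
    · unfold prj
      rw [add_mul, add_mul, mul_add, mul_add, one_mul, mul_one, hgc, h3]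
    · unfold prw
      rw [add_mul, add_mul, mul_add, mul_add, one_mul, mul_one, smul_mul_assoc, smul_mul_assoc, mul_smul_comm,
        mul_smul_comm, hgc, h3]
    · rw [prw_sq hg, add_mul, add_mul, mul_add, mul_add, one_mul, mul_one, smul_mul_assoc, smul_mul_assoc, mul_smul_comm,
        mul_smul_comm, hgc, h3]
  obtain ⟨p1, p2, p3⟩ := comm e1 d1
  obtain ⟨q1, q2, q3⟩ := comm e2 d2
  apply LinearMap.ext
  intro v
  have hv : v = prj r pc v + prw r c pc v + prw r c (pc * pc) v := by
    have := LinearMap.congr_fun hsum v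
    exact this.symm
  rw [hv, map_add, map_add, key _ hAA hx p1 q1, key _ hBB hk p2 q2, key _ hCC (by rw [hrk]; exact hk) p3 q3]
  simp

theorem case_three (h2 : (2 : K) = 0) (hd : Even (Module.finrank K V)) {c : K} (hc : c * c + c + 1 = 0)
    (hx : rk (prj r pc) < 4) (hk : rk (prw r c pc) = 3) : False := by
  have hN := klein_zero (r := r) h2 hc hx (by omega)
  obtain ⟨n, hn⟩ : ∃ n : alternatingGroup (Fin 7), n * pc * n⁻¹ = pc * pc := by
    refine ⟨⟨Equiv.swap 4 5 * Equiv.swap 0 1, Equiv.Perm.mem_alternatingGroup.2 (by decide +kernel)⟩, ?_⟩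
    decide +kernel
  obtain ⟨-, -, hBB, -, -⟩ := dim_split (r := r) h2 hc (by decide +kernel) hn
  have h3 := trace_prw (r := r) h2 hd hc hn
  rw [trace_idem hBB, hk] at h3
  have h4 : LinearMap.trace K V (r pc) = 1 := by
    rw [← h3]
    push_cast
    linear_combination h2
  have h5 : LinearMap.trace K V (r pa) = 1 := by
    obtain ⟨w, hw⟩ : ∃ w : alternatingGroup (Fin 7), w * pc * w⁻¹ = pa := by
      obtain ⟨-, ⟨w, hw⟩, ⟨w', hw'⟩⟩ := conj_ab
      refine ⟨w' * w⁻¹, ?_⟩
      rw [← hw, ← hw']
      group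
    rw [← hw, trace_r_conj, h4]
  -- multiply the relation
  have h6 : LinearMap.trace K V (r pa * (1 + r e1 + (r e2 + r e1 * r e2))) = 0 := by
    rw [hN, mul_zero, map_zero]
  rw [mul_add, mul_add, mul_add, mul_one, ← map_mul, ← map_mul, ← map_mul, ← map_mul, map_add, map_add, map_add, h5] at h6
  have h7 : LinearMap.trace K V (r (pa * e1)) = 0 := trace_invol h2 hd (by decide +kernel)
  obtain ⟨w, hw⟩ : ∃ w : alternatingGroup (Fin 7), w * (pa * e2) * w⁻¹ = pa * (e1 * e2) := by
    refine ⟨⟨Equiv.swap 2 3 * Equiv.swap 5 6, Equiv.Perm.mem_alternatingGroup.2 (by decide +kernel)⟩, ?_⟩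
    decide +kernel
  rw [h7, ← hw, trace_r_conj] at h6
  have h8 : (1 : K) = 0 := by linear_combination h6 - (LinearMap.trace K V (r (pa * e2))) * h2
  exact one_ne_zero h8

/-- the commutant of an endomorphism -/
def cmt (r : alternatingGroup (Fin 7) →* Module.End K V) (A : Module.End K V) : Subgroup (alternatingGroup (Fin 7)) where
  carrier := {g | r g * A = A * r g}
  one_mem' := by
    show r 1 * A = A * r 1
    rw [map_one, one_mul, mul_one]
  mul_mem' := fun {a b} ha hb => by
    show r (a * b) * A = A * r (a * b)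
    have ha' : r a * A = A * r a := ha
    have hb' : r b * A = A * r b := hb
    rw [map_mul, mul_assoc, hb', ← mul_assoc, ha', mul_assoc]
  inv_mem' := fun {a} ha => by
    show r a⁻¹ * A = A * r a⁻¹
    have ha' : r a * A = A * r a := ha
    have h1 : r a⁻¹ * r a = 1 := by rw [← map_mul, inv_mul_cancel, map_one]
    have h2 : r a * r a⁻¹ = 1 := by rw [← map_mul, mul_inv_cancel, map_one]
    calc r a⁻¹ * A = r a⁻¹ * A * (r a * r a⁻¹) := by rw [h2, mul_one]
      _ = r a⁻¹ * (A * r a) * r a⁻¹ := by noncomm_ring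
      _ = (r a⁻¹ * r a) * A * r a⁻¹ := by rw [← ha']; noncomm_ring
      _ = _ := by rw [h1, one_mul]

theorem cmt_prj {g h : alternatingGroup (Fin 7)} (hc : g * h = h * g) : g ∈ cmt r (prj r h) := by
  show r g * prj r h = prj r h * r g
  have h1 : r g * r h = r h * r g := by rw [← map_mul, hc, map_mul]
  have h3 : r g * (r h * r h) = r h * r h * r g := by rw [← mul_assoc, h1, mul_assoc, h1, mul_assoc]
  unfold prj
  rw [mul_add, mul_add, add_mul, add_mul, mul_one, one_mul, h1, h3]

theorem commute_of_fix {g h : alternatingGroup (Fin 7)}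
    (hd : ∀ i, (g : Equiv.Perm (Fin 7)) i = i ∨ (h : Equiv.Perm (Fin 7)) i = i) : g * h = h * g := by
  apply Subtype.ext
  have h1 : Equiv.Perm.Disjoint (g : Equiv.Perm (Fin 7)) (h : Equiv.Perm (Fin 7)) := hd
  exact h1.commute.eq

/-- the projection onto `C_V(0 1 2)` cannot be `S` or `1 - S` -/
theorem case_two_aux (hirr : ∀ W : Submodule K V, (∀ g, ∀ w ∈ W, r g w ∈ W) → W = ⊥ ∨ W = ⊤)
    (h : prj r pt = prj r ps ∨ prj r pt = 1 + prj r ps) : prj r pt = 0 ∨ LinearMap.range (prj r pt) = ⊤ := by
  have h3 : cmt r (prj r pt) = ⊤ := by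
    apply gen7
    · intro g g0 g1 g2
      apply cmt_prj
      apply commute_of_fix
      have : ∀ i : Fin 7, i = 0 ∨ i = 1 ∨ i = 2 ∨ (pt : Equiv.Perm (Fin 7)) i = i := by decide +kernel
      intro i
      rcases this i with rfl | rfl | rfl | hi
      · exact Or.inl g0
      · exact Or.inl g1
      · exact Or.inl g2
      · exact Or.inr hi
    · intro g g3 g4 g5
      have hs : g ∈ cmt r (prj r ps) := by
        apply cmt_prj
        apply commute_of_fix
        have : ∀ i : Fin 7, i = 3 ∨ i = 4 ∨ i = 5 ∨ (ps : Equiv.Perm (Fin 7)) i = i := by decide +kernel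
        intro i
        rcases this i with rfl | rfl | rfl | hi
        · exact Or.inl g3
        · exact Or.inl g4
        · exact Or.inl g5
        · exact Or.inr hi
      have hs' : r g * prj r ps = prj r ps * r g := hs
      show r g * prj r pt = prj r pt * r g
      rcases h with h | h
      · rw [h, hs']
      · rw [h, mul_add, add_mul, hs', mul_one, one_mul]
  rcases hirr (LinearMap.range (prj r pt)) (by
    rintro g _ ⟨v, rfl⟩
    have h4 : g ∈ cmt r (prj r pt) := by rw [h3]; trivial
    have h5 : r g * prj r pt = prj r pt * r g := h4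
    exact ⟨r g v, (LinearMap.congr_fun h5 v).symm⟩) with h4 | h4
  · exact Or.inl (LinearMap.range_eq_bot.1 h4)
  · exact Or.inr h4

theorem case_two (h2 : (2 : K) = 0) {c : K} (hc : c * c + c + 1 = 0) (hd : Module.finrank K V = 8)
    (hirr : ∀ W : Submodule K V, (∀ g, ∀ w ∈ W, r g w ∈ W) → W = ⊥ ∨ W = ⊤) (hx : rk (prj r pt) = 4) : False := by
  have hTT := prj_idem (r := r) h2 pt_three
  have hSS := prj_idem (r := r) h2 ps_three
  set t := r pt with ht
  set s := r ps with hs
  set T := prj r pt with hT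
  set S := prj r ps with hS
  set U := prj r (pt * ps) with hU
  set U' := prj r (pt * (ps * ps)) with hU'
  have hts : t * s = s * t := by rw [ht, hs, ← map_mul, pt_ps, map_mul]
  have ht3 : t * t * t = 1 := r_three pt_three
  have hs3 : s * s * s = 1 := r_three ps_three
  have hrS : rk S = 4 := by
    obtain ⟨w, hw⟩ := conj_ts
    rw [hS, ← hw, rk_prj_conj, hx]
  have eT : T = 1 + t + t * t := rfl
  have eS : S = 1 + s + s * s := rfl
  have eU : U = 1 + t * s + t * s * (t * s) := by rw [hU]; unfold prj; rw [map_mul]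
  have eU' : U' = 1 + t * (s * s) + t * (s * s) * (t * (s * s)) := by rw [hU']; unfold prj; rw [map_mul, map_mul]
  have hUU : U * U = U := prj_idem h2 (by decide +kernel)
  have hUU' : U' * U' = U' := prj_idem h2 (by decide +kernel)
  have hTt : T * t = T := prj_r pt_three
  have hSs : S * s = S := prj_r ps_three
  -- normal forms
  have n1 : t * s * (t * s) = t * t * (s * s) := by
    calc t * s * (t * s) = t * (s * t) * s := by noncomm_ring
      _ = t * (t * s) * s := by rw [hts]
      _ = _ := by noncomm_ring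
  have n2 : t * (s * s) * (t * (s * s)) = t * t * s := by
    have k1 : s * s * t = t * (s * s) := by rw [mul_assoc, ← hts, ← mul_assoc, ← hts, mul_assoc]
    calc t * (s * s) * (t * (s * s)) = t * (s * s * t) * (s * s) := by noncomm_ring
      _ = t * (t * (s * s)) * (s * s) := by rw [k1]
      _ = t * t * (s * s * s) * s := by noncomm_ring
      _ = _ := by rw [hs3, mul_one]
  rw [n1] at eU
  rw [n2] at eU'
  have hTS : T * S = S * T := by
    rw [eT, eS]
    have k1 : s * s * t = t * (s * s) := by rw [mul_assoc, ← hts, ← mul_assoc, ← hts, mul_assoc]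
    have k2 : t * t * s = s * (t * t) := by rw [mul_assoc, hts, ← mul_assoc, hts, mul_assoc]
    have k3 : t * t * (s * s) = s * s * (t * t) := by rw [← mul_assoc, k2, mul_assoc, k2, mul_assoc]
    calc (1 + t + t * t) * (1 + s + s * s) = 1 + s + s * s + t + t * s + t * (s * s) + t * t + t * t * s +
          t * t * (s * s) := by noncomm_ring
      _ = 1 + s + s * s + t + s * t + s * s * t + t * t + s * (t * t) + s * s * (t * t) := by rw [hts, k1, k2, k3]
      _ = _ := by noncomm_ring
  have hTt2 : T * (t * t) = T := by rw [← mul_assoc, hTt, hTt]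
  have hTU : T * U = T * S := by
    rw [eU, eS]
    calc T * (1 + t * s + t * t * (s * s)) = T + T * t * s + T * (t * t) * (s * s) := by noncomm_ring
      _ = T + T * s + T * (s * s) := by rw [hTt, hTt2]
      _ = _ := by noncomm_ring
  have hTU' : T * U' = T * S := by
    rw [eU', eS]
    calc T * (1 + t * (s * s) + t * t * s) = T + T * t * (s * s) + T * (t * t) * s := by noncomm_ring
      _ = T + T * s + T * (s * s) := by rw [hTt, hTt2]; abel
      _ = _ := by noncomm_ring
  have h1s := fun A : Module.End K V => add_self_end (V := V) h2 A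
  obtain ⟨Z, hZ⟩ : ∃ Z, Z = T * S := ⟨_, rfl⟩
  have hZ' : Z = S * T := by rw [hZ, hTS]
  rw [← hZ] at hTU hTU'
  have hTZ : T * Z = Z := by rw [hZ, ← mul_assoc, hTT]
  have hSZ : S * Z = Z := by rw [hZ', ← mul_assoc, hSS]
  have hZS : Z * S = Z := by rw [hZ, mul_assoc, hSS]
  have hZT : Z * T = Z := by rw [hZ', mul_assoc, hTT]
  have hZZ : Z * Z = Z := by
    calc Z * Z = Z * (T * S) := by rw [← hZ]
      _ = Z * T * S := by rw [mul_assoc]
      _ = Z := by rw [hZT, hZS]
  have hUts : U * (t * s) = U := by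
    rw [ht, hs, ← map_mul]
    exact prj_r (by decide +kernel)
  have htsU : t * s * U = U := by
    rw [ht, hs, ← map_mul]
    exact r_prj (by decide +kernel)
  -- everything commutes
  have hst2 : s * s * t = t * (s * s) := by rw [mul_assoc, ← hts, ← mul_assoc, ← hts, mul_assoc]
  have htU : t * U = U * t := by
    rw [eU, mul_add, mul_add, add_mul, add_mul, mul_one, one_mul]
    congr 1
    · congr 1
      rw [mul_assoc, ← hts]
    · rw [mul_assoc (t * t), hst2]
      noncomm_ring
  have hsU : s * U = U * s := by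
    have k2 : t * t * s = s * (t * t) := by rw [mul_assoc, hts, ← mul_assoc, hts, mul_assoc]
    rw [eU, mul_add, mul_add, add_mul, add_mul, mul_one, one_mul]
    congr 1
    · congr 1
      rw [← mul_assoc, ← hts]
    · rw [← mul_assoc, ← k2]
      noncomm_ring
  have hUt : U * t = U * (s * s) := by
    calc U * t = U * t * (s * s * s) := by rw [hs3, mul_one]
      _ = U * (t * s) * (s * s) := by noncomm_ring
      _ = _ := by rw [hUts]
  have hUS : U * S = Z := by
    have k1 : U * S = S * U := by
      rw [eS, mul_add, mul_add, add_mul, add_mul, mul_one, one_mul, ← hsU, ← mul_assoc, ← hsU, mul_assoc, ← hsU, mul_assoc]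
    have hSs2 : S * (s * s) = S := by rw [← mul_assoc, hSs, hSs]
    rw [k1, eU, hZ', eT]
    have k3 : t * t * (s * s) = s * s * (t * t) := by
      symm
      calc s * s * (t * t) = s * s * t * t := by noncomm_ring
        _ = t * (s * s) * t := by rw [hst2]
        _ = t * (s * s * t) := by noncomm_ring
        _ = t * (t * (s * s)) := by rw [hst2]
        _ = t * t * (s * s) := by noncomm_ring
    calc S * (1 + t * s + t * t * (s * s)) = S * (1 + s * t + s * s * (t * t)) := by rw [hts, k3]
      _ = S + S * s * t + S * (s * s) * (t * t) := by noncomm_ring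
      _ = S + S * t + S * (t * t) := by rw [hSs, hSs2]
      _ = _ := by noncomm_ring
  have hUU'1 : U * U' = Z := by
    rw [eU', ← hUS, eS]
    have a1 : U * t * (t * s) = U * t := by rw [← htU, mul_assoc, hUts]
    calc U * (1 + t * (s * s) + t * t * s) = U + U * (t * s) * s + U * t * (t * s) := by noncomm_ring
      _ = U + U * s + U * t := by rw [hUts, a1]
      _ = U + U * s + U * (s * s) := by rw [hUt]
      _ = _ := by noncomm_ring
  have hU'U : U' * U = Z := by
    rw [← hUU'1, eU']
    have k1 : s * s * U = U * (s * s) := by rw [mul_assoc, hsU, ← mul_assoc, hsU, mul_assoc]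
    have k2 : t * t * U = U * (t * t) := by rw [mul_assoc, htU, ← mul_assoc, htU, mul_assoc]
    calc (1 + t * (s * s) + t * t * s) * U = U + t * (s * s * U) + t * t * (s * U) := by noncomm_ring
      _ = U + t * U * (s * s) + t * t * U * s := by rw [k1, hsU]; noncomm_ring
      _ = U + U * t * (s * s) + U * (t * t) * s := by rw [htU, k2]
      _ = _ := by noncomm_ring
  have hsum : U + U' = 1 + T + S + Z := by
    have k : 1 + T + S + Z = (1 + T) * (1 + S) := by rw [hZ]; noncomm_ring
    have kT : 1 + T = t + t * t := by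
      calc 1 + T = (1 + 1) + (t + t * t) := by rw [eT]; abel
        _ = _ := by rw [h1s, zero_add]
    have kS : 1 + S = s + s * s := by
      calc 1 + S = (1 + 1) + (s + s * s) := by rw [eS]; abel
        _ = _ := by rw [h1s, zero_add]
    rw [k, kT, kS, eU, eU']
    calc 1 + t * s + t * t * (s * s) + (1 + t * (s * s) + t * t * s) =
        (1 + 1) + (t * s + t * t * (s * s) + t * (s * s) + t * t * s) := by abel
      _ = _ := by rw [h1s, zero_add]; noncomm_ring
  have hUZ : U * Z = Z := by rw [← hUS, ← mul_assoc, hUU]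
  have hUT : U * T = Z := by
    have k2 : t * t * U = U * (t * t) := by rw [mul_assoc, htU, ← mul_assoc, htU, mul_assoc]
    have k3 : U * (1 + t + t * t) = (1 + t + t * t) * U := by
      rw [mul_add, mul_add, add_mul, add_mul, mul_one, one_mul, htU, k2]
    rw [← eT] at k3
    rw [k3, hTU]
  have hZU : Z * U = Z := by
    have : S * U = Z := by
      rw [← hUS, eS]
      have k1 : s * s * U = U * (s * s) := by rw [mul_assoc, hsU, ← mul_assoc, hsU, mul_assoc]
      calc (1 + s + s * s) * U = U + s * U + s * s * U := by noncomm_ring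
        _ = U + U * s + U * (s * s) := by rw [hsU, k1]
        _ = _ := by noncomm_ring
    calc Z * U = T * (S * U) := by rw [← mul_assoc, ← hZ]
      _ = Z := by rw [this, hTZ]
  have hU'Z : U' * Z = Z := by rw [← hU'U, ← mul_assoc, hUU']
  have hZU' : Z * U' = Z := by rw [← hUU'1, mul_assoc, hUU']
  -- ranks
  have ra := rk_sub (V := V) h2 hTT (mul_one 1) (mul_one T) (one_mul T)
  rw [rk_one, hd, hx] at ra
  have rc := rk_sub h2 hZZ hSS hZS hSZ
  rw [hrS] at rc
  have rd := rk_sub h2 rc.2 ra.2 (by
    calc (S + Z) * (1 + T) = S + Z + (S * T + Z * T) := by noncomm_ring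
      _ = S + Z := by rw [← hZ', hZT, h1s, add_zero]) (by
    calc (1 + T) * (S + Z) = S + Z + (T * S + T * Z) := by noncomm_ring
      _ = S + Z := by rw [← hZ, hTZ, h1s, add_zero])
  have hP : 1 + T + (S + Z) = U + U' := by rw [hsum]; abel
  rw [hP] at rd
  have re := rk_sub h2 hZZ hUU hZU hUZ
  have rf := rk_sub h2 hZZ hUU' hZU' hU'Z
  have rg := rk_sub h2 re.2 rd.2 (by
    calc (U + Z) * (U + U') = U * U + U * U' + Z * U + Z * U' := by noncomm_ring
      _ = U + Z + (Z + Z) := by rw [hUU, hUU'1, hZU, hZU']; abel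
      _ = _ := by rw [h1s, add_zero]) (by
    calc (U + U') * (U + Z) = U * U + U * Z + U' * U + U' * Z := by noncomm_ring
      _ = U + Z + (Z + Z) := by rw [hUU, hUZ, hU'U, hU'Z]; abel
      _ = _ := by rw [h1s, add_zero])
  have hQ : U + U' + (U + Z) = U' + Z := by
    calc U + U' + (U + Z) = (U + U) + (U' + Z) := by abel
      _ = _ := by rw [h1s, zero_add]
  rw [hQ] at rg
  have hy : rk U' = rk U := by
    obtain ⟨w, hw⟩ := conj_u
    rw [hU', ← hw, rk_prj_conj]
  have hy2 := (dim_split (r := r) h2 hc (g := pt * ps) (n := pn) (by decide +kernel) pn_u).1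
  rw [hd, ← hU] at hy2
  have h04 : rk Z = 0 ∨ rk Z = 4 := by omega
  rcases case_two_aux (r := r) hirr (by
    rcases h04 with h | h
    · right
      have hZ0 := rk_eq_zero h
      have hP0 : U + U' = 0 := rk_eq_zero (by omega)
      rw [hsum, hZ0, add_zero] at hP0
      show T = 1 + S
      calc T = (1 + T + S) + (1 + S) + (0 : Module.End K V) := by
            have e1 := h1s (1 : Module.End K V)
            have e2 := h1s S
            calc T = T + 0 + 0 := by abel
              _ = T + (1 + 1) + (S + S) := by rw [e1, e2]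
              _ = _ := by abel
        _ = 1 + S := by rw [hP0]; abel
    · left
      have e1 : S + Z = 0 := rk_eq_zero (by omega)
      have e3 := rk_sub h2 hZZ hTT hZT hTZ
      have e2 : T + Z = 0 := rk_eq_zero (by omega)
      show T = S
      have e4 : S = Z := by
        calc S = (S + Z) + Z := by rw [add_assoc, h1s, add_zero]
          _ = Z := by rw [e1, zero_add]
      have e5 : T = Z := by
        calc T = (T + Z) + Z := by rw [add_assoc, h1s, add_zero]
          _ = Z := by rw [e2, zero_add]
      rw [e4, e5]) with h | h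
  · rw [← hT] at h
    rw [h, rk_zero] at hx
    omega
  · rw [← hT] at h
    unfold rk at hx
    rw [h, finrank_top, hd] at hx
    omega

theorem fixed_of_prj {g : alternatingGroup (Fin 7)} (hg : g * g * g = 1) {v : V} (hv : v ∈ LinearMap.range (prj r g)) :
    r g v = v := by
  obtain ⟨w, rfl⟩ := hv
  exact LinearMap.congr_fun (r_prj (r := r) hg) w

theorem case_one (hd : Module.finrank K V = 8)
    (hirr : ∀ W : Submodule K V, (∀ g, ∀ w ∈ W, r g w ∈ W) → W = ⊥ ∨ W = ⊤) (hx : 6 ≤ rk (prj r pt)) : False := by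
  obtain ⟨⟨w1, h1⟩, ⟨w2, h2⟩, -⟩ := conj_ab
  have hb : 6 ≤ rk (prj r pb) := by rw [← h1, rk_prj_conj]; exact hx
  have hc : 6 ≤ rk (prj r pc) := by rw [← h2, rk_prj_conj]; exact hx
  unfold rk at hx hb hc
  set A := LinearMap.range (prj r pt)
  set B := LinearMap.range (prj r pb)
  set C := LinearMap.range (prj r pc)
  have d1 := Submodule.finrank_sup_add_finrank_inf_eq A B
  have d2 := Submodule.finrank_le (A ⊔ B)
  have d3 := Submodule.finrank_sup_add_finrank_inf_eq (A ⊓ B) C
  have d4 := Submodule.finrank_le ((A ⊓ B) ⊔ C)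
  rw [hd] at d2 d4
  have d5 : A ⊓ B ⊓ C ≠ ⊥ := by
    intro h
    rw [h, finrank_bot] at d3
    omega
  obtain ⟨v, hv, hv0⟩ := Submodule.exists_mem_ne_zero_of_ne_bot d5
  have hall : ∀ g, r g v = v := by
    let H : Subgroup (alternatingGroup (Fin 7)) :=
      { carrier := {g | r g v = v}
        one_mem' := by
          show r 1 v = v
          rw [map_one]; rfl
        mul_mem' := fun {a b} ha hb => by
          show r (a * b) v = v
          have ha' : r a v = v := ha
          have hb' : r b v = v := hb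
          rw [map_mul, Module.End.mul_apply, hb', ha']
        inv_mem' := fun {a} ha => by
          show r a⁻¹ v = v
          have ha' : r a v = v := ha
          have e : r a⁻¹ (r a v) = v := by
            rw [← Module.End.mul_apply, ← map_mul, inv_mul_cancel, map_one]; rfl
          rwa [ha'] at e }
    have hH : H = ⊤ := gen7' H (fixed_of_prj pt_three hv.1.1) (fixed_of_prj (by decide +kernel) hv.1.2)
      (fixed_of_prj (by decide +kernel) hv.2)
    intro g
    have : g ∈ H := by rw [hH]; trivial
    exact this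
  rcases hirr (Submodule.span K {v}) (by
    intro g w hw
    obtain ⟨c, rfl⟩ := Submodule.mem_span_singleton.1 hw
    rw [map_smul, hall]
    exact hw) with h | h
  · exact hv0 (by simpa using h)
  · have d6 := finrank_span_singleton (K := K) hv0
    rw [h, finrank_top, hd] at d6
    omega

/-- **3-cycles act without fixed vectors.** -/
theorem seven_fpf (h2 : (2 : K) = 0) {c : K} (hc : c * c + c + 1 = 0) (hd : Module.finrank K V = 8)
    (hirr : ∀ W : Submodule K V, (∀ g, ∀ w ∈ W, r g w ∈ W) → W = ⊥ ∨ W = ⊤) : prj r pt = 0 ∧ prj r ps = 0 := by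
  have hdim := (dim_split (r := r) h2 hc pt_three pn_pt).1
  rw [hd] at hdim
  have hconj : rk (prj r pc) = rk (prj r pt) ∧ rk (prj r ps) = rk (prj r pt) := by
    obtain ⟨-, ⟨w2, h2⟩, -⟩ := conj_ab
    obtain ⟨w3, h3⟩ := conj_ts
    exact ⟨by rw [← h2, rk_prj_conj], by rw [← h3, rk_prj_conj]⟩
  have hkc : rk (prw r c pc) = rk (prw r c pt) := by
    obtain ⟨-, ⟨w2, h2⟩, -⟩ := conj_ab
    rw [← h2, ← prw_conj]
    exact rk_conj (by rw [← map_mul, mul_inv_cancel, map_one]) (by rw [← map_mul, inv_mul_cancel, map_one])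
  have hx : rk (prj r pt) = 0 := by
    by_contra hx
    rcases (show rk (prj r pt) = 2 ∨ rk (prj r pt) = 4 ∨ 6 ≤ rk (prj r pt) by omega) with h | h | h
    · exact case_three (r := r) h2 (by rw [hd]; decide) hc (by omega) (by omega)
    · exact case_two h2 hc hd hirr h
    · exact case_one hd hirr h
  exact ⟨rk_eq_zero hx, rk_eq_zero (by rw [hconj.2, hx])⟩

end rep

end Cfsg.Agent.H919.Q2
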