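import Cfsg.Agent.H919.SixTwo
import Cfsg.Agent.H937.T2Eight

/-!
# Row `A₆`, `n = 8`, characteristic two (helper919)
-/

set_option autoImplicit false
set_option linter.unusedSectionVars false

open Cfsg Cfsg.Geo Matrix

namespace Cfsg.Agent.H919.Q2

open Cfsg.Agent.H464.Sl2 Cfsg.Agent.H915.LD

universe u v

variable {ι : Type} [Fintype ι] [DecidableEq ι] {F : Type u} [Field F] {P : Subgroup (GL ι F)}

/-- `A₆` in dimension eight, characteristic two: `P` fixes a quadratic form. -/
theorem six_row [Finite F] (h2 : (2 : F) = 0) (hC : Core P) (hA : FixA P) (h8 : Fintype.card ι = 8)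
    (e : Soc P ≃* alternatingGroup (Fin 6)) : FixQ P := by
  classical
  have hchar : CharP F 2 := CharTwo.of_one_ne_zero_of_two_eq_zero one_ne_zero h2
  have hp2 : Fact (Nat.Prime 2) := ⟨Nat.prime_two⟩
  obtain ⟨f, hf, hfix⟩ := hA
  obtain ⟨K, _, _, hK, _, ⟨e'⟩⟩ := Cfsg.Agent.H937.T2.exists_nine e
  have h3 : ¬ 3 ∣ Nat.card ((scalars ι F).subgroupOf P) :=
    Cfsg.Agent.H937.T2.not_dvd_scalars hC Nat.prime_three (by rw [h8]; norm_num)
  obtain ⟨ρ, hρ, hρe⟩ := Cfsg.Agent.H937.T2.exists_rep hC Nat.prime_three (by omega)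
    (((Nat.Prime.coprime_iff_not_dvd Nat.prime_three).2 h3).symm) e'
  have h3F : (3 : F) ≠ 0 := by
    exact_mod_cast Cfsg.Agent.H937.T2.prime_ne_zero (F := F) 2 Nat.prime_three (by norm_num)
  have hne : ρ ≠ 1 := by
    intro h
    rw [h, MonoidHom.range_eq_bot_iff.2 rfl] at hρ
    apply hC.nonabelian
    subst hρ
    exact ⟨⟨fun a b => by
      induction a using QuotientGroup.induction_on with
      | H a =>
        induction b using QuotientGroup.induction_on with
        | H b => rw [Subsingleton.elim a b]⟩⟩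
  have habs : ActsAbsolutelyIrreducibly (matrixSet ρ.range) := by rw [hρ]; exact hC.absIrred
  have hsum : ∑ x : K, (ρ (u x) : Matrix ι ι F) = 0 := by
    refine Cfsg.Agent.H937.T2.sum_u habs hne ?_ (by omega) (by omega)
    rw [hK]
    have : ((9 : ℕ) : F) = 3 * 3 := by norm_num
    rw [this]
    exact mul_ne_zero h3F h3F
  -- `-1` acts trivially
  have hneg : ρ (t (-1)) = 1 := by
    have hmem : ρ (t (-1)) ∈ P := by rw [← hρ]; exact ⟨_, rfl⟩
    have h4 := hρe (t (-1)) hmem
    have h5 : (QuotientGroup.mk (t (-1) : SpecialLinearGroup (Fin 2) K) : ProjectiveSpecialLinearGroup (Fin 2) K) = 1 := by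
      rw [QuotientGroup.eq_one_iff, Subgroup.mem_center_iff]
      intro g
      rw [t_sq_central (by norm_num)]
    rw [h5, map_eq_one_iff e' e'.injective] at h4
    have h6 : (⟨ρ (t (-1)), hmem⟩ : P) ∈ (toSoc P).ker := h4
    rw [ker_toSoc, Subgroup.mem_subgroupOf] at h6
    obtain ⟨c, hc'⟩ := (mem_scalars_iff _).mp h6
    replace hc' : (ρ (t (-1)) : Matrix ι ι F) = (c : F) • 1 := hc'
    have h7 : (t (-1) : SpecialLinearGroup (Fin 2) K) * t (-1) = 1 := by
      rw [← t_mul]
      simp [t_one]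
    have h8' : (ρ (t (-1)) : Matrix ι ι F) * (ρ (t (-1)) : Matrix ι ι F) = 1 := by
      rw [← Units.val_mul, ← map_mul, h7, map_one, Units.val_one]
    have hi : Nonempty ι := by
      rw [← Fintype.card_pos_iff, h8]; norm_num
    obtain ⟨i⟩ := hi
    have h9 : (c : F) * c = 1 := by
      rw [hc', smul_mul_smul_comm, mul_one] at h8'
      have := congrFun (congrFun h8' i) i
      simpa using this
    have h10 : (c : F) = 1 := by
      have : ((c : F) - 1) ^ 2 = 0 := by linear_combination h9 + (1 - (c : F)) * h2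
      exact sub_eq_zero.mp (pow_eq_zero_iff two_ne_zero |>.mp this)
    apply Units.ext
    rw [hc', h10, one_smul, Units.val_one]
  obtain ⟨Q, hQ, hQI⟩ := six_two hK h2 hf (by rw [hρ]; exact invB_of_fixes hfix) hneg habs.1 (by omega) (by
    intro v hv
    have h4 : (∑ x : K, (ρ (u x) : Matrix ι ι F)) *ᵥ v = 0 := by rw [hsum, Matrix.zero_mulVec]
    rw [Matrix.sum_mulVec] at h4
    have h5 : ∀ x : K, (ρ (u x) : Matrix ι ι F) *ᵥ v = v := hv
    simp only [h5] at h4
    rw [Finset.sum_const, Finset.card_univ, hK, ← Nat.cast_smul_eq_nsmul F] at h4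
    have h6 : ((9 : ℕ) : F) = 1 := by push_cast; linear_combination 4 * h2
    rwa [h6, one_smul] at h4)
  rw [hρ] at hQI
  exact fixQ_of hf hQ hQI

end Cfsg.Agent.H919.Q2
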