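import Cfsg.Agent.H919.AltTwo
import Cfsg.Agent.H464.Sl2Basic

/-!
# `PSL₂(9)` in dimension `8`, characteristic two: an invariant quadratic form (helper919)

`six_two` : `ρ : SL₂(K) → GL(ι, F)`, `|K| = 9`, `char F = 2`, `|ι| ≥ 6`, irreducible, trivial on `-1`, no nonzero
vector fixed by the unipotent group, `f` an invariant alternating form ⟹ an invariant quadratic form with polar form `f`.
-/

set_option autoImplicit false
set_option linter.unusedSectionVars false

open Cfsg Cfsg.Geo Matrix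

namespace Cfsg.Agent.H919.Q2

open Cfsg.Agent.H464.Sl2

universe u v

variable {ι : Type} [Fintype ι] [DecidableEq ι] {F : Type u} [Field F]
variable {K : Type v} [Field K]

/-- the action -/
def ac (ρ : SpecialLinearGroup (Fin 2) K →* GL ι F) (g : SpecialLinearGroup (Fin 2) K) (x : ι → F) : ι → F :=
  (ρ g : Matrix ι ι F) *ᵥ x

variable {ρ : SpecialLinearGroup (Fin 2) K →* GL ι F}

lemma ac_mul (g h : SpecialLinearGroup (Fin 2) K) (x : ι → F) : ac ρ (g * h) x = ac ρ g (ac ρ h x) := by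
  rw [ac, ac, ac, map_mul, Units.val_mul, Matrix.mulVec_mulVec]

lemma ac_one (x : ι → F) : ac ρ 1 x = x := by
  rw [ac, map_one, Units.val_one, Matrix.one_mulVec]

lemma ac_add (g : SpecialLinearGroup (Fin 2) K) (x y : ι → F) : ac ρ g (x + y) = ac ρ g x + ac ρ g y := by
  rw [ac, ac, ac, Matrix.mulVec_add]

lemma ac_zero (g : SpecialLinearGroup (Fin 2) K) : ac ρ g (0 : ι → F) = 0 := by
  rw [ac, Matrix.mulVec_zero]

lemma ac_smul (g : SpecialLinearGroup (Fin 2) K) (c : F) (x : ι → F) : ac ρ g (c • x) = c • ac ρ g x := by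
  rw [ac, ac, Matrix.mulVec_smul]

lemma ac_uu (x y : K) (v : ι → F) : ac ρ (u x) (ac ρ (u y) v) = ac ρ (u (x + y)) v := by
  rw [u_add, ac_mul]

lemma ac_tu (a : Kˣ) (x : K) (v : ι → F) :
    ac ρ (t a) (ac ρ (u x) v) = ac ρ (u ((a : K) ^ 2 * x)) (ac ρ (t a) v) := by
  rw [← ac_mul, t_mul_u, ac_mul]

lemma ac_w (c : Kˣ) (v : ι → F) : ac ρ (w c) v = ac ρ (w 1) (ac ρ (t c) v) := by
  rw [← w_one_mul_t, ac_mul]

/-- `1 + 1 = 0` on vectors -/
lemma vadd_self (h2 : (2 : F) = 0) (v : ι → F) : v + v = 0 := by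
  rw [← two_smul F v, h2, zero_smul]

section

variable (hneg : ρ (t (-1)) = 1)

include hneg

lemma ac_neg (v : ι → F) : ac ρ (t (-1)) v = v := by
  rw [ac, hneg, Units.val_one, Matrix.one_mulVec]

lemma ac_ww (c : Kˣ) (v : ι → F) : ac ρ (w c) (ac ρ (w c) v) = v := by
  rw [← ac_mul, w_mul_w, div_self', ac_neg hneg]

end

/-- every element of the field with nine elements -/
lemma exists_rep_nine [Fintype K] (hK : Fintype.card K = 9) [CharP K 3] {I : K} (hI : I ^ 2 = -1) (x : K) :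
    ∃ a b : ZMod 3, x = (ZMod.castHom (dvd_refl 3) K a) + (ZMod.castHom (dvd_refl 3) K b) * I := by
  set c := ZMod.castHom (dvd_refl 3) K with hc
  have hci : Function.Injective c := by
    have : Fact (Nat.Prime 3) := ⟨by norm_num⟩
    exact c.injective
  have hinj : Function.Injective (fun p : ZMod 3 × ZMod 3 => c p.1 + c p.2 * I) := by
    rintro ⟨a, b⟩ ⟨a', b'⟩ h
    simp only at h
    have h1 : (c (a - a')) = - (c (b - b') * I) := by
      rw [map_sub, map_sub]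
      linear_combination h
    have h2 : c ((a - a') ^ 2 + (b - b') ^ 2) = 0 := by
      rw [map_add, map_pow, map_pow, h1]
      linear_combination (c (b - b')) ^ 2 * hI
    have h3 : (a - a') ^ 2 + (b - b') ^ 2 = 0 := hci (by rw [h2, map_zero])
    have h4 : ∀ s r : ZMod 3, s ^ 2 + r ^ 2 = 0 → s = 0 ∧ r = 0 := by decide
    obtain ⟨h5, h6⟩ := h4 _ _ h3
    rw [sub_eq_zero] at h5 h6
    rw [h5, h6]
  have hcard : Fintype.card (ZMod 3 × ZMod 3) = Fintype.card K := by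
    rw [hK, Fintype.card_prod, ZMod.card]
  have hbij := (Fintype.bijective_iff_injective_and_card _).mpr ⟨hinj, hcard⟩
  obtain ⟨⟨a, b⟩, hab⟩ := hbij.2 x
  exact ⟨a, b, hab.symm⟩

/-- a property closed under addition which holds for `y`, `I y` holds for everything -/
lemma all_of_two [Fintype K] (hK : Fintype.card K = 9) [CharP K 3] {I : K} (hI : I ^ 2 = -1) {y : K} (hy : y ≠ 0)
    (p : K → Prop) (hadd : ∀ a b, p a → p b → p (a + b)) (h1 : p y) (h2 : p (I * y)) (x : K) : p x := by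
  have h3 : (3 : K) = 0 := by
    have := CharP.cast_eq_zero K 3
    exact_mod_cast this
  have h0 : p 0 := by
    have h4 := hadd _ _ (hadd _ _ h1 h1) h1
    have h5 : y + y + y = 0 := by linear_combination y * h3
    rwa [h5] at h4
  have hsm : ∀ (a : ZMod 3) (z : K), p z → p ((ZMod.castHom (dvd_refl 3) K a) * z) := by
    intro a z hz
    fin_cases a
    · show p ((ZMod.castHom (dvd_refl 3) K (0 : ZMod 3)) * z)
      rw [map_zero, zero_mul]; exact h0
    · show p ((ZMod.castHom (dvd_refl 3) K (1 : ZMod 3)) * z)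
      rw [map_one, one_mul]; exact hz
    · show p ((ZMod.castHom (dvd_refl 3) K (1 + 1 : ZMod 3)) * z)
      rw [map_add, map_one, add_mul, one_mul]; exact hadd _ _ hz hz
  obtain ⟨a, b, hab⟩ := exists_rep_nine hK hI (x / y)
  have hx : x = (ZMod.castHom (dvd_refl 3) K a) * y + (ZMod.castHom (dvd_refl 3) K b) * (I * y) := by
    field_simp at hab
    rw [hab]; ring
  rw [hx]
  exact hadd _ _ (hsm _ _ h1) (hsm _ _ h2)

/-- invariance of a subspace under generators -/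
lemma invariant_of (y : Kˣ) (Y : Submodule F (ι → F)) (hu : ∀ x, ∀ v ∈ Y, ac ρ (u x) v ∈ Y)
    (hw : ∀ v ∈ Y, ac ρ (w y) v ∈ Y) (g : SpecialLinearGroup (Fin 2) K) (v : ι → F) (hv : v ∈ Y) :
    ac ρ g v ∈ Y := by
  -- `w c` for every `c`
  have hwc : ∀ c : Kˣ, ∀ v ∈ Y, ac ρ (w c) v ∈ Y := by
    intro c v hv
    -- `w y * u x * w y = u _ * w (y * y * x) * u _`
    set x : Kˣ := c / (y * y) with hx
    have h1 := w_u_w y y x
    have h2 : y * y * x = c := by rw [hx, mul_div_cancel]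
    rw [h2] at h1
    have h3 : w c = u (((y ^ 2 * x)⁻¹ : Kˣ) : K) * (w y * (u (x : K) * (w y * u (((y ^ 2 * x)⁻¹ : Kˣ) : K)))) := by
      have h4 : u (((y ^ 2 * x)⁻¹ : Kˣ) : K) * u (-(((y ^ 2 * x)⁻¹ : Kˣ) : K)) = 1 := by
        rw [← u_add, add_neg_cancel, u_zero]
      have h5 : u (-(((y ^ 2 * x)⁻¹ : Kˣ) : K)) * u (((y ^ 2 * x)⁻¹ : Kˣ) : K) = 1 := by
        rw [← u_add, neg_add_cancel, u_zero]
      calc w c = (u (((y ^ 2 * x)⁻¹ : Kˣ) : K) * u (-(((y ^ 2 * x)⁻¹ : Kˣ) : K))) * w c *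
            (u (-(((y ^ 2 * x)⁻¹ : Kˣ) : K)) * u (((y ^ 2 * x)⁻¹ : Kˣ) : K)) := by rw [h4, h5, one_mul, mul_one]
        _ = u (((y ^ 2 * x)⁻¹ : Kˣ) : K) * (u (-(((y ^ 2 * x)⁻¹ : Kˣ) : K)) * w c *
            u (-(((y ^ 2 * x)⁻¹ : Kˣ) : K))) * u (((y ^ 2 * x)⁻¹ : Kˣ) : K) := by group
        _ = _ := by rw [← h1]; group
    rw [h3, ac_mul, ac_mul, ac_mul, ac_mul]
    exact hu _ _ (hw _ (hu _ _ (hw _ (hu _ _ hv))))
  rcases bruhat g with ⟨x, a, rfl⟩ | ⟨x, c, z, rfl⟩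
  · rw [ac_mul]
    apply hu
    -- `t a = w 1 * w c`
    have h1 : t a = w 1 * w (-a) := by
      rw [w_mul_w, div_one, neg_neg]
    rw [h1, ac_mul]
    exact hwc _ _ (hwc _ _ hv)
  · rw [ac_mul, ac_mul]
    exact hu _ _ (hwc _ _ (hu _ _ hv))

/-- **no vector is fixed by `S₄`** -/
theorem s4_fixed [Fintype K] (hK : Fintype.card K = 9) [CharP K 3] {I : Kˣ} (hI : (I : K) ^ 2 = -1)
    (h2 : (2 : F) = 0) (hneg : ρ (t (-1)) = 1) (hirr : ActsIrreducibly (matrixSet ρ.range))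
    (hcard : 6 ≤ Fintype.card ι) (hU : ∀ v : ι → F, (∀ x, ac ρ (u x) v = v) → v = 0)
    (y : Kˣ) {v : ι → F} (hA : ac ρ (u (y : K)) v = v) (hW : ac ρ (w y⁻¹) v = v) (hz : ac ρ (t I) v = v) : v = 0 := by
  classical
  have h3 : (3 : K) = 0 := by
    have := CharP.cast_eq_zero K 3
    exact_mod_cast this
  set s : K := (y : K) with hs
  have hs0 : s ≠ 0 := y.ne_zero
  set W := w y⁻¹ with hWdef
  -- relation (r1)
  set a := ac ρ (u (-((I : K) * s))) v with ha
  have hr1 : ac ρ (u ((I : K) * s)) v = v + a := by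
    have h4 : ∀ x : K, ac ρ (u x) (v + ac ρ (u ((I : K) * s)) v + a) = v + ac ρ (u ((I : K) * s)) v + a := by
      apply all_of_two hK hI hs0
      · intro x x' hx hx'
        rw [← ac_uu, hx', hx]
      · rw [ac_add, ac_add, hA, ac_uu, add_comm s, ← ac_uu, hA, ha, ac_uu, add_comm s, ← ac_uu, hA]
      · rw [ac_add, ac_add, ac_uu, ha, ac_uu, add_neg_cancel, u_zero, ac_one]
        have h5 : (I : K) * s + (I : K) * s = -((I : K) * s) := by linear_combination ((I : K) * s) * h3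
        rw [h5]
        abel
    have h5 := hU _ h4
    have h6 : ac ρ (u ((I : K) * s)) v = (v + ac ρ (u ((I : K) * s)) v + a) + (v + a) := by
      have e1 := vadd_self h2 v
      have e2 := vadd_self h2 a
      calc ac ρ (u ((I : K) * s)) v = (v + v) + ac ρ (u ((I : K) * s)) v + (a + a) := by rw [e1, e2, zero_add, add_zero]
        _ = _ := by abel
    rw [h6, h5, zero_add]
  have hAa : ac ρ (u s) a = a := by
    rw [ha, ac_uu, add_comm s, ← ac_uu, hA]
  set b := ac ρ W a with hb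
  set b1 := ac ρ (u s) b with hb1
  set b2 := ac ρ (u s) b1 with hb2
  have hAb2 : ac ρ (u s) b2 = b := by
    rw [hb2, hb1, ac_uu, ac_uu]
    have : s + s + s = 0 := by linear_combination s * h3
    rw [this, u_zero, ac_one]
  -- relation (r2)
  have hWu : ∀ x : Kˣ, ∀ z : ι → F, ac ρ W (ac ρ (u (x : K)) (ac ρ W z)) =
      ac ρ (u (-(((y⁻¹ ^ 2 * x)⁻¹ : Kˣ) : K))) (ac ρ (w (y⁻¹ * y⁻¹ * x)) (ac ρ (u (-(((y⁻¹ ^ 2 * x)⁻¹ : Kˣ) : K))) z)) := by
    intro x z
    rw [← ac_mul, ← ac_mul, hWdef, w_u_w, ac_mul, ac_mul]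
  have hr2 : ac ρ (u ((I : K) * s)) b = v + b := by
    have h4 := hWu (I * y) v
    have h5 : (-(((y⁻¹ ^ 2 * (I * y))⁻¹ : Kˣ) : K)) = (I : K) * s := by
      push_cast
      rw [← hs]
      have hI0 : (I : K) ≠ 0 := I.ne_zero
      field_simp
      linear_combination -hI
    have h6 : y⁻¹ * y⁻¹ * (I * y) = y⁻¹ * I := by
      rw [mul_comm I y, ← mul_assoc, inv_mul_cancel_right]
    have h7 : ∀ z : ι → F, ac ρ (w (y⁻¹ * I)) z = ac ρ W (ac ρ (t I) z) := by
      intro z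
      rw [hWdef, ac_w, ac_w (c := y⁻¹), ← ac_mul (t y⁻¹), ← t_mul]
    rw [h5, h6, h7, ac_tu, hz, hW] at h4
    have h8 : (I : K) ^ 2 * ((I : K) * s) = -((I : K) * s) := by rw [hI]; ring
    have h9 : ((I * y : Kˣ) : K) = (I : K) * s := by push_cast; rfl
    rw [h8, h9, ← ha, ← hb, hr1, ac_add, hW, ← hb] at h4
    exact h4.symm
  -- relation (r3)
  have hr3 : ac ρ W b1 = b2 := by
    have h4 := hWu y a
    have h5 : (-(((y⁻¹ ^ 2 * y)⁻¹ : Kˣ) : K)) = -s := by
      push_cast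
      rw [← hs]
      field_simp
    have h6 : y⁻¹ * y⁻¹ * y = y⁻¹ := by rw [inv_mul_cancel_right]
    have h7 : ac ρ (u (-s)) a = a := by
      conv_lhs => rw [← hAa]
      rw [ac_uu, neg_add_cancel, u_zero, ac_one]
    rw [h5, h6, h7, ← hs, ← hWdef, ← hb, ← hb1] at h4
    rw [h4, hb2, hb1, ac_uu]
    congr 2
    linear_combination -s * h3
  have hWb2 : ac ρ W b2 = b1 := by rw [← hr3, ac_ww hneg]
  have hWb : ac ρ W b = a := by rw [hb, ac_ww hneg]
  -- the invariant subspace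
  set S : Fin 5 → (ι → F) := ![v, a, b, b1, b2] with hS
  set Y := Submodule.span F (Set.range S) with hY
  have hv : v ∈ Y := Submodule.subset_span ⟨0, rfl⟩
  have ha' : a ∈ Y := Submodule.subset_span ⟨1, rfl⟩
  have hb' : b ∈ Y := Submodule.subset_span ⟨2, rfl⟩
  have hb1' : b1 ∈ Y := Submodule.subset_span ⟨3, rfl⟩
  have hb2' : b2 ∈ Y := Submodule.subset_span ⟨4, rfl⟩
  have hext : ∀ g : SpecialLinearGroup (Fin 2) K, (∀ i, ac ρ g (S i) ∈ Y) → ∀ z ∈ Y, ac ρ g z ∈ Y := by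
    intro g hg z hz
    induction hz using Submodule.span_induction with
    | mem x hx => obtain ⟨i, rfl⟩ := hx; exact hg i
    | zero => rw [ac_zero]; exact Y.zero_mem
    | add x y _ _ hx hy => rw [ac_add]; exact Y.add_mem hx hy
    | smul c x _ hx => rw [ac_smul]; exact Y.smul_mem c hx
  have hYA : ∀ z ∈ Y, ac ρ (u s) z ∈ Y := by
    apply hext
    intro i
    fin_cases i
    · show ac ρ (u s) v ∈ Y; rw [hA]; exact hv
    · show ac ρ (u s) a ∈ Y; rw [hAa]; exact ha'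
    · show ac ρ (u s) b ∈ Y; exact hb1'
    · show ac ρ (u s) b1 ∈ Y; exact hb2'
    · show ac ρ (u s) b2 ∈ Y; rw [hAb2]; exact hb'
  have hswap : ∀ z : ι → F, ac ρ (u ((I : K) * s)) (ac ρ (u s) z) = ac ρ (u s) (ac ρ (u ((I : K) * s)) z) := by
    intro z
    rw [ac_uu, ac_uu, add_comm]
  have hYA' : ∀ z ∈ Y, ac ρ (u ((I : K) * s)) z ∈ Y := by
    apply hext
    intro i
    fin_cases i
    · show ac ρ (u ((I : K) * s)) v ∈ Y; rw [hr1]; exact Y.add_mem hv ha'
    · show ac ρ (u ((I : K) * s)) a ∈ Y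
      rw [ha, ac_uu, add_neg_cancel, u_zero, ac_one]; exact hv
    · show ac ρ (u ((I : K) * s)) b ∈ Y; rw [hr2]; exact Y.add_mem hv hb'
    · show ac ρ (u ((I : K) * s)) b1 ∈ Y
      rw [hb1, hswap, hr2, ac_add, hA]
      exact Y.add_mem hv hb1'
    · show ac ρ (u ((I : K) * s)) b2 ∈ Y
      rw [hb2, hswap, hb1, hswap, hr2, ac_add, ac_add, hA, hA]
      exact Y.add_mem hv hb2'
  have hYW : ∀ z ∈ Y, ac ρ W z ∈ Y := by
    apply hext
    intro i
    fin_cases i
    · show ac ρ W v ∈ Y; rw [hW]; exact hv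
    · show ac ρ W a ∈ Y; exact hb'
    · show ac ρ W b ∈ Y; rw [hWb]; exact ha'
    · show ac ρ W b1 ∈ Y; rw [hr3]; exact hb2'
    · show ac ρ W b2 ∈ Y; rw [hWb2]; exact hb1'
  have hYu : ∀ x, ∀ z ∈ Y, ac ρ (u x) z ∈ Y := by
    refine all_of_two hK hI hs0 (fun x => ∀ z ∈ Y, ac ρ (u x) z ∈ Y) ?_ hYA hYA'
    intro x x' hx hx' z hz
    rw [← ac_uu]
    exact hx _ (hx' _ hz)
  have hinv := invariant_of y⁻¹ Y hYu hYW
  rcases hirr Y (by
    rintro _ ⟨_, ⟨g, rfl⟩, rfl⟩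
    rw [Submodule.map_le_iff_le_comap]
    intro z hz
    show Matrix.toLin' _ z ∈ Y
    rw [Matrix.toLin'_apply]
    exact hinv g z hz) with h | h
  · rw [h, Submodule.mem_bot] at hv
    exact hv
  · exfalso
    have h4 : Module.finrank F Y ≤ 5 := (finrank_range_le_card (R := F) S).trans (by simp)
    rw [h, finrank_top, Module.finrank_fintype_fun_eq_card] at h4
    omega

/-- two quadratic forms with the same polar form differ by the square of a linear form -/
theorem exists_diff [Finite F] {f : (ι → F) → (ι → F) → F} (h2 : (2 : F) = 0) (hf : IsSymplecticForm f)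
    {Q Q' : (ι → F) → F} (hQ : QP f Q) (hQ' : QP f Q') : ∃ a, ∀ v, Q' v = Q v + f v a ^ 2 := by
  classical
  have hchar : CharP F 2 := CharTwo.of_one_ne_zero_of_two_eq_zero one_ne_zero h2
  have : Fact (Nat.Prime 2) := ⟨Nat.prime_two⟩
  have : ExpChar F 2 := ExpChar.prime Nat.prime_two
  have : PerfectRing F 2 := PerfectRing.ofFiniteOfIsReduced 2 F
  have hsq : ∀ x : F, ((frobeniusEquiv F 2).symm x) ^ 2 = x := fun x => by
    rw [← frobenius_def]
    exact frobenius_apply_frobeniusEquiv_symm F 2 x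
  have hinj : ∀ x y : F, x ^ 2 = y ^ 2 → x = y := by
    intro x y h
    have h3 : (x - y) ^ 2 = 0 := by linear_combination h + (y ^ 2 - x * y) * h2
    exact sub_eq_zero.mp (pow_eq_zero_iff (two_ne_zero) |>.mp h3)
  let φ : (ι → F) →ₗ[F] F :=
    { toFun := fun v => (frobeniusEquiv F 2).symm (Q' v - Q v)
      map_add' := by
        intro x y
        apply hinj
        rw [hsq, add_sq, hsq, hsq, h2, hQ.add, hQ'.add]
        ring
      map_smul' := by
        intro c x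
        apply hinj
        rw [hsq, smul_eq_mul, mul_pow, RingHom.id_apply, hsq, hQ.smul, hQ'.smul]
        ring }
  -- representation of `φ`
  let L : (ι → F) →ₗ[F] ((ι → F) →ₗ[F] F) := LinearMap.mk₂ F (fun a v => f v a)
    (fun x y v => hf.bilinear.add_right v x y) (fun c x v => hf.bilinear.smul_right c v x)
    (fun v x y => hf.bilinear.add_left x y v) (fun c v x => hf.bilinear.smul_left c x v)
  have hL : Function.Injective L := by
    rw [injective_iff_map_eq_zero]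
    intro a ha
    by_contra ha0
    obtain ⟨v, hv⟩ := (hf.nondegenerate a ha0).1
    apply hv
    have := congrArg (fun M : (ι → F) →ₗ[F] F => M v) ha
    exact this
  have hLs : Function.Surjective L := by
    refine (LinearMap.injective_iff_surjective_of_finrank_eq_finrank ?_).mp hL
    rw [Module.finrank_linearMap, Module.finrank_self, mul_one]
  obtain ⟨a, ha⟩ := hLs φ
  refine ⟨a, fun v => ?_⟩
  have h3 : f v a = φ v := congrArg (fun M : (ι → F) →ₗ[F] F => M v) ha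
  rw [h3]
  show _ = _ + ((frobeniusEquiv F 2).symm (Q' v - Q v)) ^ 2
  rw [hsq]
  ring

lemma eq_of_sq {f : (ι → F) → (ι → F) → F} (h2 : (2 : F) = 0) (hf : IsSymplecticForm f) {a b : ι → F}
    (h : ∀ v, f v a ^ 2 = f v b ^ 2) : a = b := by
  by_contra hab
  have hab' : a - b ≠ 0 := sub_ne_zero.mpr hab
  obtain ⟨v, hv⟩ := (hf.nondegenerate _ hab').1
  apply hv
  have h3 : f v (a - b) = f v a - f v b := by
    rw [sub_eq_add_neg, hf.bilinear.add_right, ← neg_one_smul F b, hf.bilinear.smul_right]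
    ring
  rw [h3]
  have h4 : (f v a - f v b) ^ 2 = 0 := by linear_combination h v + (f v b ^ 2 - f v a * f v b) * h2
  exact pow_eq_zero_iff (two_ne_zero) |>.mp h4

/-- the unipotent group -/
def uHom : Multiplicative K →* SpecialLinearGroup (Fin 2) K where
  toFun x := u (Multiplicative.toAdd x)
  map_one' := u_zero
  map_mul' _ _ := u_add _ _

/-- **`PSL₂(9)` in dimension eight, characteristic two.** -/
theorem six_two [Finite F] [Fintype K] (hK : Fintype.card K = 9) (h2 : (2 : F) = 0)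
    {f : (ι → F) → (ι → F) → F} (hf : IsSymplecticForm f) (hρ : InvB ρ.range f) (hneg : ρ (t (-1)) = 1)
    (hirr : ActsIrreducibly (matrixSet ρ.range)) (hcard : 6 ≤ Fintype.card ι)
    (hU : ∀ v : ι → F, (∀ x, ac ρ (u x) v = v) → v = 0) : ∃ Q, QP f Q ∧ Inv ρ.range Q := by
  classical
  -- the field
  have hc3 : CharP K 3 := by
    obtain ⟨p, hp⟩ := CharP.exists K
    have hpp : p.Prime := CharP.char_is_prime K p
    obtain ⟨n, hn, hpn⟩ := FiniteField.card K p
    have : p ∣ 9 := by rw [← hK, hpn]; exact dvd_pow_self p n.2.ne'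
    have h9 : (9 : ℕ) = 3 ^ 2 := by norm_num
    rw [h9] at this
    have h3 := (Nat.prime_dvd_prime_iff_eq hpp Nat.prime_three).mp (hpp.dvd_of_dvd_pow this)
    rwa [h3] at hp
  have h3 : (3 : K) = 0 := by
    have := CharP.cast_eq_zero K 3
    exact_mod_cast this
  obtain ⟨I₀, hI₀⟩ : ∃ I : K, I ^ 2 = -1 := by
    have h4 : IsSquare (-1 : K) := by
      rw [FiniteField.isSquare_neg_one_iff, hK]
      norm_num
    obtain ⟨r, hr⟩ := h4
    exact ⟨r, by rw [sq, ← hr]⟩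
  have hI0 : I₀ ≠ 0 := by
    rintro rfl
    rw [zero_pow two_ne_zero] at hI₀
    exact one_ne_zero (neg_eq_zero.mp hI₀.symm)
  set I : Kˣ := Units.mk0 I₀ hI0 with hIdef
  have hI : (I : K) ^ 2 = -1 := hI₀
  have hiso : ∀ g v w, f (ac ρ g v) (ac ρ g w) = f v w := fun g v w => hρ _ ⟨g, rfl⟩ v w
  -- the unipotent group
  set D : Subgroup (GL ι F) := (ρ.comp uHom).range with hD
  have hDr : D ≤ ρ.range := by
    rintro _ ⟨x, rfl⟩
    exact ⟨uHom x, rfl⟩
  have hDu : ∀ x : K, ρ (u x) ∈ D := fun x => ⟨Multiplicative.ofAdd x, rfl⟩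
  have hfp : Fpf D := by
    refine ⟨?_, fun v hv => hU v fun x => hv _ (hDu x)⟩
    have h4 : Nat.card D ∣ Nat.card (Multiplicative K) := Subgroup.card_range_dvd _
    have h5 : Nat.card (Multiplicative K) = 9 := by
      rw [Nat.card_congr Multiplicative.toAdd, Nat.card_eq_fintype_card, hK]
    rw [h5] at h4
    exact Odd.of_dvd_nat (by decide) h4
  obtain ⟨Q, hQ, hQD⟩ := exists_of_odd h2 hf (hρ.mono hDr) hfp.odd
  have hQu : ∀ x v, Q (ac ρ (u x) v) = Q v := fun x v => hQD _ (hDu x) v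
  have hQt : ∀ b v, Q (ac ρ (t b) v) = Q v := by
    intro b v
    refine fpf_normalizer h2 hfp hQ hQD (g := ρ (t b)) (hiso (t b)) ?_ v
    rintro _ ⟨x, rfl⟩
    have h4 : t b * u (Multiplicative.toAdd x) * (t b)⁻¹ = u ((b : K) ^ 2 * Multiplicative.toAdd x) := by
      rw [t_mul_u, mul_inv_cancel_right]
    show ρ (t b) * ρ (u (Multiplicative.toAdd x)) * (ρ (t b))⁻¹ ∈ D
    rw [← map_inv, ← map_mul, ← map_mul, h4]
    exact hDu _
  -- the difference on `w`
  obtain ⟨a, ha⟩ := exists_diff h2 hf hQ (hQ.comp (g := ρ (w 1)) (hiso (w 1)))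
  have ha' : ∀ v, Q (ac ρ (w 1) v) = Q v + f v a ^ 2 := ha
  have hww : ∀ v, ac ρ (w 1) (ac ρ (w 1) v) = v := fun v => ac_ww hneg 1 v
  -- `a` is fixed by the torus
  have hwt : ∀ b : Kˣ, ∀ v, ac ρ (w 1) (ac ρ (t b) v) = ac ρ (t b⁻¹) (ac ρ (w 1) v) := by
    intro b v
    rw [← ac_mul, ← ac_mul, w_one_mul_t]
    congr 1
    apply Subtype.ext
    ext i j
    fin_cases i <;> fin_cases j <;> simp
  have hfs : ∀ (g : SpecialLinearGroup (Fin 2) K) v b, f (ac ρ g v) b = f v (ac ρ g⁻¹ b) := by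
    intro g v b
    rw [← hiso g v (ac ρ g⁻¹ b), ← ac_mul, mul_inv_cancel, ac_one]
  have hat : ∀ b : Kˣ, ac ρ (t b)⁻¹ a = a := by
    intro b
    apply eq_of_sq h2 hf
    intro v
    have h4 := ha' (ac ρ (t b) v)
    rw [hwt, hQt, ha', hQt, hfs] at h4
    linear_combination -h4
  have hat' : ∀ b : Kˣ, ac ρ (t b) a = a := by
    intro b
    conv_lhs => rw [← hat b]
    rw [← ac_mul, mul_inv_cancel, ac_one]
  have haw : ac ρ (w 1) a = a := by
    have h4 : ac ρ (w 1)⁻¹ a = a := by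
      apply eq_of_sq h2 hf
      intro v
      have h4 := ha' (ac ρ (w 1) v)
      rw [hww, ha', hfs] at h4
      linear_combination -h4 - f v a ^ 2 * h2
    conv_lhs => rw [← h4]
    rw [← ac_mul, mul_inv_cancel, ac_one]
  -- the main relation
  have hrel : ∀ x : Kˣ, ac ρ (w 1) (ac ρ (u (x : K)) a) = a + ac ρ (u (-((x⁻¹ : Kˣ) : K))) a := by
    intro x
    have key : a + ac ρ (w 1)⁻¹ (ac ρ (u (((-x : Kˣ)) : K))⁻¹ a) = ac ρ (u (-(((-x : Kˣ)⁻¹ : Kˣ) : K)))⁻¹ a := by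
      apply eq_of_sq h2 hf
      intro v
      have h4 := w_u_w (K := K) 1 1 (-x)
      have h5 : Q (ac ρ (w 1) (ac ρ (u (((-x : Kˣ)) : K)) (ac ρ (w 1) v))) =
          Q (ac ρ (u (-(((-x : Kˣ)⁻¹ : Kˣ) : K))) (ac ρ (w 1) (ac ρ (t (-x))
            (ac ρ (u (-(((-x : Kˣ)⁻¹ : Kˣ) : K))) v)))) := by
        rw [one_pow, one_mul, one_mul, one_mul] at h4
        rw [← ac_mul, ← ac_mul, h4, ac_mul, ac_mul, ac_w]
      rw [ha', hQu, ha', hfs, hfs, hQu, ha', hQt, hQu, hfs (t (-x)), hat, hfs] at h5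
      have h6 : f v (a + ac ρ (w 1)⁻¹ (ac ρ (u (((-x : Kˣ)) : K))⁻¹ a)) =
          f v a + f v (ac ρ (w 1)⁻¹ (ac ρ (u (((-x : Kˣ)) : K))⁻¹ a)) := hf.bilinear.add_right _ _ _
      rw [h6]
      linear_combination h5 + f v a * f v (ac ρ (w 1)⁻¹ (ac ρ (u (((-x : Kˣ)) : K))⁻¹ a)) * h2
    have huinv : ∀ y : K, (u y)⁻¹ = u (-y) := by
      intro y
      rw [inv_eq_iff_mul_eq_one, ← u_add, add_neg_cancel, u_zero]
    have hwinv : ∀ z, ac ρ (w 1)⁻¹ z = ac ρ (w 1) z := by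
      intro z
      conv_lhs => rw [← hww z]
      rw [← ac_mul, inv_mul_cancel, ac_one]
    rw [huinv, huinv, hwinv, neg_neg] at key
    have h7 : -(((-x : Kˣ)) : K) = (x : K) := by push_cast; ring
    have h8 : ((((-x : Kˣ)⁻¹ : Kˣ)) : K) = -((x⁻¹ : Kˣ) : K) := by
      rw [inv_neg]; push_cast; rfl
    rw [h7, h8] at key
    rw [← key, ← add_assoc, vadd_self h2, zero_add]
  -- the vectors fixed by `S₄`
  have hv : ∀ y : Kˣ, a + ac ρ (u (y : K)) a + ac ρ (u (-(y : K))) a = 0 := by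
    intro y
    have hyy : (y : K) + (y : K) = -(y : K) := by linear_combination (y : K) * h3
    refine s4_fixed hK hI h2 hneg hirr hcard hU y ?_ ?_ ?_
    · rw [ac_add, ac_add, ac_uu, ac_uu, hyy, add_neg_cancel, u_zero, ac_one]
      abel
    · rw [ac_w]
      simp only [ac_add, ac_tu, hat']
      have h4 : (((y⁻¹ : Kˣ) : K)) ^ 2 * (y : K) = ((y⁻¹ : Kˣ) : K) := by
        rw [sq, mul_assoc, Units.inv_mul, mul_one]
      have h5 : (((y⁻¹ : Kˣ) : K)) ^ 2 * (-(y : K)) = (((-y⁻¹ : Kˣ)) : K) := by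
        rw [mul_neg, h4]; push_cast; rfl
      rw [h4, h5, haw, hrel, hrel, inv_inv, inv_neg, inv_inv]
      have h6 : -(((-y : Kˣ)) : K) = (y : K) := by push_cast; ring
      rw [h6]
      have h7 : a + (a + ac ρ (u (-(y : K))) a) + (a + ac ρ (u (y : K)) a) =
          (a + a) + (a + ac ρ (u (y : K)) a + ac ρ (u (-(y : K))) a) := by abel
      rw [h7, vadd_self h2, zero_add]
    · rw [ac_add, ac_add, ac_tu, ac_tu, hat', hI]
      rw [show (-1 : K) * (y : K) = -(y : K) by ring, show (-1 : K) * (-(y : K)) = (y : K) by ring]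
      abel
  have ha0 : a = 0 := by
    have e1 := hv 1
    have e2 := hv I
    have hI2 : (1 + (I : K)) * (1 - (I : K)) = 2 := by linear_combination -hI
    have h20 : (2 : K) ≠ 0 := by
      intro h
      apply one_ne_zero (α := K)
      linear_combination h3 - h
    have hp : (1 + (I : K)) ≠ 0 := by
      intro h; rw [h, zero_mul] at hI2; exact h20 hI2.symm
    have hm : (1 - (I : K)) ≠ 0 := by
      intro h; rw [h, mul_zero] at hI2; exact h20 hI2.symm
    have e3 := hv (Units.mk0 _ hp)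
    have e4 := hv (Units.mk0 _ hm)
    rw [Units.val_mk0] at e3 e4
    rw [Units.val_one] at e1
    have e5 := congrArg (ac ρ (u (I : K))) e1
    have e6 := congrArg (ac ρ (u (-(I : K)))) e1
    rw [ac_add, ac_add, ac_uu, ac_uu, ac_zero] at e5 e6
    have h7 : a = (a + ac ρ (u (I : K)) a + ac ρ (u (-(I : K))) a) +
        (a + ac ρ (u (1 + (I : K))) a + ac ρ (u (-(1 + (I : K)))) a) +
        (a + ac ρ (u (1 - (I : K))) a + ac ρ (u (-(1 - (I : K)))) a) +
        (ac ρ (u (I : K)) a + ac ρ (u ((I : K) + 1)) a + ac ρ (u ((I : K) + -1)) a) +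
        (ac ρ (u (-(I : K))) a + ac ρ (u (-(I : K) + 1)) a + ac ρ (u (-(I : K) + -1)) a) := by
      have c1 : (I : K) + 1 = 1 + (I : K) := by ring
      have c2 : (I : K) + -1 = -(1 - (I : K)) := by ring
      have c3 : -(I : K) + 1 = 1 - (I : K) := by ring
      have c4 : -(I : K) + -1 = -(1 + (I : K)) := by ring
      rw [c1, c2, c3, c4]
      have d : ∀ z : ι → F, z + z = 0 := vadd_self h2
      have h8 : (a + ac ρ (u (I : K)) a + ac ρ (u (-(I : K))) a) +
        (a + ac ρ (u (1 + (I : K))) a + ac ρ (u (-(1 + (I : K)))) a) +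
        (a + ac ρ (u (1 - (I : K))) a + ac ρ (u (-(1 - (I : K)))) a) +
        (ac ρ (u (I : K)) a + ac ρ (u (1 + (I : K))) a + ac ρ (u (-(1 - (I : K)))) a) +
        (ac ρ (u (-(I : K))) a + ac ρ (u (1 - (I : K))) a + ac ρ (u (-(1 + (I : K)))) a) =
        a + (a + a) + (ac ρ (u (I : K)) a + ac ρ (u (I : K)) a) + (ac ρ (u (-(I : K))) a + ac ρ (u (-(I : K))) a) +
        (ac ρ (u (1 + (I : K))) a + ac ρ (u (1 + (I : K))) a) +
        (ac ρ (u (-(1 + (I : K)))) a + ac ρ (u (-(1 + (I : K)))) a) +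
        (ac ρ (u (1 - (I : K))) a + ac ρ (u (1 - (I : K))) a) +
        (ac ρ (u (-(1 - (I : K)))) a + ac ρ (u (-(1 - (I : K)))) a) := by abel
      rw [h8]
      simp only [d, add_zero]
    rw [h7, e2, e3, e4, e5, e6]
    simp
  -- conclusion
  have hf0 : ∀ v, f v a = 0 := by
    intro v
    rw [ha0]
    have := hf.bilinear.smul_right 0 v 0
    simpa using this
  have hQw : ∀ v, Q (ac ρ (w 1) v) = Q v := by
    intro v
    rw [ha', hf0, zero_pow two_ne_zero, add_zero]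
  refine ⟨Q, hQ, ?_⟩
  rintro _ ⟨g, rfl⟩ v
  show Q (ac ρ g v) = Q v
  rcases bruhat g with ⟨x, b, rfl⟩ | ⟨x, c, z, rfl⟩
  · rw [ac_mul, hQu, hQt]
  · rw [ac_mul, ac_mul, hQu, ac_w, hQw, hQt, hQu]

end Cfsg.Agent.H919.Q2
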