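import Cfsg.Agent.H922.OddTensorTwo
import Cfsg.Agent.H931.SpProper
import Cfsg.Agent.S0144

/-!
# `Sp_8(q)` is not in the tensor-wreath subgroup `GL_2 ⊗ GL_2 ⊗ GL_2 . S_3` (helper919)

`permPart A` : the elements of the tensor-wreath subgroup whose permutation lies in `A`. A perfect subgroup
of the tensor-wreath subgroup with `t ≤ 4` factors consists of pure tensors.
-/

set_option autoImplicit false
set_option linter.unusedSectionVars false
set_option linter.unusedVariables false

namespace Cfsg.Agent.H919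

open Cfsg Cfsg.Geo Cfsg.Agent.H922
open scoped MatrixGroups Matrix Kronecker commutatorElement

section Perm

variable {F : Type*} [Field F] {t m : ℕ}

lemma nf_mul (x y : Fin t → GL (Fin m) F) (σ τ : Equiv.Perm (Fin t)) :
    (pureGL x * facPerm F m σ) * (pureGL y * facPerm F m τ)
      = pureGL (x * fun i => y (σ.symm i)) * facPerm F m (σ * τ) := by
  rw [← pureGL_mul, ← facPerm_mul_pureGL, ← facPerm_mul]
  group

lemma nf_inv (x : Fin t → GL (Fin m) F) (σ : Equiv.Perm (Fin t)) :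
    (pureGL x * facPerm F m σ)⁻¹ = pureGL (fun i => (x⁻¹) (σ i)) * facPerm F m σ⁻¹ := by
  rw [mul_inv_rev, pureGL_inv, facPerm_inv]
  have h := facPerm_mul_pureGL (F := F) (m := m) σ⁻¹ x⁻¹
  have h3 : (fun i => (x⁻¹) ((σ⁻¹).symm i)) = fun i => (x⁻¹) (σ i) := rfl
  rw [h3] at h
  rw [← h]
  group

/-- The elements of the standard tensor-wreath subgroup with permutation in `A`. -/
def permPart (F : Type*) [Field F] (m : ℕ) {t : ℕ} (A : Subgroup (Equiv.Perm (Fin t))) :
    Subgroup (GL (Fin t → Fin m) F) where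
  carrier := {g | ∃ σ ∈ A, ∃ x : Fin t → GL (Fin m) F, g = pureGL x * facPerm F m σ}
  mul_mem' := by
    rintro _ _ ⟨σ, hσ, x, rfl⟩ ⟨τ, hτ, y, rfl⟩
    exact ⟨σ * τ, A.mul_mem hσ hτ, _, nf_mul x y σ τ⟩
  one_mem' := by
    refine ⟨1, A.one_mem, 1, ?_⟩
    have h1 : pureGL (1 : Fin t → GL (Fin m) F) = 1 := by
      have := pureGL_mul (1 : Fin t → GL (Fin m) F) 1
      rw [mul_one] at this
      exact mul_eq_left.1 this
    have h2 : facPerm F m (1 : Equiv.Perm (Fin t)) = 1 := by
      have := facPerm_mul (F := F) (m := m) (1 : Equiv.Perm (Fin t)) 1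
      rw [mul_one] at this
      exact mul_eq_left.1 this
    rw [h1, h2, mul_one]
  inv_mem' := by
    rintro _ ⟨σ, hσ, x, rfl⟩
    exact ⟨σ⁻¹, A.inv_mem hσ, _, nf_inv x σ⟩

lemma commutator_permPart (A B : Subgroup (Equiv.Perm (Fin t))) :
    ⁅permPart F m A, permPart F m B⁆ ≤ permPart F m ⁅A, B⁆ := by
  rw [Subgroup.commutator_le]
  rintro _ ⟨σ, hσ, x, rfl⟩ _ ⟨τ, hτ, y, rfl⟩
  refine ⟨⁅σ, τ⁆, Subgroup.commutator_mem_commutator hσ hτ, ?_⟩
  rw [commutatorElement_def, nf_inv, nf_inv, nf_mul, nf_mul, nf_mul, commutatorElement_def]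
  exact ⟨_, rfl⟩

lemma tensorWreathStandard_le_permPart : tensorWreathStandard m t F ≤ permPart F m ⊤ := by
  intro g hg
  obtain ⟨σ, x, rfl⟩ := exists_normal_form hg
  exact ⟨σ, Subgroup.mem_top σ, x, rfl⟩

/-- A perfect subgroup of the tensor-wreath subgroup with at most four factors consists of pure tensors. -/
theorem perfect_le_pure (ht : t ≤ 4) {S : Subgroup (GL (Fin t → Fin m) F)} (hS : ⁅S, S⁆ = S)
    (hle : S ≤ tensorWreathStandard m t F) : S ≤ permPart F m ⊥ := by
  have h1 : ∀ n, S ≤ permPart F m (derivedSeries (Equiv.Perm (Fin t)) n) := by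
    intro n
    induction n with
    | zero => rw [derivedSeries_zero]; exact hle.trans tensorWreathStandard_le_permPart
    | succ n ih =>
      rw [derivedSeries_succ]
      calc S = ⁅S, S⁆ := hS.symm
        _ ≤ _ := Subgroup.commutator_mono ih ih
        _ ≤ _ := commutator_permPart _ _
  have hsol : Group.IsSolvable (Equiv.Perm (Fin t)) := by
    have hcard : Nat.card (Equiv.Perm (Fin t)) = t.factorial := by
      rw [Nat.card_eq_fintype_card, Fintype.card_perm, Fintype.card_fin]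
    have : ∃ a b, Nat.card (Equiv.Perm (Fin t)) = 2 ^ a * 3 ^ b := by
      rw [hcard]
      interval_cases t
      · exact ⟨0, 0, rfl⟩
      · exact ⟨0, 0, rfl⟩
      · exact ⟨1, 0, rfl⟩
      · exact ⟨1, 1, rfl⟩
      · exact ⟨3, 1, rfl⟩
    obtain ⟨a, b, hab⟩ := this
    exact Cfsg.Agent.S0144.result 2 3 a b Nat.prime_two Nat.prime_three hab
  obtain ⟨n, hn⟩ := hsol.solvable
  have := h1 n
  rwa [hn] at this

end Perm

section Frame

variable {ι : Type} [Fintype ι] [DecidableEq ι] {F : Type*} [Field F] {t m : ℕ}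

/-- Separating the first factor. -/
def headEquiv (e : ι ≃ (Fin (t + 1) → Fin m)) (u : (Fin t → Fin m) ≃ Fin (m ^ t)) : ι ≃ Fin m × Fin (m ^ t) :=
  (e.trans (Fin.consEquiv (fun _ => Fin m)).symm).trans (Equiv.prodCongr (Equiv.refl _) u)

lemma headEquiv_fst (e : ι ≃ (Fin (t + 1) → Fin m)) (u : (Fin t → Fin m) ≃ Fin (m ^ t)) (i : ι) :
    (headEquiv e u i).1 = e i 0 := rfl

lemma headEquiv_snd (e : ι ≃ (Fin (t + 1) → Fin m)) (u : (Fin t → Fin m) ≃ Fin (m ^ t)) (i : ι) :
    (headEquiv e u i).2 = u (fun j => e i j.succ) := rfl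

/-- Pure tensors with `t + 1` factors lie in the stabiliser of the tensor decomposition separating the first
factor. -/
theorem frameGL_pure_mem (e : ι ≃ (Fin (t + 1) → Fin m)) (P : GL ι F) (u : (Fin t → Fin m) ≃ Fin (m ^ t))
    (x : Fin (t + 1) → GL (Fin m) F) :
    frameGL e P (pureGL x) ∈ tensorProductSubgroup m (m ^ t) (headEquiv e u) P := by
  rw [mem_tensorProductSubgroup_iff]
  refine ⟨x 0, glReindex u (pureGL fun i => x i.succ), ?_⟩
  apply Units.ext
  rw [frameGL_val, frameMat, Units.val_mul, Units.val_mul]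
  congr 2
  ext i j
  have h1 : (Matrix.reindexAlgEquiv F F e.symm ((pureGL x : GL (Fin (t + 1) → Fin m) F) : Matrix _ _ F)) i j
      = ∏ l, (x l : Matrix (Fin m) (Fin m) F) (e i l) (e j l) := rfl
  have h2 : ((glReindex (headEquiv e u).symm (kronGL (x 0) (glReindex u (pureGL fun i => x i.succ))) : GL ι F) :
      Matrix ι ι F) i j
      = (x 0 : Matrix (Fin m) (Fin m) F) (e i 0) (e j 0) *
        ∏ l, (x (Fin.succ l) : Matrix (Fin m) (Fin m) F) ((u.symm (headEquiv e u i).2) l)
          ((u.symm (headEquiv e u j).2) l) := rfl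
  rw [h1, h2, Fin.prod_univ_succ]
  congr 1
  apply Finset.prod_congr rfl
  intro l _
  rw [headEquiv_snd, headEquiv_snd, Equiv.symm_apply_apply, Equiv.symm_apply_apply]

end Frame

/-- `Sp_8(q)` is not in `GL_2 ⊗ GL_2 ⊗ GL_2 . S_3`; more generally `Sp_2m` is in no tensor-wreath subgroup with
`3` or `4` factors. -/
theorem spGL_not_le_tensorWreath {F : Type*} [Field F] [Fintype F] {m : ℕ}
    (hperf : ⁅spGL m F, spGL m F⁆ = spGL m F) (hm : 1 ≤ m) {t k : ℕ} (ht : t ≤ 4) (ht2 : 2 ≤ t) (hk : 2 ≤ k)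
    (e : (Fin m ⊕ Fin m) ≃ (Fin t → Fin k)) (P : GL (Fin m ⊕ Fin m) F) :
    ¬ spGL m F ≤ tensorWreathSubgroup k t e P := by
  intro hle
  obtain ⟨s, rfl⟩ : ∃ s, t = s + 1 := ⟨t - 1, by omega⟩
  let u : (Fin s → Fin k) ≃ Fin (k ^ s) := finFunctionFinEquiv
  apply Cfsg.Agent.H931.spGL_not_le_tensorProductSubgroup hm hk
    (show 2 ≤ k ^ s from le_trans hk (Nat.le_self_pow (by omega) k)) (headEquiv e u) P
  let S : Subgroup (GL (Fin (s + 1) → Fin k) F) := (spGL m F).comap (frameGL e P).toMonoidHom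
  have hmap : S.map (frameGL e P).toMonoidHom = spGL m F :=
    Subgroup.map_comap_eq_self_of_surjective (frameGL e P).surjective _
  have hSle : S ≤ tensorWreathStandard k (s + 1) F := by
    intro g hg
    have h1 : frameGL e P g ∈ tensorWreathSubgroup k (s + 1) e P := hle hg
    rw [mem_tensorWreathSubgroup_iff] at h1
    obtain ⟨g', hg', h2⟩ := h1
    rwa [← (frameGL e P).injective h2]
  have hSperf : ⁅S, S⁆ = S := by
    apply Subgroup.map_injective (f := (frameGL e P).toMonoidHom) (frameGL e P).injective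
    rw [Subgroup.map_commutator, hmap, hperf]
  intro g hg
  have h3 : (frameGL e P).symm g ∈ S := by
    change frameGL e P ((frameGL e P).symm g) ∈ spGL m F
    rw [MulEquiv.apply_symm_apply]; exact hg
  obtain ⟨σ, hσ, x, hx⟩ := perfect_le_pure ht hSperf hSle h3
  rw [Subgroup.mem_bot] at hσ
  have h2 : facPerm F k (1 : Equiv.Perm (Fin (s + 1))) = 1 := by
    have := facPerm_mul (F := F) (m := k) (1 : Equiv.Perm (Fin (s + 1))) 1
    rw [mul_one] at this
    exact mul_eq_left.1 this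
  rw [hσ, h2, mul_one] at hx
  have h4 : g = frameGL e P (pureGL x) := by rw [← hx, MulEquiv.apply_symm_apply]
  rw [h4]
  exact frameGL_pure_mem e P u x

end Cfsg.Agent.H919
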