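import Cfsg.Agent.H919.SpEightA
import Cfsg.Agent.H919.DetPres

/-!
# Tensor decompositions `F² ⊗ F⁴` with a plus type form on `F⁴` (helper919)
-/

set_option autoImplicit false
set_option linter.unusedSectionVars false
set_option linter.unusedVariables false

namespace Cfsg.Agent.H919

open Cfsg Cfsg.Geo Cfsg.Agent.H922
open scoped MatrixGroups Matrix Kronecker commutatorElement

variable {F : Type*} [Field F]

/-- The 2 × 2 alternating matrix. -/
def JJ (F : Type*) [Field F] : Matrix (Fin 2) (Fin 2) F := !![0, 1; -1, 0]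

/-- The coordinates of the hyperbolic basis. -/
def hypCol (u₁ u₂ w₁ w₂ : Fin 4 → F) (x : Fin 2 → Fin 2) : Fin 4 → F :=
  if x 0 = 0 then (if x 1 = 0 then u₁ else u₂) else (if x 1 = 0 then -w₂ else w₁)

/-- A plus type form on `F⁴` is, in suitable coordinates, `J ⊗ J`. -/
theorem exists_hyperbolic (h2 : (2 : F) ≠ 0) {f : (Fin 4 → F) → (Fin 4 → F) → F} (hf : IsSymmetricForm f)
    (hplus : IsPlusTypeOn (fun v : Fin 4 → F => f v v) ⊤) :
    ∃ c : (Fin 2 → Fin 2) → (Fin 4 → F), ∀ x y, f (c x) (c y) = JJ F (x 0) (y 0) * JJ F (x 1) (y 1) := by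
  obtain ⟨U, -, hU, hUd⟩ := hplus
  rw [finrank_top, Module.finrank_fintype_fun_eq_card, Fintype.card_fin] at hUd
  have hU2 : Module.finrank F U = 2 := by omega
  have hb := hf.bilinear
  have hUU : ∀ u ∈ U, ∀ v ∈ U, f u v = 0 := by
    intro u hu v hv
    have h1 := hU (u + v) (U.add_mem hu hv)
    have h3 := hU u hu
    have h4 := hU v hv
    simp only [hb.add_left, hb.add_right] at h1 h3 h4
    rw [h3, h4, hf.symm v u] at h1
    have h5 : 2 * f u v = 0 := by linear_combination h1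
    exact (mul_eq_zero.1 h5).resolve_left h2
  -- a basis of U
  let b := Module.finBasisOfFinrankEq F U hU2
  set u₁ : Fin 4 → F := (b 0 : Fin 4 → F) with hu₁
  set u₂ : Fin 4 → F := (b 1 : Fin 4 → F) with hu₂
  have hu₁m : u₁ ∈ U := (b 0).2
  have hu₂m : u₂ ∈ U := (b 1).2
  have hind : ∀ s t : F, s • u₁ + t • u₂ = 0 → s = 0 ∧ t = 0 := by
    intro s t hst
    have h1 : s • b 0 + t • b 1 = 0 := Subtype.ext hst
    have h3 := Fintype.linearIndependent_iff.1 b.linearIndependent ![s, t] (by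
      rw [Fin.sum_univ_two]; exact h1)
    exact ⟨h3 0, h3 1⟩
  -- the map `w ↦ (f w u₁, f w u₂)` is surjective
  let φ : (Fin 4 → F) →ₗ[F] (Fin 2 → F) :=
    { toFun := fun w => ![f w u₁, f w u₂]
      map_add' := by
        intro a c; funext i; fin_cases i
        · exact hb.add_left _ _ _
        · exact hb.add_left _ _ _
      map_smul' := by
        intro a c; funext i; fin_cases i
        · exact hb.smul_left _ _ _
        · exact hb.smul_left _ _ _ }
  have hφ : Function.Surjective φ := by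
    rw [← LinearMap.range_eq_top]
    by_contra hne
    obtain ⟨ψ, hψ0, hψ⟩ := Submodule.exists_le_ker_of_lt_top _ (lt_top_iff_ne_top.2 hne)
    have hψe : ∀ z : Fin 2 → F, ψ z = z 0 * ψ (Pi.single 0 1) + z 1 * ψ (Pi.single 1 1) := by
      intro z
      have h1 : z = z 0 • (Pi.single 0 (1 : F) : Fin 2 → F) + z 1 • (Pi.single 1 (1 : F) : Fin 2 → F) := by
        funext i; fin_cases i <;> simp
      conv_lhs => rw [h1]
      rw [map_add, map_smul, map_smul, smul_eq_mul, smul_eq_mul]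
    set s := ψ (Pi.single 0 1) with hs
    set r := ψ (Pi.single 1 1) with hr
    have h1 : ∀ w, f w (s • u₁ + r • u₂) = 0 := by
      intro w
      have h3 : ψ (φ w) = 0 := hψ ⟨w, rfl⟩
      rw [hψe] at h3
      rw [hb.add_right, hb.smul_right, hb.smul_right]
      have h4 : φ w 0 = f w u₁ := rfl
      have h5 : φ w 1 = f w u₂ := rfl
      rw [h4, h5] at h3
      linear_combination h3
    have h3 : s • u₁ + r • u₂ = 0 := by
      by_contra hne0
      obtain ⟨⟨x, hx⟩, -⟩ := hf.nondegenerate _ hne0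
      exact hx (h1 x)
    obtain ⟨hs0, hr0⟩ := hind _ _ h3
    apply hψ0
    ext i
    fin_cases i
    · simpa using hs0
    · simpa using hr0
  obtain ⟨w₁, hw₁⟩ := hφ ![1, 0]
  obtain ⟨w₂, hw₂⟩ := hφ ![0, 1]
  have h11 : f w₁ u₁ = 1 := congrFun hw₁ 0
  have h12 : f w₁ u₂ = 0 := congrFun hw₁ 1
  have h21 : f w₂ u₁ = 0 := congrFun hw₂ 0
  have h22 : f w₂ u₂ = 1 := congrFun hw₂ 1
  -- make `w₂` orthogonal to `w₁`, then both singular
  set v₁ := w₁ - (f w₁ w₁ / 2) • u₁ with hv₁
  set v₂ := w₂ - (f w₂ w₂ / 2) • u₂ - (f w₁ w₂) • u₁ with hv₂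
  have sub_left : ∀ x y z, f (x - y) z = f x z - f y z := by
    intro x y z
    rw [sub_eq_add_neg, hb.add_left, ← neg_one_smul F y, hb.smul_left]; ring
  have sub_right : ∀ x y z, f z (x - y) = f z x - f z y := by
    intro x y z
    rw [sub_eq_add_neg, hb.add_right, ← neg_one_smul F y, hb.smul_right]; ring
  have huu : f u₁ u₁ = 0 := hUU _ hu₁m _ hu₁m
  have huu2 : f u₂ u₂ = 0 := hUU _ hu₂m _ hu₂m
  have hu12 : f u₁ u₂ = 0 := hUU _ hu₁m _ hu₂m
  have hu21 : f u₂ u₁ = 0 := hUU _ hu₂m _ hu₁m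
  have k11 : f u₁ w₁ = 1 := by rw [hf.symm]; exact h11
  have k21 : f u₂ w₁ = 0 := by rw [hf.symm]; exact h12
  have k12 : f u₁ w₂ = 0 := by rw [hf.symm]; exact h21
  have k22 : f u₂ w₂ = 1 := by rw [hf.symm]; exact h22
  have e1 : f v₁ u₁ = 1 := by
    rw [hv₁, sub_left, hb.smul_left, h11, huu]; ring
  have e2 : f v₁ u₂ = 0 := by
    rw [hv₁, sub_left, hb.smul_left, h12, hu12]; ring
  have e3 : f v₂ u₁ = 0 := by
    rw [hv₂, sub_left, sub_left, hb.smul_left, hb.smul_left, h21, huu, hu21]; ring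
  have e4 : f v₂ u₂ = 1 := by
    rw [hv₂, sub_left, sub_left, hb.smul_left, hb.smul_left, h22, huu2, hu12]; ring
  have e5 : f v₁ v₁ = 0 := by
    rw [hv₁]; simp only [sub_left, sub_right, hb.smul_left, hb.smul_right, h11, huu, k11]; field_simp; ring
  have e6 : f v₂ v₂ = 0 := by
    rw [hv₂]
    simp only [sub_left, sub_right, hb.smul_left, hb.smul_right, h21, h22, huu, huu2, hu12, hu21, k12, k22]
    field_simp; ring
  have e7 : f v₁ v₂ = 0 := by
    rw [hv₁, hv₂]
    simp only [sub_left, sub_right, hb.smul_left, hb.smul_right, h11, h12, h21, h22, huu, huu2, hu12, hu21, k12, k22]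
    ring
  have e8 : f v₂ v₁ = 0 := by rw [hf.symm]; exact e7
  have g1 : f u₁ v₁ = 1 := by rw [hf.symm]; exact e1
  have g2 : f u₂ v₁ = 0 := by rw [hf.symm]; exact e2
  have g3 : f u₁ v₂ = 0 := by rw [hf.symm]; exact e3
  have g4 : f u₂ v₂ = 1 := by rw [hf.symm]; exact e4
  have neg_left : ∀ x z, f (-x) z = - f x z := by
    intro x z; rw [← neg_one_smul F x, hb.smul_left]; ring
  have neg_right : ∀ x z, f z (-x) = - f z x := by
    intro x z; rw [← neg_one_smul F x, hb.smul_right]; ring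
  refine ⟨hypCol u₁ u₂ v₁ v₂, ?_⟩
  have key : ∀ a b c d : Fin 2, f (hypCol u₁ u₂ v₁ v₂ ![a, b]) (hypCol u₁ u₂ v₁ v₂ ![c, d])
      = JJ F a c * JJ F b d := by
    intro a b c d
    fin_cases a <;> fin_cases b <;> fin_cases c <;> fin_cases d <;>
      simp [hypCol, JJ, e1, e2, e3, e4, e5, e6, e7, e8, g1, g2, g3, g4, huu, huu2, hu12, hu21, neg_left, neg_right]
  intro x y
  have hx : x = ![x 0, x 1] := by funext i; fin_cases i <;> rfl
  have hy : y = ![y 0, y 1] := by funext i; fin_cases i <;> rfl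
  conv_lhs => rw [hx, hy]
  exact key _ _ _ _

end Cfsg.Agent.H919
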