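import Cfsg.Agent.H919.TwoRow

/-!
# `Sp₈(2^f)`: the residual class (helper919)

`two_final` : the conclusion of S5824 for `char F = 2`.
-/

set_option autoImplicit false

open Cfsg Cfsg.Geo Matrix

namespace Cfsg.Agent.H919.TwoRow

open Cfsg.Agent.H915.LD

universe u

variable {F : Type u} [Field F] [Fintype F] [CharP F 2]

/-- **S5824, `p = 2`.** -/
theorem two_final {H P : Subgroup (GL (Fin 4 ⊕ Fin 4) F)} (hH : IsMaximalIn (spGL 4 F) H) (hP : IsResidualCore H P)
    (hQ : ¬ FixQ P) (hk : IsKnownSimple' (Soc P)) :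
    (Nonempty (Soc P ≃* ProjectiveSpecialLinearGroup (Fin 2) (ZMod 17)) ∧ Fintype.card F = 2) ∨
      (Nonempty (Soc P ≃* alternatingGroup (Fin 10)) ∧ Fintype.card F = 2) := by
  have hC := core_of_residual hP
  have hA : FixA P := by
    refine ⟨sympForm 4 F, H924.isSymplecticForm_sympForm, ?_⟩
    rintro _ ⟨A, hA, rfl⟩ u v
    exact (hP.le.trans hH.1.le) hA u v
  rcases two_row hC hA (by rw [Fintype.card_sum, Fintype.card_fin]) hk with h | h | h | h
  · exact absurd h hQ
  · exact Or.inl h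
  · exact Or.inr h
  · exact (H925.Nat.CjOf.not_maximal_sp hP h hH).elim

end Cfsg.Agent.H919.TwoRow
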