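import Cfsg.Agent.H925.NatRank
import Cfsg.Agent.H925.NatMain
import Cfsg.Agent.H925.NatConj
import Cfsg.Agent.H911.AdForm
import Cfsg.Agent.H911.AdAltIrr
import Cfsg.Agent.H905.Sp4Final
import Cfsg.Agent.H905.MdN
import Cfsg.Agent.H905.MdI
import Cfsg.Agent.H929.UThreeSD
import Cfsg.Agent.H879.Nine.RowPSU
import Cfsg.Agent.H879.Nine.Ctx
import Cfsg.Agent.H861.SzN.Main
import Cfsg.Agent.H927.LDTwF4
import Cfsg.Agent.H875.TwoQuad
import Cfsg.Agent.H912.Reidx
import Cfsg.Agent.H924.D5L
import Cfsg.Agent.H876.D3.Main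
import Cfsg.Agent.H392.TD.Main
import Cfsg.Agent.H927.G2Main

/-!
# Own characteristic two in dimension eight (helper919)

`own_two` : `Core P`, `FixA P`, `|ι| = 8`, `char F = 2`, `Soc P` of Lie type in characteristic two ⟹ `FixQ P` or `P` is
conjugate to `Sp_8(F)`.
-/

set_option autoImplicit false
set_option linter.unusedSectionVars false

open Cfsg Cfsg.Geo Matrix

namespace Cfsg.Agent.H919.TwoRow

open Cfsg.Agent.H915.LD

universe u

section sl

variable {F : Type u} [Field F]

/-- `SL_n(F)`, `n ≥ 3`, fixes no non-degenerate alternating form -/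
theorem not_fixA_sl {n : ℕ} (hn : 3 ≤ n) : ¬ FixA (specialLinear (Fin n) F) := by
  rintro ⟨f, hf, hP⟩
  have hb := hf.bilinear
  have key : ∀ i j : Fin n, j ≠ i → ∀ v w : Fin n → F,
      f (v + v j • Pi.single i 1) (w + w j • Pi.single i 1) = f v w := by
    intro i j hj v w
    let g : GL (Fin n) F := Matrix.GeneralLinearGroup.mkOfDetNeZero (1 + Matrix.single i j 1) (by
      rw [← Matrix.transvection, Matrix.det_transvection_of_ne i j hj.symm]
      exact one_ne_zero)
    have hg : g ∈ specialLinear (Fin n) F := by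
      change Matrix.GeneralLinearGroup.det g = 1
      apply Units.ext
      change (1 + Matrix.single i j (1 : F)).det = 1
      rw [← Matrix.transvection, Matrix.det_transvection_of_ne i j hj.symm]
    have h2 : ∀ v : Fin n → F, (g : Matrix (Fin n) (Fin n) F) *ᵥ v = v + v j • Pi.single i 1 := by
      intro v
      change (1 + Matrix.single i j (1 : F)) *ᵥ v = _
      rw [Matrix.add_mulVec, Matrix.one_mulVec]
      congr 1
      ext k
      by_cases hk : k = i
      · subst hk
        rw [Matrix.single_mulVec]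
        simp
      · simp [hk, Matrix.single_mulVec]
    have h1 := hP _ ⟨g, hg, rfl⟩ v w
    rwa [h2, h2] at h1
  have h0 : ∀ i k : Fin n, f (Pi.single i 1) (Pi.single k 1) = 0 := by
    intro i k
    obtain ⟨j, hji, hjk⟩ : ∃ j : Fin n, j ≠ i ∧ j ≠ k := by
      by_contra hcon
      push Not at hcon
      have h1 : (Finset.univ : Finset (Fin n)) ⊆ {i, k} := by
        intro j _
        rw [Finset.mem_insert, Finset.mem_singleton]
        by_cases h : j = i
        · exact Or.inl h
        · exact Or.inr (hcon j h)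
      have h2 := Finset.card_le_card h1
      rw [Finset.card_univ, Fintype.card_fin] at h2
      have h3 : ({i, k} : Finset (Fin n)).card ≤ 2 := Finset.card_le_two
      omega
    have h1 := key i j hji (Pi.single j 1) (Pi.single k 1)
    rw [Pi.single_eq_same, one_smul, Pi.single_eq_of_ne hjk, zero_smul, add_zero, hb.add_left] at h1
    exact (add_eq_left.1 h1)
  have hz : ∀ v w : Fin n → F, f v w = 0 := by
    intro v w
    let B : (Fin n → F) →ₗ[F] (Fin n → F) →ₗ[F] F := LinearMap.mk₂ F f hb.add_left (fun c x y => hb.smul_left c x y)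
      (fun x y z => hb.add_right x y z) (fun c x y => hb.smul_right c x y)
    have hB : B = 0 := by
      apply (Pi.basisFun F (Fin n)).ext
      intro i
      apply (Pi.basisFun F (Fin n)).ext
      intro k
      rw [Pi.basisFun_apply, Pi.basisFun_apply]
      exact h0 i k
    have h3 : B v w = 0 := by rw [hB]; rfl
    exact h3
  obtain ⟨⟨x, hx⟩, -⟩ := hf.nondegenerate (Pi.single ⟨0, by omega⟩ 1) (by
    intro h
    have := congrFun h ⟨0, by omega⟩
    rw [Pi.single_eq_same] at this
    exact one_ne_zero this)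
  exact hx (hz _ _)

end sl

variable {F : Type u} [Field F] [Fintype F] [hF2 : CharP F 2] {ι : Type} [Fintype ι] [DecidableEq ι]
  {P : Subgroup (GL ι F)}

theorem FixA.sd (hA : FixA P) : SD P := by
  obtain ⟨f, hf, hP⟩ := hA
  exact H879.Nine.sd_of_form hf.bilinear hf.nondegenerate hP

/-- `PSL_m(K)`, `m ≥ 5`, in dimension eight, fixes no alternating form -/
theorem no_psl (hC : Core P) (hA : FixA P) (h8 : Fintype.card ι = 8) {K : Type} [Field K] [Finite K] [CharP K 2]
    {l : ℕ} (hl : 4 ≤ l) (e : Soc P ≃* ProjectiveSpecialLinearGroup (Fin (l + 1)) K) : False := by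
  have hp : Fact (Nat.Prime 2) := ⟨Nat.prime_two⟩
  have h1 : (5 : ℕ).choose 2 ≤ (l + 1).choose 2 := Nat.choose_le_choose 2 (by omega)
  have h2 : (5 : ℕ).choose 2 = 10 := by decide
  have h3 := H905.Md.psl_dim 2 hC.absIrred hC.perfect (by omega) (by omega) e (by omega) (Or.inl (by omega))
  obtain rfl : l = 7 := by omega
  obtain ⟨f⟩ : Nonempty (ι ≃ Fin 8) := ⟨Fintype.equivFinOfCardEq h8⟩
  have hC' := H912.Rx.core_re f hC
  have hA' : FixA (H912.Rx.re f P) := (H912.Rx.fixA_re f).2 hA
  have e' := (H912.Rx.socEquiv (P := P) f).symm.trans e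
  have h4 := H905.Md.psl_eq (l := 7) 2 hC'.absIrred hC'.perfect (by norm_num) (by norm_num) e' hC'.no_subfield rfl
  rw [h4.2] at hA'
  exact not_fixA_sl (by norm_num) hA'

theorem no_psu (hC : Core P) (hA : FixA P) (h8 : Fintype.card ι = 8) {K : Type} [Field K] [Fintype K] [CharP K 2]
    {N q : ℕ} (hN : 4 ≤ N) (hK : Fintype.card K = q ^ 2) (e : Soc P ≃* PSU N K q) : False := by
  have hp : Fact (Nat.Prime 2) := ⟨Nat.prime_two⟩
  rcases (show N = 4 ∨ 5 ≤ N by omega) with rfl | hN5
  · rcases H876.D3.core_psu_four 2 K (by omega) hK hC e with h | h | h <;> omega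
  · obtain ⟨f⟩ : Nonempty (ι ≃ Fin 8) := ⟨Fintype.equivFinOfCardEq h8⟩
    have hC' := H912.Rx.core_re f hC
    have hA' : FixA (H912.Rx.re f P) := (H912.Rx.fixA_re f).2 hA
    exact H879.Nine.own_psu (p := 2) (by norm_num) hC' (FixA.sd hA') hN5 hK ((H912.Rx.socEquiv (P := P) f).symm.trans e)

/-- **Own characteristic two.** -/
theorem own_two (hC : Core P) (hA : FixA P) (h8 : Fintype.card ι = 8) (hL : IsLieTypeChar 2 (Soc P)) :
    FixQ P ∨ H925.Nat.CjOf (spGL 4 F) P := by
  have hp : Fact (Nat.Prime 2) := ⟨Nat.prime_two⟩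
  have hs := hC.simple
  have hsd := FixA.sd hA
  have hn : Fintype.card ι ≤ 12 := by omega
  rcases H905.Md.small_dc (p := 2) hC.absIrred.1 hC.perfect hL hn with h | h | h | h | h | h | h | h | h | h | h
  · obtain ⟨K, i1, i2, i3, l, hl, h4, ⟨e⟩⟩ := h
    left
    rcases (show l = 1 ∨ l = 2 ∨ l = 3 ∨ 4 ≤ l by omega) with rfl | rfl | rfl | hl4
    · exact H875.TwoQuad.fixQ_two hC e (by omega)
    · exact (H911.Ad.sd_psl3 2 hC hsd e (by omega)).2.1
    · have := (H911.Ad.sd_psl4 2 hC hsd e (by omega)).2.1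
      omega
    · exact (no_psl hC hA h8 hl4 e).elim
  · obtain ⟨K, i1, i2, i3, m, hm, hm2, h3, ⟨e⟩⟩ := h
    rcases (show m = 2 ∨ m = 3 ∨ m = 4 by omega) with rfl | rfl | rfl
    · obtain ⟨-, -, h⟩ := H905.Sp4.core_psp4 2 hC (by rw [Nat.card_eq_fintype_card]; exact h3 rfl) e hn
      omega
    · left
      rcases H924.D5.psp6 (p := 2) hC hn e with h | h
      · have h5 := H925.Nat.CjOf.card_eq h.2
        rw [Fintype.card_sum, Fintype.card_fin] at h5
        omega
      · exact h.fixQ rfl hA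
    · right
      exact (H925.Nat.psp (p := 2) hC hn le_rfl (by norm_num) e).2
  · obtain ⟨K, i1, i2, i3, N, q, hK, hN, hN2, hq, ⟨e⟩⟩ := h
    left
    rcases (show N = 3 ∨ 4 ≤ N by omega) with rfl | hN4
    · have h2 : 3 ≤ q := by
        rcases (show q = 0 ∨ q = 1 ∨ q = 2 ∨ 3 ≤ q by omega) with rfl | rfl | rfl | h
        · exact absurd hK (by rw [zero_pow two_ne_zero]; exact Fintype.card_ne_zero)
        · have := Fintype.one_lt_card (α := K)
          omega
        · exact absurd ⟨rfl, rfl⟩ hq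
        · exact h
      exact H929.U3.fixQ_psu3 2 hC hsd h2 hK e h8
    · exact (no_psu hC hA h8 hN4 hK e).elim
  · obtain ⟨-, K, i1, i2, m, hm, hK, ⟨e⟩⟩ := h
    have := (H861.SzN.sz_four hC hm hK e (by omega)).1
    omega
  · exact absurd h.1 (by norm_num)
  · obtain ⟨K, i1, i2, i3, m, hm, hm2, hodd, -⟩ := h
    obtain ⟨k, -, hk⟩ := FiniteField.card K 2
    rw [hk] at hodd
    exact absurd hodd (by
      rw [Nat.not_odd_iff_even]
      exact even_two.pow_of_ne_zero k.ne_zero)
  · obtain ⟨K, i1, i2, i3, m, hm, hm2, ⟨e⟩⟩ := h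
    obtain rfl : m = 4 := by omega
    exact Or.inl ((H924.D5.po8plus (p := 2) hC hn e).fixQ rfl hA)
  · obtain ⟨K, i1, i2, i3, m, a, b, hm, hm2, hab, ⟨e⟩⟩ := h
    rcases (show m = 4 ∨ m = 5 by omega) with rfl | rfl
    · left
      rcases H924.D5.po8minus (p := 2) hC hn hab e with ⟨τ, h⟩ | h
      · have hab' : ∀ z₁ z₂ : F, z₁ ^ 2 + τ a * z₁ * z₂ + τ b * z₂ ^ 2 = 0 → z₁ = 0 ∧ z₂ = 0 := by
          intro z₁ z₂ hz
          have h1 := hab (τ.symm z₁) (τ.symm z₂) (τ.injective (by
            rw [map_add, map_add, map_mul, map_mul, map_mul, map_pow, map_pow, τ.apply_symm_apply,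
              τ.apply_symm_apply, hz, map_zero]))
          exact ⟨by rw [← τ.apply_symm_apply z₁, h1.1, map_zero], by rw [← τ.apply_symm_apply z₂, h1.2, map_zero]⟩
        have h2 := H925.isND_of_nondeg (LieClassical.OrthForms.nondeg_minusForm 3 F (τ a) (τ b) hab')
        rw [LieClassical.OrthForms.coe_minusForm] at h2
        exact H925.Nat.CjOf.fixQ h2 h
      · exact h.fixQ rfl hA
    · obtain ⟨τ, h⟩ := H925.Nat.po_minus (p := 2) (m := 4) hC hn le_rfl (by norm_num) hab e
      have h5 := H925.Nat.CjOf.card_eq h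
      rw [Fintype.card_sum, Fintype.card_sum, Fintype.card_fin, Fintype.card_fin] at h5
      omega
  · obtain ⟨-, K, i1, i2, i3, h3, ⟨e⟩⟩ := h
    obtain ⟨-, -, -, -, h⟩ := H927.G2.core_g2 2 hC (by rwa [Nat.card_eq_fintype_card]) e hn
    omega
  · obtain ⟨-, K, i1, i2, i3, q, hq, hK, ⟨e⟩⟩ := h
    exact Or.inl (H392.TD.d4_small 2 hC hq hK e hn).2.2.2.1
  · have := H927.LDTwF4.card_le_iso rfl hC.perfect h.2.2
    omega

end Cfsg.Agent.H919.TwoRow
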